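import Groth.Prelude.Def_EtBase
import Groth.Agent.Lib.EtSite.Sheaf

/-!
# Morphisms of etale schemes and restriction to a closed subscheme
-/

universe u

open CategoryTheory CategoryTheory.Limits AlgebraicGeometry

namespace Groth.Agent.EtStalk

variable {X Y : Scheme.{u}} (i : X ⟶ Y)

/-- The projection of a base change to the original scheme. -/
noncomputable abbrev bcFst (V : Y.Etale) : ((EtCoh.bc i).obj V).left ⟶ V.left :=
  pullback.fst V.hom i

lemma bcFst_nat {V W : Y.Etale} (g : V ⟶ W) :
    ((EtCoh.bc i).map g).left ≫ bcFst i W = bcFst i V ≫ g.left :=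
  (EtCoh.isPullback_bc_map i g).w

lemma bc_hom_ext {A : X.Etale} {V : Y.Etale} {f g : A ⟶ (EtCoh.bc i).obj V}
    (h : f.left ≫ bcFst i V = g.left ≫ bcFst i V) : f = g :=
  MorphismProperty.Over.Hom.ext (pullback.hom_ext h
    ((MorphismProperty.Over.w f).trans (MorphismProperty.Over.w g).symm))

lemma etale_left {Z : Scheme.{u}} {A B : Z.Etale} (g : A ⟶ B) :
    AlgebraicGeometry.Etale g.left := by
  have h1 : AlgebraicGeometry.Etale (g.left ≫ B.hom) := by
    rw [MorphismProperty.Over.w g]; exact A.prop
  have h2 : AlgebraicGeometry.Etale B.hom := B.prop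
  exact Etale.of_comp g.left B.hom

/-- A section of an etale morphism is an open immersion. -/
lemma isOpenImmersion_of_section {Z : Scheme.{u}} {A B : Z.Etale} (s : A ⟶ B) (p : B ⟶ A)
    (h : s ≫ p = 𝟙 A) : IsOpenImmersion s.left := by
  have := etale_left s
  have hsp : s.left ≫ p.left = 𝟙 _ := congrArg (fun t => t.left) h
  have : IsSplitMono s.left := ⟨⟨⟨p.left, hsp⟩⟩⟩
  exact IsOpenImmersion.of_flat_of_mono s.left

lemma surjective_bcFst [Surjective i] (V : Y.Etale) : Surjective (bcFst i V) :=
  inferInstanceAs (Surjective (pullback.fst V.hom i))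

/-- Restriction to a subscheme meeting every point is faithful. -/
lemma bc_faithful [Surjective i] : (EtCoh.bc i).Faithful := by
  refine ⟨fun {U U'} a b h => ?_⟩
  have hU : AlgebraicGeometry.Etale U.hom := U.prop
  have hU' : AlgebraicGeometry.Etale U'.hom := U'.prop
  let P : Y.Etale := Scheme.Etale.mk (pullback.fst U.hom U'.hom ≫ U.hom)
  let p : P ⟶ U := MorphismProperty.Over.homMk (pullback.fst U.hom U'.hom) rfl
  let graph : (U ⟶ U') → (U ⟶ P) := fun c => MorphismProperty.Over.homMk
    (pullback.lift (𝟙 _) c.left ((Category.id_comp _).trans (MorphismProperty.Over.w c).symm))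
    ((Category.assoc _ _ _).symm.trans ((congrArg (· ≫ U.hom) (pullback.lift_fst _ _ _)).trans
      (Category.id_comp _)))
  have hg : ∀ c, IsOpenImmersion (graph c).left := fun c => isOpenImmersion_of_section _ p
    (MorphismProperty.Over.Hom.ext (pullback.lift_fst _ _ _))
  have hab : bcFst i U ≫ a.left = bcFst i U ≫ b.left := by
    rw [← bcFst_nat i a, ← bcFst_nat i b, h]
  have heq : bcFst i U ≫ (graph a).left = bcFst i U ≫ (graph b).left := by
    refine pullback.hom_ext ?_ ?_
    · exact (Category.assoc _ _ _).trans ((congrArg (bcFst i U ≫ ·) ((pullback.lift_fst _ _ _).trans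
        (pullback.lift_fst _ _ _).symm)).trans (Category.assoc _ _ _).symm)
    · exact (Category.assoc _ _ _).trans ((congrArg (bcFst i U ≫ ·) (pullback.lift_snd _ _ _)).trans
        (hab.trans ((congrArg (bcFst i U ≫ ·) (pullback.lift_snd _ _ _).symm).trans
          (Category.assoc _ _ _).symm)))
  have hpt : ∀ x : U.left, (graph a).left x = (graph b).left x := fun x => by
    obtain ⟨z, rfl⟩ := (surjective_bcFst i U).surj x
    exact (Scheme.Hom.comp_apply _ _ _).symm.trans
      ((congrArg (fun m : ((EtCoh.bc i).obj U).left ⟶ P.left => m z) heq).trans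
        (Scheme.Hom.comp_apply _ _ _))
  have ha : IsOpenImmersion (graph a).left := hg a
  have hr : Set.range (graph b).left ⊆ Set.range (graph a).left := by
    rintro _ ⟨x, rfl⟩
    exact ⟨x, hpt x⟩
  let e : U.left ⟶ U.left := @IsOpenImmersion.lift _ _ _ (graph a).left (graph b).left ha hr
  have he : e ≫ (graph a).left = (graph b).left :=
    @IsOpenImmersion.lift_fac _ _ _ (graph a).left (graph b).left ha hr
  have he1 : e = 𝟙 _ := (Category.comp_id e).symm.trans ((congrArg (e ≫ ·)
    (pullback.lift_fst _ _ _).symm).trans ((Category.assoc _ _ _).symm.trans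
      ((congrArg (· ≫ pullback.fst U.hom U'.hom) he).trans (pullback.lift_fst _ _ _))))
  rw [he1, Category.id_comp] at he
  refine MorphismProperty.Over.Hom.ext ?_
  exact (pullback.lift_snd _ _ _).symm.trans ((congrArg (· ≫ pullback.snd U.hom U'.hom) he).trans
    (pullback.lift_snd _ _ _))

/-- A morphism which becomes a monomorphism after restriction to a subscheme meeting every point
is an open immersion. -/
lemma isOpenImmersion_of_mono_bc [Surjective i] {W U : Y.Etale} (a : W ⟶ U)
    [Mono ((EtCoh.bc i).map a)] : IsOpenImmersion a.left := by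
  have hW : AlgebraicGeometry.Etale W.hom := W.prop
  have hat : AlgebraicGeometry.Etale a.left := etale_left a
  let P : Y.Etale := Scheme.Etale.mk (pullback.fst a.left a.left ≫ W.hom)
  let p₁ : P ⟶ W := MorphismProperty.Over.homMk (pullback.fst a.left a.left) rfl
  let p₂ : P ⟶ W := MorphismProperty.Over.homMk (pullback.snd a.left a.left) (by
    refine (congrArg (pullback.snd a.left a.left ≫ ·) (MorphismProperty.Over.w a).symm).trans
      ((Category.assoc _ _ _).symm.trans ((congrArg (· ≫ U.hom) pullback.condition.symm).trans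
        ((Category.assoc _ _ _).trans (congrArg (pullback.fst a.left a.left ≫ ·)
          (MorphismProperty.Over.w a))))))
  have hp : p₁ ≫ a = p₂ ≫ a := MorphismProperty.Over.Hom.ext pullback.condition
  have hbc : (EtCoh.bc i).map p₁ = (EtCoh.bc i).map p₂ := by
    rw [← cancel_mono ((EtCoh.bc i).map a), ← Functor.map_comp, ← Functor.map_comp, hp]
  have h12 : bcFst i P ≫ p₁.left = bcFst i P ≫ p₂.left := by
    rw [← bcFst_nat i p₁, ← bcFst_nat i p₂, hbc]
  have hsurj : Surjective (pullback.diagonal a.left) := by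
    refine ⟨fun z => ?_⟩
    obtain ⟨w, rfl⟩ := (surjective_bcFst i P).surj z
    refine ⟨(bcFst i P ≫ p₁.left) w, ?_⟩
    refine (Scheme.Hom.comp_apply _ _ _).symm.trans (congrArg (fun m : _ ⟶ pullback a.left a.left => m w) ?_)
    refine pullback.hom_ext ?_ ?_
    · rw [Category.assoc, pullback.diagonal_fst, Category.comp_id]
      rfl
    · rw [Category.assoc, pullback.diagonal_snd, Category.comp_id]
      exact h12
  have hd : IsOpenImmersion (pullback.diagonal a.left) := inferInstance
  have hdiso : IsIso (pullback.diagonal a.left) :=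
    (isIso_iff_isOpenImmersion_and_epi_base _).2 ⟨hd, (TopCat.epi_iff_surjective _).2 hsurj.surj⟩
  have hmono : Mono a.left := (pullback.isIso_diagonal_iff a.left).1 hdiso
  exact IsOpenImmersion.of_flat_of_mono a.left

/-- Restriction to a subscheme meeting every point reflects isomorphisms. -/
lemma isIso_of_isIso_bc [Surjective i] {W U : Y.Etale} (a : W ⟶ U) [IsIso ((EtCoh.bc i).map a)] :
    IsIso a := by
  have ho : IsOpenImmersion a.left := isOpenImmersion_of_mono_bc i a
  have hs : Function.Surjective a.left := fun x => by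
    obtain ⟨z, rfl⟩ := (surjective_bcFst i U).surj x
    refine ⟨bcFst i W ((inv ((EtCoh.bc i).map a)).left z), ?_⟩
    refine (Scheme.Hom.comp_apply _ _ _).symm.trans ?_
    rw [← bcFst_nat i a]
    exact (Scheme.Hom.comp_apply _ _ _).trans (congrArg (bcFst i U)
      ((Scheme.Hom.comp_apply _ _ _).symm.trans (congrArg (fun m : (EtCoh.bc i).obj U ⟶
        (EtCoh.bc i).obj U => m.left z) (IsIso.inv_hom_id ((EtCoh.bc i).map a)))))
  have : IsIso a.left :=
    (isIso_iff_isOpenImmersion_and_epi_base _).2 ⟨ho, (TopCat.epi_iff_surjective _).2 hs⟩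
  have : IsIso ((Scheme.Etale.forget Y).map a) :=
    @isIso_of_reflects_iso _ _ _ _ _ _ ((Scheme.Etale.forget Y).map a) (Over.forget Y) this _
  exact isIso_of_reflects_iso a (Scheme.Etale.forget Y)

variable [IsClosedImmersion i]

/-- A morphism of restrictions to a closed subscheme comes from an etale neighbourhood. -/
lemma exists_graph {U U' : Y.Etale} (h : (EtCoh.bc i).obj U ⟶ (EtCoh.bc i).obj U') :
    ∃ (W : Y.Etale) (a : W ⟶ U) (b : W ⟶ U'),
      IsIso ((EtCoh.bc i).map a) ∧ (EtCoh.bc i).map a ≫ h = (EtCoh.bc i).map b := by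
  have hU : AlgebraicGeometry.Etale U.hom := U.prop
  have hU' : AlgebraicGeometry.Etale U'.hom := U'.prop
  let P : Y.Etale := Scheme.Etale.mk (pullback.fst U.hom U'.hom ≫ U.hom)
  let pa : P ⟶ U := MorphismProperty.Over.homMk (pullback.fst U.hom U'.hom) rfl
  let pb : P ⟶ U' := MorphismProperty.Over.homMk (pullback.snd U.hom U'.hom) pullback.condition.symm
  have hw1 : bcFst i U ≫ U.hom = (h.left ≫ bcFst i U') ≫ U'.hom := by
    refine pullback.condition.trans ?_
    refine ((congrArg (· ≫ i) (MorphismProperty.Over.w h).symm).trans ?_)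
    exact (Category.assoc _ _ _).trans ((congrArg (h.left ≫ ·) pullback.condition.symm).trans
      (Category.assoc _ _ _).symm)
  let q : ((EtCoh.bc i).obj U).left ⟶ pullback U.hom U'.hom :=
    pullback.lift (bcFst i U) (h.left ≫ bcFst i U') hw1
  have hq : q ≫ P.hom = pullback.snd U.hom i ≫ i := by
    refine (Category.assoc _ _ _).symm.trans ?_
    exact (congrArg (· ≫ U.hom) (pullback.lift_fst _ _ _)).trans pullback.condition
  let sl : ((EtCoh.bc i).obj U).left ⟶ ((EtCoh.bc i).obj P).left :=
    pullback.lift q (pullback.snd U.hom i) hq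
  let s : (EtCoh.bc i).obj U ⟶ (EtCoh.bc i).obj P :=
    MorphismProperty.Over.homMk sl (pullback.lift_snd _ _ _)
  have hs1 : s ≫ (EtCoh.bc i).map pa = 𝟙 _ := bc_hom_ext i (by
    refine (Category.assoc _ _ _).trans ?_
    refine (congrArg (sl ≫ ·) (bcFst_nat i pa)).trans ?_
    refine (Category.assoc _ _ _).symm.trans ?_
    refine (congrArg (· ≫ pullback.fst U.hom U'.hom) (pullback.lift_fst _ _ _)).trans ?_
    exact (pullback.lift_fst _ _ _).trans (Category.id_comp _).symm)
  have hs2 : s ≫ (EtCoh.bc i).map pb = h := bc_hom_ext i (by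
    refine (Category.assoc _ _ _).trans ?_
    refine (congrArg (sl ≫ ·) (bcFst_nat i pb)).trans ?_
    refine (Category.assoc _ _ _).symm.trans ?_
    refine (congrArg (· ≫ pullback.snd U.hom U'.hom) (pullback.lift_fst _ _ _)).trans ?_
    exact pullback.lift_snd _ _ _)
  have hso : IsOpenImmersion s.left := isOpenImmersion_of_section s _ hs1
  have hcl : IsClosedImmersion (bcFst i P) := inferInstanceAs (IsClosedImmersion (pullback.fst P.hom i))
  obtain ⟨O, hO, hOeq⟩ := (bcFst i P).isClosedEmbedding.isEmbedding.isOpen_iff.1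
    s.left.isOpenEmbedding.isOpen_range
  let W : P.left.Opens := ⟨O, hO⟩
  let j : EtSite.sub P W ⟶ P := EtSite.subHom P W
  have hWι : IsOpenImmersion W.ι := inferInstance
  have hjo : IsOpenImmersion ((EtCoh.bc i).map j).left :=
    MorphismProperty.of_isPullback (P := @IsOpenImmersion) (EtCoh.isPullback_bc_map i j).flip hWι
  have hrange : Set.range ((EtCoh.bc i).map j).left = Set.range s.left := by
    rw [← hOeq, ← (EtCoh.isPullback_bc_map i j).isoPullback_hom_fst, Scheme.Hom.comp_base,
      TopCat.coe_comp, Set.range_comp,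
      show Set.range ⇑(EtCoh.isPullback_bc_map i j).isoPullback.hom = Set.univ from
        Set.range_eq_univ.2 (Scheme.Hom.homeomorph (EtCoh.isPullback_bc_map i j).isoPullback.hom).surjective,
      Set.image_univ, Scheme.Pullback.range_fst]
    change bcFst i P ⁻¹' Set.range W.ι = _
    rw [Scheme.Opens.range_ι]
    rfl
  let e := @IsOpenImmersion.isoOfRangeEq _ _ _ ((EtCoh.bc i).map j).left s.left hjo hso hrange
  have he : e.hom ≫ s.left = ((EtCoh.bc i).map j).left :=
    @IsOpenImmersion.isoOfRangeEq_hom_fac _ _ _ ((EtCoh.bc i).map j).left s.left hjo hso hrange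
  let e' : (EtCoh.bc i).obj (EtSite.sub P W) ⟶ (EtCoh.bc i).obj U :=
    MorphismProperty.Over.homMk e.hom (by
      exact (congrArg (e.hom ≫ ·) (MorphismProperty.Over.w s).symm).trans
        ((Category.assoc _ _ _).symm.trans ((congrArg (· ≫ ((EtCoh.bc i).obj P).hom) he).trans
          (MorphismProperty.Over.w _))))
  have he' : e' ≫ s = (EtCoh.bc i).map j := MorphismProperty.Over.Hom.ext he
  have ha : (EtCoh.bc i).map (j ≫ pa) = e' := by
    rw [Functor.map_comp, ← he', Category.assoc, hs1, Category.comp_id]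
  refine ⟨EtSite.sub P W, j ≫ pa, j ≫ pb, ?_, ?_⟩
  · rw [ha]
    have : IsIso e'.left := inferInstanceAs (IsIso e.hom)
    have : IsIso ((Scheme.Etale.forget X).map e') :=
      @isIso_of_reflects_iso _ _ _ _ _ _ ((Scheme.Etale.forget X).map e') (Over.forget X) this _
    exact isIso_of_reflects_iso e' (Scheme.Etale.forget X)
  · rw [ha, Functor.map_comp, ← he', Category.assoc, hs2]

/-- Restriction to a closed subscheme containing every point is fully faithful. -/
lemma bc_full [Surjective i] : (EtCoh.bc i).Full := by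
  refine ⟨fun {U U'} h => ?_⟩
  obtain ⟨W, a, b, ha, hab⟩ := exists_graph i h
  have := isIso_of_isIso_bc i a
  exact ⟨inv a ≫ b, by rw [Functor.map_comp, ← hab, Functor.map_inv, IsIso.inv_hom_id_assoc]⟩

end Groth.Agent.EtStalk
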