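import Groth.Agent.Lib.EtStalk.Basic
import Groth.Agent.Lib.Hens.Pair
import Groth.Agent.Lib.Hens.Local

/-!
# Sections of etale schemes over strictly henselian local rings
-/

universe u

open CategoryTheory CategoryTheory.Limits AlgebraicGeometry Opposite

namespace Groth.Agent.EtStalk

variable (R : Type u) [CommRing R] [HenselianLocalRing R]
  [IsSepClosed (IsLocalRing.ResidueField R)]

/-- The geometric closed point of the spectrum of a strictly henselian local ring. -/
noncomputable abbrev closedPt :
    Spec (CommRingCat.of (IsLocalRing.ResidueField R)) ⟶ Spec (CommRingCat.of R) :=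
  Spec.map (CommRingCat.ofHom (IsLocalRing.residue R))

/-- The tautological element of the fibre of the final object. -/
noncomputable abbrev topFib : fib (closedPt R) (EtCoh.top (Spec (CommRingCat.of R))) :=
  Over.homMk (Spec.map (CommRingCat.ofHom (IsLocalRing.residue R))) (Category.comp_id _)

lemma exists_section {U : (Spec (CommRingCat.of R)).Etale} (φ : fib (closedPt R) U) :
    ∃ σ : EtCoh.top (Spec (CommRingCat.of R)) ⟶ U,
      (Scheme.pointSmallEtale (closedPt R)).fiber.map σ (topFib R) = φ := by
  let φl : Spec (CommRingCat.of (IsLocalRing.ResidueField R)) ⟶ U.left := φ.left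
  have hw : φl ≫ U.hom = closedPt R := Over.w φ
  obtain ⟨E, j, hj, hmem, -⟩ := Scheme.exists_affine_mem_range_and_range_subset
    (x := φl default) (U := ⊤)
    (Set.mem_univ _)
  have hsub : Set.range φl ⊆ Set.range j := by
    rintro _ ⟨a, rfl⟩
    rwa [Subsingleton.elim a default]
  let ψ : Spec (CommRingCat.of (IsLocalRing.ResidueField R)) ⟶ Spec E :=
    IsOpenImmersion.lift j φl hsub
  have hψ : ψ ≫ j = φl := IsOpenImmersion.lift_fac _ _ _
  obtain ⟨a, ha⟩ := Spec.map_surjective (j ≫ U.hom)
  obtain ⟨b, hb⟩ := Spec.map_surjective ψ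
  letI : Algebra R E := a.hom.toAlgebra
  have : AlgebraicGeometry.Etale U.hom := U.prop
  have : AlgebraicGeometry.Etale (Spec.map a) := by rw [ha]; infer_instance
  have : Algebra.Etale R E := HasRingHomProperty.Spec_iff.1 this
  have hab : a ≫ b = CommRingCat.ofHom (IsLocalRing.residue R) := Spec.map_injective (by
    rw [Spec.map_comp, hb, ha, reassoc_of% hψ]; exact hw)
  let s₀ : E →ₐ[R] R ⧸ IsLocalRing.maximalIdeal R :=
    { b.hom with commutes' := fun r => congrArg (fun t => t.hom r) hab }
  obtain ⟨τ, hτ⟩ := Hens.etaleLift_of_henselianRing (Hens.henselianRing_maximalIdeal R) E s₀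
  have hat : a ≫ CommRingCat.ofHom τ.toRingHom = 𝟙 _ := by
    ext r; exact τ.commutes r
  refine ⟨MorphismProperty.Over.homMk (Spec.map (CommRingCat.ofHom τ.toRingHom) ≫ j) ?_, ?_⟩
  · change (_ ≫ j) ≫ U.hom = 𝟙 _
    rw [Category.assoc, ← ha, ← Spec.map_comp, hat, Spec.map_id]
    rfl
  · refine Over.OverMorphism.ext ?_
    change Spec.map _ ≫ Spec.map (CommRingCat.ofHom τ.toRingHom) ≫ j = φl
    rw [← Spec.map_comp_assoc, ← hψ, ← hb]
    congr 1
    refine congrArg Spec.map (CommRingCat.hom_ext (RingHom.ext fun e => ?_))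
    exact AlgHom.congr_fun hτ e

lemma bijective_germ_top (F : EtCoh.Ab (Spec (CommRingCat.of R))) :
    Function.Bijective (germ (closedPt R) F (topFib R)) := by
  constructor
  · intro s t h
    obtain ⟨V, g, y, -, he⟩ := (germ_eq_iff _ F (topFib R) s t).1 h
    obtain ⟨σ, -⟩ := exists_section R y
    have hid : σ ≫ g = 𝟙 _ := MorphismProperty.Over.Hom.ext ((Category.comp_id _).symm.trans
      ((MorphismProperty.Over.w (σ ≫ g)).trans rfl))
    have h2 := congrArg (F.obj.map σ.op) he
    rwa [← ConcreteCategory.comp_apply, ← ConcreteCategory.comp_apply, ← F.obj.map_comp,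
      ← op_comp, hid, op_id, F.obj.map_id] at h2
  · intro p
    obtain ⟨U, φ, t, rfl⟩ := germ_surjective _ F p
    obtain ⟨σ, hσ⟩ := exists_section R φ
    exact ⟨F.obj.map σ.op t, by rw [germ_map, hσ]⟩

end Groth.Agent.EtStalk
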