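import Groth.Agent.Lib.EtStalk.Restr

/-!
# Exactness of extension by zero; restriction preserves injectives
-/

universe u

open CategoryTheory CategoryTheory.Limits AlgebraicGeometry Opposite
open scoped ZeroObject

namespace Groth.Agent.EtStalk

variable {U X : Scheme.{u}} (j : U ⟶ X) [hj : Etale j] [EtShriek.JCont j]

lemma mono_extZero_map {F G : EtCoh.Ab U} (a : F ⟶ G) [Mono a] :
    Mono ((EtShriek.extZero j).map a) := by
  rw [mono_iff_stalk]
  intro Ω _ _ ξ
  rw [← AddCommGrpCat.mono_iff_injective]
  have : AB4OfSize.{u} AddCommGrpCat.{u + 1} := AB4.of_AB5.{u} _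
  have : HasExactColimitsOfShape (Discrete (lifts j ξ)) AddCommGrpCat.{u + 1} := inferInstance
  let t : Discrete.functor (fun p : lifts j ξ => (EtCoh.stalk p.1).obj F) ⟶
      Discrete.functor (fun p : lifts j ξ => (EtCoh.stalk p.1).obj G) :=
    Discrete.natTrans fun p => (EtCoh.stalk p.as.1).map a
  have : ∀ p, Mono (t.app p) := fun p => inferInstanceAs (Mono ((EtCoh.stalk p.as.1).map a))
  have : Mono t := NatTrans.mono_of_mono_app t
  have hm : Mono (Limits.Sigma.map fun p : lifts j ξ => (EtCoh.stalk p.1).map a) :=
    inferInstanceAs (Mono (colim.map t))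
  have : (EtCoh.stalk ξ).map ((EtShriek.extZero j).map a) =
      (stalkExtZero j ξ F).inv ≫ (Limits.Sigma.map fun p : lifts j ξ => (EtCoh.stalk p.1).map a) ≫
        (stalkExtZero j ξ G).hom := by
    rw [Iso.eq_inv_comp]
    exact (sumToStalk_nat j ξ a).symm
  rw [this]
  infer_instance

instance restrAlong_additive : (EtShriek.restrAlong j).Additive where

instance extZero_additive : (EtShriek.extZero j).Additive :=
  (EtShriek.extZeroAdj j).left_adjoint_additive

noncomputable instance preservesFiniteLimits_extZero :
    PreservesFiniteLimits (EtShriek.extZero j) := by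
  have : (EtShriek.extZero j).IsLeftAdjoint := (EtShriek.extZeroAdj j).isLeftAdjoint
  have : (EtShriek.extZero j).PreservesMonomorphisms := ⟨fun a _ => mono_extZero_map j a⟩
  have := ((EtShriek.extZero j).preservesHomology_of_preservesMonos_and_cokernels)
  have he := (Functor.exact_tfae (EtShriek.extZero j)).out 2 3 rfl rfl
  exact (he.1 ‹(EtShriek.extZero j).PreservesHomology›).1

/-- Restriction along an etale morphism preserves injective sheaves. -/
lemma injective_restrAlong (I : EtCoh.Ab X) [Injective I] :
    Injective ((EtShriek.restrAlong j).obj I) := by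
  have : (EtShriek.extZero j).PreservesMonomorphisms := ⟨fun a _ => mono_extZero_map j a⟩
  have : (EtShriek.restrAlong j).IsRightAdjoint := (EtShriek.extZeroAdj j).isRightAdjoint
  exact Injective.injective_of_adjoint (EtShriek.extZeroAdj j) I

/-- Inverse image along an etale morphism preserves injective sheaves. -/
lemma injective_pull (I : EtCoh.Ab X) [Injective I] : Injective ((EtCoh.pull j).obj I) :=
  Injective.of_iso ((restrPullIso j).app I) (injective_restrAlong j I)

omit [EtShriek.JCont j] hj in
/-- Direct image preserves injective sheaves. -/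
lemma injective_push {Y : Scheme.{u}} (f : X ⟶ Y) (I : EtCoh.Ab X) [Injective I] :
    Injective ((EtCoh.push f).obj I) :=
  Injective.injective_of_adjoint (EtCoh.pullPushAdj f) I

end Groth.Agent.EtStalk
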