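import Groth.Prelude.Def_EtShriek2

/-!
# Continuity of composition with an etale morphism
-/

universe u

open CategoryTheory CategoryTheory.Limits AlgebraicGeometry Opposite

namespace Groth.Agent.EtStalk

variable {U X : Scheme.{u}} (j : U ⟶ X) [hj : Etale j]

set_option backward.isDefEq.respectTransparency.types false in
lemma compatiblePreserving_compEtale :
    CompatiblePreserving.{u + 1} X.smallEtaleTopology (EtShriek.compEtale j) := by
  constructor
  intro ℱ Z T x hx Y₁ Y₂ W f₁ f₂ g₁ g₂ hg₁ hg₂ he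
  have hb : f₂.left ≫ Y₂.hom = f₁.left ≫ Y₁.hom := by
    have h : f₁.left ≫ g₁.left = f₂.left ≫ g₂.left := congrArg (fun t => t.left) he
    rw [← MorphismProperty.Over.w g₁, ← MorphismProperty.Over.w g₂]
    exact (Category.assoc _ _ _).symm.trans ((congrArg (· ≫ Z.hom) h.symm).trans (Category.assoc _ _ _))
  have hW : EtCoh.etaleMP ((f₁.left ≫ Y₁.hom) ≫ j) := by
    have e : f₁.left ≫ Y₁.hom ≫ j = W.hom := MorphismProperty.Over.w f₁
    rw [Category.assoc, e]
    exact W.prop
  let W' : U.Etale := MorphismProperty.Over.mk ⊤ (f₁.left ≫ Y₁.hom)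
    (EtCoh.etaleMP.of_postcomp (W' := EtCoh.etaleMP) (f₁.left ≫ Y₁.hom) j hj hW)
  let e : (EtShriek.compEtale j).obj W' ≅ W := MorphismProperty.Over.isoMk (Iso.refl _)
    ((Category.id_comp W.hom).trans ((MorphismProperty.Over.w f₁).symm.trans (Category.assoc _ _ _).symm))
  let h₁ : W' ⟶ Y₁ := MorphismProperty.Over.homMk f₁.left rfl
  let h₂ : W' ⟶ Y₂ := MorphismProperty.Over.homMk f₂.left hb
  have e₁ : (EtShriek.compEtale j).map h₁ = e.hom ≫ f₁ :=
    MorphismProperty.Over.Hom.ext (Category.id_comp _).symm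
  have e₂ : (EtShriek.compEtale j).map h₂ = e.hom ≫ f₂ :=
    MorphismProperty.Over.Hom.ext (Category.id_comp _).symm
  have hc : h₁ ≫ g₁ = h₂ ≫ g₂ :=
    MorphismProperty.Over.Hom.ext (congrArg (fun t => t.left) he :)
  have := hx h₁ h₂ hg₁ hg₂ hc
  apply (ℱ.obj.mapIso e.op).toEquiv.injective
  change ℱ.obj.map e.hom.op (ℱ.obj.map f₁.op (x g₁ hg₁)) = ℱ.obj.map e.hom.op (ℱ.obj.map f₂.op (x g₂ hg₂))
  rw [← Functor.map_comp_apply, ← Functor.map_comp_apply, ← op_comp, ← op_comp, ← e₁, ← e₂]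
  exact this

instance jCont : EtShriek.JCont j :=
  Functor.isContinuous_of_coverPreserving (compatiblePreserving_compEtale j)
    (EtShriek.coverPreserving_compEtale j)

end Groth.Agent.EtStalk
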