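import Groth.Agent.Lib.EtStalk.Push
import Groth.Prelude.Def_EtCore
import Mathlib.Algebra.Homology.DerivedCategory.Ext.ExactSequences

/-!
# Functoriality of the pullback maps on etale cohomology
-/

universe w u

open CategoryTheory CategoryTheory.Limits AlgebraicGeometry Opposite CategoryTheory.Abelian

namespace Groth.Agent.EtStalk

section General

variable {A B C : Type*} [Category A] [Category B] [Category C] [Abelian A] [Abelian B] [Abelian C]
  [HasExt.{w} A] [HasExt.{w} B] [HasExt.{w} C] [EnoughInjectives A]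
  (R₁ : A ⥤ B) (R₂ : B ⥤ C) (R₃ : A ⥤ C)
  [R₁.Additive] [PreservesFiniteLimits R₁] [PreservesFiniteColimits R₁]
  [R₂.Additive] [PreservesFiniteLimits R₂] [PreservesFiniteColimits R₂]
  [R₃.Additive] [PreservesFiniteLimits R₃] [PreservesFiniteColimits R₃]
  (α : R₁ ⋙ R₂ ⟶ R₃)

/-- Naturality of the maps of Ext groups attached to exact functors. -/
lemma mapExt_comp_nat : ∀ (n : ℕ) {X Y : A} (x : Ext X Y n),
    ((x.mapExactFunctor R₁).mapExactFunctor R₂).comp (Ext.mk₀ (α.app Y)) (add_zero n) =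
      (Ext.mk₀ (α.app X)).comp (x.mapExactFunctor R₃) (zero_add n)
  | 0, X, Y, x => by
    obtain ⟨f, rfl⟩ := (Ext.mk₀_bijective _ _).2 x
    rw [Ext.mapExactFunctor_mk₀, Ext.mapExactFunctor_mk₀, Ext.mapExactFunctor_mk₀]
    erw [Ext.mk₀_comp_mk₀, Ext.mk₀_comp_mk₀]
    exact congrArg Ext.mk₀ (α.naturality f)
  | n + 1, X, Y, x => by
    let S := ShortComplex.mk (Injective.ι Y) (cokernel.π (Injective.ι Y))
      (cokernel.condition _)
    have hS : S.ShortExact :=
      { exact := ShortComplex.exact_cokernel (Injective.ι Y) }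
    haveI : Injective S.X₂ := inferInstanceAs (Injective (Injective.under Y))
    obtain ⟨y, rfl⟩ := Ext.covariant_sequence_exact₁ _ hS x (Ext.eq_zero_of_injective _) (n₀ := n) rfl
    rw [Ext.mapExactFunctor_comp, Ext.mapExactFunctor_comp, Ext.mapExactFunctor_comp]
    rw [Ext.mapExactFunctor_extClass R₁ hS, Ext.mapExactFunctor_extClass R₃ hS]
    erw [Ext.mapExactFunctor_extClass R₂ (hS.map_of_exact R₁)]
    let φ : (S.map R₁).map R₂ ⟶ S.map R₃ :=
      { τ₁ := α.app S.X₁
        τ₂ := α.app S.X₂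
        τ₃ := α.app S.X₃
        comm₁₂ := (α.naturality S.f).symm
        comm₂₃ := (α.naturality S.g).symm }
    have hn := ShortComplex.ShortExact.extClass_naturality ((hS.map_of_exact R₁).map_of_exact R₂)
      (hS.map_of_exact R₃) φ
    have ih := mapExt_comp_nat n y
    erw [Ext.comp_assoc_of_third_deg_zero, hn]
    erw [← Ext.comp_assoc_of_second_deg_zero, ih]
    exact Ext.comp_assoc _ _ _ (zero_add n) rfl (by lia)

end General

section Sections

variable {X Y Z : Scheme.{u}}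

/-- The unit section of the constant sheaf. -/
noncomputable def oneSec (X : Scheme.{u}) :
    (EtCoh.const X ℤ).obj.obj (op (EtCoh.top X)) :=
  (EtCore.constAdj X).unit.app (AddCommGrpCat.of (ULift.{u + 1} ℤ)) (ULift.up 1)

lemma const_hom_ext {G : EtCoh.Ab X} {a b : EtCoh.const X ℤ ⟶ G}
    (h : a.hom.app (op (EtCoh.top X)) (oneSec X) = b.hom.app (op (EtCoh.top X)) (oneSec X)) :
    a = b := by
  refine ((EtCore.constAdj X).homEquiv _ _).injective
    ((AddCommGrpCat.uliftZMultiplesAddEquiv _).injective ?_)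
  change ((EtCore.constAdj X).homEquiv _ _ a) (ULift.up 1) =
    ((EtCore.constAdj X).homEquiv _ _ b) (ULift.up 1)
  rw [Adjunction.homEquiv_unit, Adjunction.homEquiv_unit]
  exact h

/-- Two morphisms into a terminal object restrict in the same way. -/
lemma map_terminal {G : EtCoh.Ab X} {U V : X.Etale} (hV : IsTerminal V) (a b : U ⟶ V)
    (s : G.obj.obj (op V)) : G.obj.map a.op s = G.obj.map b.op s := by
  rw [hV.hom_ext a b]

variable (f : X ⟶ Y) (g : Y ⟶ Z)

lemma pullConst_inv_one :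
    (EtCore.pullConst f ℤ).inv.hom.app (op (EtCoh.top X)) (oneSec X) =
      ((EtCoh.pull f).obj (EtCoh.const Y ℤ)).obj.map (EtCore.bcTopIso f).inv.op
        (((EtCoh.pullPushAdj f).unit.app (EtCoh.const Y ℤ)).hom.app (op (EtCoh.top Y))
          (oneSec Y)) := by
  have h := ConcreteCategory.congr_hom (Adjunction.homEquiv_leftAdjointUniq_hom_app (EtCore.constAdj X)
    (((EtCore.constAdj Y).comp (EtCoh.pullPushAdj f)).ofNatIsoRight (EtCore.pushGsecIso f))
    (AddCommGrpCat.of (ULift.{u + 1} ℤ))) (ULift.up 1)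
  rw [Adjunction.homEquiv_unit] at h
  rw [show (EtCore.pullConst f ℤ).inv = _ from
    Adjunction.leftAdjointUniq_inv_app _ _ _]
  exact h

/-- The composition isomorphism applied to iterated units. -/
lemma pullComp_inv_unit (G : EtCoh.Ab Z) {V : Z.Etale} (s : G.obj.obj (op V)) :
    ∃ e : (EtCoh.bc (f ≫ g)).obj V ⟶ (EtCoh.bc f).obj ((EtCoh.bc g).obj V),
      ((EtCoh.pull (f ≫ g)).obj G).obj.map e.op
        (((EtCore.pullComp f g).inv.app G).hom.app (op ((EtCoh.bc f).obj ((EtCoh.bc g).obj V)))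
          (((EtCoh.pullPushAdj f).unit.app ((EtCoh.pull g).obj G)).hom.app (op ((EtCoh.bc g).obj V))
            (((EtCoh.pullPushAdj g).unit.app G).hom.app (op V) s))) =
      ((EtCoh.pullPushAdj (f ≫ g)).unit.app G).hom.app (op V) s := by
  have h := Adjunction.homEquiv_leftAdjointUniq_hom_app
    (((EtCoh.pullPushAdj g).comp (EtCoh.pullPushAdj f)).ofNatIsoRight (EtCoh.pushComp g f))
    (EtCoh.pullPushAdj (f ≫ g)) G
  rw [← Adjunction.leftAdjointUniq_inv_app] at h
  rw [Adjunction.homEquiv_unit] at h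
  have h' := congrArg (fun t : G ⟶ (EtCoh.push (f ≫ g)).obj ((EtCoh.pull (f ≫ g)).obj G) =>
    t.hom.app (op V) s) h
  refine ⟨((MorphismProperty.Over.pullbackComp (P := EtCoh.etaleMP) (Q := ⊤) f g).hom.app V), ?_⟩
  refine Eq.trans ?_ h'
  refine (ConcreteCategory.congr_hom (((EtCore.pullComp f g).inv.app G).hom.naturality _) _).symm.trans ?_
  rfl

lemma pullConst_comp :
    (EtCore.pullConst f ℤ).inv ≫ (EtCoh.pull f).map (EtCore.pullConst g ℤ).inv ≫
      (EtCore.pullComp f g).inv.app (EtCoh.const Z ℤ) = (EtCore.pullConst (f ≫ g) ℤ).inv := by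
  refine const_hom_ext ?_
  obtain ⟨e, he⟩ := pullComp_inv_unit f g (EtCoh.const Z ℤ) (V := EtCoh.top Z) (oneSec Z)
  rw [pullConst_inv_one (f ≫ g), ← he]
  change ((EtCore.pullComp f g).inv.app (EtCoh.const Z ℤ)).hom.app _
    (((EtCoh.pull f).map (EtCore.pullConst g ℤ).inv).hom.app _
      ((EtCore.pullConst f ℤ).inv.hom.app _ (oneSec X))) = _
  rw [pullConst_inv_one f]
  have hn : ((EtCoh.pull f).map (EtCore.pullConst g ℤ).inv).hom.app (op ((EtCoh.bc f).obj (EtCoh.top Y)))
      (((EtCoh.pullPushAdj f).unit.app (EtCoh.const Y ℤ)).hom.app (op (EtCoh.top Y)) (oneSec Y)) =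
      ((EtCoh.pullPushAdj f).unit.app ((EtCoh.pull g).obj (EtCoh.const Z ℤ))).hom.app
        (op (EtCoh.top Y)) ((EtCore.pullConst g ℤ).inv.hom.app (op (EtCoh.top Y)) (oneSec Y)) :=
    (congrArg (fun t : EtCoh.const Y ℤ ⟶ (EtCoh.push f).obj ((EtCoh.pull f).obj
      ((EtCoh.pull g).obj (EtCoh.const Z ℤ))) => t.hom.app (op (EtCoh.top Y)) (oneSec Y))
      ((EtCoh.pullPushAdj f).unit.naturality (EtCore.pullConst g ℤ).inv)).symm
  erw [NatTrans.naturality_apply, hn, pullConst_inv_one g, NatTrans.naturality_apply]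
  erw [NatTrans.naturality_apply, NatTrans.naturality_apply]
  refine (Functor.map_comp_apply _ _ _ _).symm.trans (Eq.trans ?_ (Functor.map_comp_apply _ _ _ _))
  refine DFunLike.congr_fun (congrArg (fun m => ConcreteCategory.hom
    (((EtCoh.pull (f ≫ g)).obj (EtCoh.const Z ℤ)).obj.map m)) ?_) _
  exact Quiver.Hom.unop_inj
    ((IsTerminal.isTerminalObj (EtCoh.bc f) _ (EtCore.bcTopIsTerminal g)).hom_ext _ _)

end Sections

section Hpull

variable {X Y Z : Scheme.{u}} (f : X ⟶ Y) (t : Y ⟶ Z)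

lemma Hpull_eq [PreservesFiniteLimits (EtCoh.pull f)] (G : EtCoh.Ab Y) (n : ℕ) (x : EtCoh.H Y G n) :
    EtCore.Hpull f G n x =
      (Ext.mk₀ (EtCore.pullConst f ℤ).inv).comp (x.mapExactFunctor (EtCoh.pull f)) (zero_add n) := rfl

end Hpull

end Groth.Agent.EtStalk
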