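import Groth.Agent.Lib.EtStalk.OpenImm
import Groth.Agent.Lib.EtStalk.HpullComp
import Groth.Agent.Lib.SiteCoh.ExtAdj

/-!
# Cohomology of an etale scheme as an Ext group of an extension by zero
-/

universe u

open CategoryTheory CategoryTheory.Limits AlgebraicGeometry Opposite CategoryTheory.Abelian

namespace Groth.Agent.EtStalk

section Basic

variable {U X : Scheme.{u}} (j : U ⟶ X) [Etale j]

/-- Extension by zero is left adjoint to inverse image. -/
noncomputable def shriekPullAdj : EtShriek.extZero j ⊣ EtCoh.pull j :=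
  (EtShriek.extZeroAdj j).ofNatIsoRight (restrPullIso j)

/-- The extension by zero of the constant sheaf. -/
noncomputable abbrev zExt : EtCoh.Ab X := (EtShriek.extZero j).obj (EtCoh.const U ℤ)

/-- Ext groups out of the extension by zero compute cohomology. -/
noncomputable def extCohEquiv (F : EtCoh.Ab X) (n : ℕ) :
    Ext (zExt j) F n ≃+ EtCoh.H U ((EtCoh.pull j).obj F) n :=
  SiteCoh.extAdjEquiv (shriekPullAdj j) (fun I _ => injective_pull j I) (EtCoh.const U ℤ) F n

lemma extCohEquiv_apply (F : EtCoh.Ab X) (n : ℕ) (x : Ext (zExt j) F n) :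
    extCohEquiv j F n x =
      (Ext.mk₀ ((shriekPullAdj j).unit.app (EtCoh.const U ℤ))).comp
        (x.mapExactFunctor (EtCoh.pull j)) (zero_add n) := rfl

lemma extCohEquiv_mk₀_comp {A : EtCoh.Ab X} (a : zExt j ⟶ A) (F : EtCoh.Ab X) (n : ℕ)
    (x : Ext A F n) :
    extCohEquiv j F n ((Ext.mk₀ a).comp x (zero_add n)) =
      (Ext.mk₀ ((shriekPullAdj j).homEquiv _ _ a)).comp
        (x.mapExactFunctor (EtCoh.pull j)) (zero_add n) := by
  rw [extCohEquiv_apply, Ext.mapExactFunctor_comp, Ext.mapExactFunctor_mk₀,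
    Ext.mk₀_comp_mk₀_assoc, Adjunction.homEquiv_unit]

/-- The canonical map to the constant sheaf. -/
noncomputable def zExtCounit : zExt j ⟶ EtCoh.const X ℤ :=
  ((shriekPullAdj j).homEquiv _ _).symm (EtCore.pullConst j ℤ).inv

lemma extCohEquiv_counit [PreservesFiniteLimits (EtCoh.pull j)] (F : EtCoh.Ab X) (n : ℕ)
    (x : EtCoh.H X F n) :
    extCohEquiv j F n ((Ext.mk₀ (zExtCounit j)).comp x (zero_add n)) = EtCore.Hpull j F n x := by
  rw [extCohEquiv_mk₀_comp, zExtCounit, Equiv.apply_symm_apply]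
  rfl

end Basic

section Transition

variable {W U X : Scheme.{u}} (k : W ⟶ U) (j : U ⟶ X) (j' : W ⟶ X) (w : k ≫ j = j')
  [Etale j] [Etale j']

/-- The comparison isomorphism of iterated inverse images. -/
noncomputable def pullVia : EtCoh.pull j ⋙ EtCoh.pull k ≅ EtCoh.pull j' :=
  (EtCore.pullComp k j).symm ≪≫ EtCore.pullCongr w

/-- The map of extensions by zero attached to a morphism over `X`. -/
noncomputable def zExtMap : zExt j' ⟶ zExt j :=
  ((shriekPullAdj j').homEquiv _ _).symm ((EtCore.pullConst k ℤ).inv ≫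
    (EtCoh.pull k).map ((shriekPullAdj j).unit.app (EtCoh.const U ℤ)) ≫
      (pullVia k j j' w).hom.app (zExt j))

lemma zExtMap_counit : zExtMap k j j' w ≫ zExtCounit j = zExtCounit j' := by
  apply ((shriekPullAdj j').homEquiv _ _).injective
  rw [Adjunction.homEquiv_naturality_right, zExtMap, Equiv.apply_symm_apply, zExtCounit,
    zExtCounit, Equiv.apply_symm_apply]
  have h1 := ((shriekPullAdj j).homEquiv_unit (X := EtCoh.const U ℤ) (Y := EtCoh.const X ℤ)
    (f := zExtCounit j)).symm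
  rw [zExtCounit, Equiv.apply_symm_apply] at h1
  simp only [Category.assoc]
  erw [← (pullVia k j j' w).hom.naturality]
  rw [Functor.comp_map, ← (EtCoh.pull k).map_comp_assoc]
  erw [h1]
  subst w
  have : EtCore.pullCongr (rfl : k ≫ j = k ≫ j) = Iso.refl _ := rfl
  simp only [pullVia, this, Iso.trans_refl, Iso.symm_hom]
  exact pullConst_comp k j

lemma HpullVia_extCohEquiv [PreservesFiniteLimits (EtCoh.pull k)] (F : EtCoh.Ab X) (n : ℕ)
    (x : Ext (zExt j) F n) :
    EtCore.HpullVia k j j' w F n (extCohEquiv j F n x) =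
      extCohEquiv j' F n ((Ext.mk₀ (zExtMap k j j' w)).comp x (zero_add n)) := by
  rw [extCohEquiv_mk₀_comp, zExtMap, Equiv.apply_symm_apply, extCohEquiv_apply]
  change ((Ext.mk₀ (EtCore.pullConst k ℤ).inv).comp (((Ext.mk₀ _).comp
    (x.mapExactFunctor (EtCoh.pull j)) (zero_add n)).mapExactFunctor (EtCoh.pull k)) (zero_add n)).comp
      (Ext.mk₀ ((pullVia k j j' w).hom.app F)) (add_zero n) = _
  rw [Ext.mapExactFunctor_comp, Ext.mapExactFunctor_mk₀]
  simp only [Ext.comp_assoc_of_third_deg_zero]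
  erw [mapExt_comp_nat (EtCoh.pull j) (EtCoh.pull k) (EtCoh.pull j') (pullVia k j j' w).hom n x,
    Ext.mk₀_comp_mk₀_assoc, Ext.mk₀_comp_mk₀_assoc]
  rw [Category.assoc]

end Transition

section Open

variable {U X : Scheme.{u}} (j : U ⟶ X) [IsOpenImmersion j]

lemma isIso_pull_map_counit : IsIso ((EtCoh.pull j).map (zExtCounit j)) := by
  have hu : IsIso ((shriekPullAdj j).unit.app (EtCoh.const U ℤ)) := by
    simp only [shriekPullAdj, Adjunction.ofNatIsoRight, Adjunction.mkOfHomEquiv_unit_app,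
      Adjunction.equivHomsetRightOfNatIso, Equiv.trans_apply, Adjunction.homEquiv_id,
      Equiv.coe_fn_mk]
    infer_instance
  have h : IsIso ((shriekPullAdj j).unit.app (EtCoh.const U ℤ) ≫
      (EtCoh.pull j).map (zExtCounit j)) := by
    have e := ((shriekPullAdj j).homEquiv_unit (X := EtCoh.const U ℤ) (Y := EtCoh.const X ℤ)
      (f := zExtCounit j)).symm
    rw [zExtCounit, Equiv.apply_symm_apply] at e
    rw [zExtCounit]
    erw [e]
    infer_instance
  exact IsIso.of_isIso_comp_left ((shriekPullAdj j).unit.app (EtCoh.const U ℤ)) _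

lemma bijective_stalk_zExtCounit {Ω : Type u} [Field Ω] [IsSepClosed Ω]
    (ξ : Spec (CommRingCat.of Ω) ⟶ X) (h : ξ (default : Spec (CommRingCat.of Ω)) ∈ Set.range j) :
    Function.Bijective ((EtCoh.stalk ξ).map (zExtCounit j)) := by
  obtain ⟨ζ, rfl⟩ := exists_lift_point_open j ξ h
  have := isIso_pull_map_counit j
  rw [show (EtCoh.stalk (ζ ≫ j)).map (zExtCounit j) =
      stalkPull j ζ _ ≫ (EtCoh.stalk ζ).map ((EtCoh.pull j).map (zExtCounit j)) ≫
        inv (stalkPull j ζ (EtCoh.const X ℤ)) by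
    rw [← Category.assoc, IsIso.eq_comp_inv, stalkPull_nat]]
  exact ConcreteCategory.bijective_of_isIso _

lemma subsingleton_stalk_zExt {Ω : Type u} [Field Ω] [IsSepClosed Ω]
    (ξ : Spec (CommRingCat.of Ω) ⟶ X) (h : ξ (default : Spec (CommRingCat.of Ω)) ∉ Set.range j) :
    Subsingleton ((EtCoh.stalk ξ).obj (zExt j)) :=
  AddCommGrpCat.subsingleton_of_isZero (stalk_extZero_isZero j (EtCoh.const U ℤ) ξ h)

end Open

end Groth.Agent.EtStalk
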