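import Groth.Prelude.Def_EtBase
import Groth.Agent.Lib.Hens.EtaleLift
import Mathlib.AlgebraicGeometry.Morphisms.ClosedImmersion

/-!
# Etale schemes over a closed subscheme lift locally to the ambient scheme
-/

universe u

open CategoryTheory CategoryTheory.Limits AlgebraicGeometry

namespace Groth.Agent.EtStalk

/-- `E → C` surjective with kernel `I E` makes `C` the pushout of `A → A ⧸ I` and `A → E`. -/
lemma isPushout_quotient {A E C : Type u} [CommRing A] [CommRing E] [CommRing C] [Algebra A E]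
    (I : Ideal A) [Algebra (A ⧸ I) C] (φ : E →+* C) (hφ : Function.Surjective φ)
    (hker : RingHom.ker φ = I.map (algebraMap A E))
    (hc : φ.comp (algebraMap A E) = (algebraMap (A ⧸ I) C).comp (Ideal.Quotient.mk I)) :
    IsPushout (CommRingCat.ofHom (algebraMap A E)) (CommRingCat.ofHom (Ideal.Quotient.mk I))
      (CommRingCat.ofHom φ) (CommRingCat.ofHom (algebraMap (A ⧸ I) C)) := by
  refine ⟨⟨CommRingCat.hom_ext hc⟩, ⟨PushoutCocone.isColimitAux' _ fun s => ?_⟩⟩
  have hk : RingHom.ker φ ≤ RingHom.ker s.inl.hom := by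
    rw [hker, Ideal.map_le_iff_le_comap]
    intro a ha
    have h := congrArg (fun t => t.hom a) s.condition
    simp only [CommRingCat.hom_comp, RingHom.comp_apply, CommRingCat.hom_ofHom,
      Ideal.Quotient.eq_zero_iff_mem.2 ha, map_zero] at h
    simpa [Ideal.mem_comap] using h
  refine ⟨CommRingCat.ofHom (RingHom.liftOfSurjective φ hφ ⟨s.inl.hom, hk⟩), ?_, ?_, ?_⟩
  · exact CommRingCat.hom_ext (RingHom.liftOfSurjective_comp φ hφ _)
  · refine CommRingCat.hom_ext (Ideal.Quotient.ringHom_ext (RingHom.ext fun a => ?_))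
    have h := congrArg (fun t => t.hom a) s.condition
    change RingHom.liftOfSurjective φ hφ ⟨s.inl.hom, hk⟩ (algebraMap (A ⧸ I) C (Ideal.Quotient.mk I a)) = _
    rw [← RingHom.comp_apply (algebraMap (A ⧸ I) C), ← hc, RingHom.comp_apply]
    exact (RingHom.congr_fun (RingHom.liftOfSurjective_comp φ hφ ⟨s.inl.hom, hk⟩) _).trans h
  · intro m h1 _
    refine CommRingCat.hom_ext (RingHom.ext fun c => ?_)
    obtain ⟨e, rfl⟩ := hφ c
    exact (congrArg (fun t => t.hom e) h1).trans
      (RingHom.congr_fun (RingHom.liftOfSurjective_comp φ hφ ⟨s.inl.hom, hk⟩) e).symm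

/-- Around every point, an etale scheme over a closed subscheme is the restriction of an etale
scheme over the ambient scheme. -/
theorem exists_lift_at {X Y : Scheme.{u}} (f : X ⟶ Y) [IsClosedImmersion f] (U : X.Etale)
    (x : U.left) :
    ∃ (V : Y.Etale) (h : pullback V.hom f ⟶ U.left), IsOpenImmersion h ∧
      h ≫ U.hom = pullback.snd V.hom f ∧ ∃ y : ↥(pullback V.hom f), h.base y = x := by
  obtain ⟨W, hW, hxW, -⟩ := exists_isAffineOpen_mem_and_subset
    (U := (⊤ : Y.Opens)) (x := f (U.hom x)) (Set.mem_univ _)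
  let A := Γ(Y, W)
  let j : Spec A ⟶ Y := hW.fromSpec
  have hcl : IsClosedImmersion (pullback.fst j f) := inferInstance
  obtain ⟨I, e, he⟩ := IsClosedImmersion.Spec_iff.1 hcl
  let q : Spec (CommRingCat.of (A ⧸ I)) ⟶ X := e.inv ≫ pullback.snd j f
  let π : Spec (CommRingCat.of (A ⧸ I)) ⟶ Spec A := Spec.map (CommRingCat.ofHom (Ideal.Quotient.mk I))
  have hq : IsPullback π q j f := by
    refine IsPullback.of_iso_pullback ⟨?_⟩ e.symm ?_ rfl
    · have h1 : π = e.inv ≫ pullback.fst j f := by rw [he, e.inv_hom_id_assoc]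
      rw [h1, Category.assoc, Category.assoc, pullback.condition]
    · change e.inv ≫ pullback.fst j f = π
      rw [he, e.inv_hom_id_assoc]
  have hx0 : U.hom x ∈ q.opensRange := by
    have : U.hom x ∈ Set.range (pullback.snd j f) := by
      rw [Scheme.Pullback.range_snd]
      change f (U.hom x) ∈ Set.range j
      rw [hW.range_fromSpec]
      exact hxW
    obtain ⟨z, hz⟩ := this
    refine ⟨e.hom z, ?_⟩
    rw [← Scheme.Hom.comp_apply]
    simp only [q, e.hom_inv_id_assoc]
    exact hz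
  obtain ⟨U', hU', hxU', hsub⟩ := exists_isAffineOpen_mem_and_subset
    (U := U.hom ⁻¹ᵁ q.opensRange) (x := x) hx0
  let C := Γ(U.left, U')
  let k : Spec C ⟶ U.left := hU'.fromSpec
  have hrange : Set.range (k ≫ U.hom) ⊆ Set.range q := by
    rintro _ ⟨z, rfl⟩
    rw [Scheme.Hom.comp_apply]
    exact hsub (hU'.range_fromSpec.subset ⟨z, rfl⟩)
  obtain ⟨β, hβ⟩ := Spec.map_surjective (IsOpenImmersion.lift q (k ≫ U.hom) hrange)
  have hβq : Spec.map β ≫ q = k ≫ U.hom := by rw [hβ, IsOpenImmersion.lift_fac]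
  letI : Algebra (A ⧸ I) C := β.hom.toAlgebra
  letI : Algebra A C := (β.hom.comp (Ideal.Quotient.mk I)).toAlgebra
  have : IsScalarTower A (A ⧸ I) C := IsScalarTower.of_algebraMap_eq fun _ => rfl
  have : AlgebraicGeometry.Etale U.hom := U.prop
  have : AlgebraicGeometry.Etale (Spec.map β ≫ q) := by rw [hβq]; infer_instance
  have : AlgebraicGeometry.Etale (Spec.map β) := Etale.of_comp (Spec.map β) q
  have : Algebra.Etale (A ⧸ I) C := HasRingHomProperty.Spec_iff.1 this
  obtain ⟨E, _, _, _, φ, hφ, hker⟩ := Hens.exists_etale_lift A I C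
  let α : A ⟶ CommRingCat.of E := CommRingCat.ofHom (algebraMap A E)
  have : AlgebraicGeometry.Etale (Spec.map α) :=
    HasRingHomProperty.Spec_iff.2 (RingHom.etale_algebraMap.2 ‹Algebra.Etale A E›)
  let V : Y.Etale := Scheme.Etale.mk (Spec.map α ≫ j)
  have hsq : IsPullback (Spec.map (CommRingCat.ofHom φ.toRingHom)) (Spec.map β ≫ q) V.hom f :=
    (isPullback_SpecMap_of_isPushout _ _ _ _ (isPushout_quotient I φ.toRingHom hφ hker
      (RingHom.ext φ.commutes))).paste_vert hq
  refine ⟨V, hsq.isoPullback.inv ≫ k, inferInstance, ?_, ?_⟩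
  · rw [Category.assoc, ← hβq]
    exact hsq.isoPullback_inv_snd
  · obtain ⟨z, hz⟩ : x ∈ Set.range k := by rw [hU'.range_fromSpec]; exact hxU'
    refine ⟨hsq.isoPullback.hom z, ?_⟩
    exact (Scheme.Hom.comp_apply _ _ _).symm.trans ((congrArg (fun m : Spec C ⟶ U.left => m z)
      (hsq.isoPullback.hom_inv_id_assoc k)).trans hz)

end Groth.Agent.EtStalk
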