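import Groth.Agent.Lib.EtStalk.Pull
import Groth.Agent.Lib.EtStalk.EtLift
import Mathlib.AlgebraicGeometry.Morphisms.ClosedImmersion

/-!
# Stalks of direct images along closed immersions; exactness of inverse image
-/

universe u

open CategoryTheory CategoryTheory.Limits AlgebraicGeometry Opposite
open scoped ZeroObject

namespace Groth.Agent.EtStalk

variable {X Y : Scheme.{u}}

/-- Sections over an empty etale scheme vanish. -/
lemma isZero_of_isEmpty (F : EtCoh.Ab X) (U : X.Etale) (h : IsEmpty U.left) :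
    IsZero (F.obj.obj (op U)) :=
  (isZero_zero _).of_iso ((Sheaf.isTerminalOfBotCover F U (by
    rw [EtSite.mem_et_iff]; exact fun x => (h.false x).elim)).uniqueUpToIso
      (isZero_zero _).isTerminal)

section Comparison

variable (i : X ⟶ Y) {Ω : Type u} [Field Ω] [IsSepClosed Ω] (ζ : Spec (CommRingCat.of Ω) ⟶ X)

set_option backward.isDefEq.respectTransparency.types false in
lemma liftFib_map {V W : Y.Etale} (g : V ⟶ W) (x : fib (ζ ≫ i) V) :
    liftFib i ζ ((Scheme.pointSmallEtale (ζ ≫ i)).fiber.map g x) =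
      (Scheme.pointSmallEtale ζ).fiber.map ((EtCoh.bc i).map g) (liftFib i ζ x) :=
  ((fiberIso i ζ).hom.naturality_apply g x :)

/-- The canonical map `stalk (ζ ≫ i) (i_* G) ⟶ stalk ζ G`. -/
noncomputable def pushStalk (G : EtCoh.Ab X) :
    (EtCoh.stalk (ζ ≫ i)).obj ((EtCoh.push i).obj G) ⟶ (EtCoh.stalk ζ).obj G :=
  (Scheme.pointSmallEtale (ζ ≫ i)).presheafFiberDesc
    (P := ((EtCoh.push i).obj G).obj) (fun V x => germ ζ G (liftFib i ζ x))
    (fun V W g x => ConcreteCategory.hom_ext _ _ fun s =>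
      (germ_map ζ G ((EtCoh.bc i).map g) (liftFib i ζ x) s).trans
        (congrArg (fun z => germ ζ G z s) (liftFib_map i ζ g x).symm))

lemma germ_pushStalk (G : EtCoh.Ab X) {V : Y.Etale} (x : fib (ζ ≫ i) V)
    (s : G.obj.obj (op ((EtCoh.bc i).obj V))) :
    pushStalk i ζ G (germ (ζ ≫ i) ((EtCoh.push i).obj G) x s) = germ ζ G (liftFib i ζ x) s :=
  ConcreteCategory.congr_hom (show germ (ζ ≫ i) ((EtCoh.push i).obj G) x ≫ pushStalk i ζ G =
      germ ζ G (liftFib i ζ x) from
    GrothendieckTopology.Point.toPresheafFiber_presheafFiberDesc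
      (Scheme.pointSmallEtale (ζ ≫ i)) (P := ((EtCoh.push i).obj G).obj)
      (fun V x => germ ζ G (liftFib i ζ x)) _ V x) s

lemma pushStalk_nat {G G' : EtCoh.Ab X} (a : G ⟶ G') :
    (EtCoh.stalk (ζ ≫ i)).map ((EtCoh.push i).map a) ≫ pushStalk i ζ G' =
      pushStalk i ζ G ≫ (EtCoh.stalk ζ).map a := by
  refine ConcreteCategory.hom_ext _ _ fun p => ?_
  obtain ⟨V, x, s, rfl⟩ := germ_surjective _ _ p
  simp only [ConcreteCategory.comp_apply]
  rw [germ_nat, germ_pushStalk]
  exact ((congrArg ((EtCoh.stalk ζ).map a) (germ_pushStalk i ζ G x s)).trans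
    (germ_nat ζ a (liftFib i ζ x) s)).symm

/-- The counit composed with the stalk comparison of the inverse image is the comparison of the
direct image. -/
lemma stalkPull_counit (G : EtCoh.Ab X) :
    stalkPull i ζ ((EtCoh.push i).obj G) ≫ (EtCoh.stalk ζ).map ((EtCoh.pullPushAdj i).counit.app G) =
      pushStalk i ζ G := by
  refine ConcreteCategory.hom_ext _ _ fun p => ?_
  obtain ⟨V, x, s, rfl⟩ := germ_surjective _ _ p
  rw [ConcreteCategory.comp_apply, germ_stalkPull, germ_nat, germ_pushStalk]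
  have h := (EtCoh.pullPushAdj i).right_triangle_components G
  have h' := congrArg (fun t : (EtCoh.push i).obj G ⟶ (EtCoh.push i).obj G => t.hom.app (op V) s) h
  exact congrArg (germ ζ G (liftFib i ζ x)) h'

/-- The stalk of the unit composed with the comparison of the direct image is the comparison of
the inverse image. -/
lemma unit_pushStalk (F : EtCoh.Ab Y) :
    (EtCoh.stalk (ζ ≫ i)).map ((EtCoh.pullPushAdj i).unit.app F) ≫
      pushStalk i ζ ((EtCoh.pull i).obj F) = stalkPull i ζ F := by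
  refine ConcreteCategory.hom_ext _ _ fun p => ?_
  obtain ⟨V, x, s, rfl⟩ := germ_surjective _ _ p
  rw [ConcreteCategory.comp_apply, germ_nat]
  exact (germ_pushStalk i ζ ((EtCoh.pull i).obj F) x _).trans (germ_stalkPull i ζ F x s).symm

end Comparison

section Exactness

variable (f : X ⟶ Y)

lemma stalkPull_nat {Ω : Type u} [Field Ω] [IsSepClosed Ω] (ξ : Spec (CommRingCat.of Ω) ⟶ X)
    {G G' : EtCoh.Ab Y} (a : G ⟶ G') :
    stalkPull f ξ G ≫ (EtCoh.stalk ξ).map ((EtCoh.pull f).map a) =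
      (EtCoh.stalk (ξ ≫ f)).map a ≫ stalkPull f ξ G' := by
  refine ConcreteCategory.hom_ext _ _ fun p => ?_
  obtain ⟨V, x, s, rfl⟩ := germ_surjective _ _ p
  simp only [ConcreteCategory.comp_apply]
  rw [germ_stalkPull, germ_nat, germ_nat, germ_stalkPull]
  exact congrArg (germ ξ _ (liftFib f ξ x))
    (congrArg (fun t : G ⟶ (EtCoh.push f).obj ((EtCoh.pull f).obj G') => t.hom.app (op V) s)
      ((EtCoh.pullPushAdj f).unit.naturality a)).symm

/-- Inverse image preserves monomorphisms. -/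
lemma mono_pull_map {G G' : EtCoh.Ab Y} (a : G ⟶ G') [Mono a] : Mono ((EtCoh.pull f).map a) := by
  rw [mono_iff_stalk]
  intro Ω _ _ ξ
  rw [← AddCommGrpCat.mono_iff_injective]
  have : (EtCoh.stalk ξ).map ((EtCoh.pull f).map a) =
      inv (stalkPull f ξ G) ≫ (EtCoh.stalk (ξ ≫ f)).map a ≫ stalkPull f ξ G' := by
    rw [IsIso.eq_inv_comp, stalkPull_nat]
  rw [this]
  have : Mono ((EtCoh.stalk (ξ ≫ f)).map a) := inferInstance
  exact mono_comp _ _

noncomputable instance preservesFiniteLimits_pull : PreservesFiniteLimits (EtCoh.pull f) := by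
  have : (EtCoh.pull f).IsLeftAdjoint := (EtCoh.pullPushAdj f).isLeftAdjoint
  have : (EtCoh.pull f).Additive := (EtCoh.pullPushAdj f).left_adjoint_additive
  have : (EtCoh.pull f).PreservesMonomorphisms := ⟨fun a _ => mono_pull_map f a⟩
  have := ((EtCoh.pull f).preservesHomology_of_preservesMonos_and_cokernels)
  have he := (Functor.exact_tfae (EtCoh.pull f)).out 2 3 rfl rfl
  exact (he.1 ‹(EtCoh.pull f).PreservesHomology›).1

end Exactness

section ClosedImmersion

variable (i : X ⟶ Y) [IsClosedImmersion i]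

/-- A geometric point landing in a closed subscheme factors through it. -/
lemma exists_lift_point {Ω : Type u} [Field Ω] [IsSepClosed Ω] (ξ : Spec (CommRingCat.of Ω) ⟶ Y)
    (h : ξ (default : Spec (CommRingCat.of Ω)) ∈ Set.range i) :
    ∃ ζ : Spec (CommRingCat.of Ω) ⟶ X, ζ ≫ i = ξ := by
  have hs : Surjective (pullback.fst ξ i) := by
    refine ⟨fun z => ?_⟩
    obtain ⟨x, hx⟩ := h
    rw [Subsingleton.elim z default]
    obtain ⟨w, hw, -⟩ := Scheme.Pullback.exists_preimage_pullback
      (f := ξ) (g := i) (default : Spec (CommRingCat.of Ω)) x hx.symm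
    exact ⟨w, hw⟩
  have : IsIso (pullback.fst ξ i) := isIso_of_isClosedImmersion_of_surjective _
  exact ⟨inv (pullback.fst ξ i) ≫ pullback.snd ξ i, by
    rw [Category.assoc, ← pullback.condition, IsIso.inv_hom_id_assoc]⟩

/-- An etale neighbourhood in the closed subscheme is refined by the restriction of one of the
ambient scheme. -/
lemma exists_bc_refinement {V : Y.Etale} {U : X.Etale} (g : U ⟶ (EtCoh.bc i).obj V) (u : U.left) :
    ∃ (V' : Y.Etale) (gV : V' ⟶ V) (m : (EtCoh.bc i).obj V' ⟶ U),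
      IsOpenImmersion m.left ∧ m ≫ g = (EtCoh.bc i).map gV ∧
        ∃ y : ((EtCoh.bc i).obj V').left, m.left y = u := by
  let f' : ((EtCoh.bc i).obj V).left ⟶ V.left := pullback.fst V.hom i
  have : IsClosedImmersion f' := inferInstanceAs (IsClosedImmersion (pullback.fst V.hom i))
  have : AlgebraicGeometry.Etale g.left := by
    have h1 : AlgebraicGeometry.Etale (g.left ≫ ((EtCoh.bc i).obj V).hom) := by
      rw [MorphismProperty.Over.w g]; exact U.prop
    have h2 : AlgebraicGeometry.Etale ((EtCoh.bc i).obj V).hom := ((EtCoh.bc i).obj V).prop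
    exact Etale.of_comp g.left ((EtCoh.bc i).obj V).hom
  obtain ⟨V1, h, ho, hw, y, hy⟩ := exists_lift_at f' (Scheme.Etale.mk g.left) u
  have : AlgebraicGeometry.Etale V1.hom := V1.prop
  have : AlgebraicGeometry.Etale V.hom := V.prop
  let V' : Y.Etale := Scheme.Etale.mk (V1.hom ≫ V.hom)
  let gV : V' ⟶ V := MorphismProperty.Over.homMk V1.hom rfl
  have sq := (EtCoh.isPullback_bc_map i gV).flip
  let m₀ : ((EtCoh.bc i).obj V').left ⟶ U.left := sq.isoPullback.hom ≫ h
  have hm : m₀ ≫ g.left = ((EtCoh.bc i).map gV).left :=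
    (Category.assoc _ _ _).trans ((congrArg (sq.isoPullback.hom ≫ ·) hw).trans
      sq.isoPullback_hom_snd)
  let m : (EtCoh.bc i).obj V' ⟶ U := MorphismProperty.Over.homMk m₀ (by
    rw [← MorphismProperty.Over.w g, ← Category.assoc, hm]
    exact MorphismProperty.Over.w _)
  have hiso : IsOpenImmersion sq.isoPullback.hom := IsOpenImmersion.of_isIso _
  have hm' : IsOpenImmersion m₀ :=
    MorphismProperty.comp_mem @IsOpenImmersion _ _ hiso ho
  refine ⟨V', gV, m, hm', MorphismProperty.Over.Hom.ext hm, sq.isoPullback.inv y, ?_⟩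
  exact (Scheme.Hom.comp_apply _ _ _).symm.trans ((congrArg (fun k => k y)
    (sq.isoPullback.inv_hom_id_assoc h)).trans hy)

variable {Ω : Type u} [Field Ω] [IsSepClosed Ω]

/-- Every etale neighbourhood of a geometric point of the closed subscheme is refined by the
restriction of one of the ambient scheme. -/
lemma exists_fib_refinement (ζ : Spec (CommRingCat.of Ω) ⟶ X) {V : Y.Etale} {U : X.Etale}
    (g : U ⟶ (EtCoh.bc i).obj V) (φ : fib ζ U) :
    ∃ (V' : Y.Etale) (gV : V' ⟶ V) (m : (EtCoh.bc i).obj V' ⟶ U) (x : fib (ζ ≫ i) V'),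
      m ≫ g = (EtCoh.bc i).map gV ∧ (Scheme.pointSmallEtale ζ).fiber.map m (liftFib i ζ x) = φ := by
  let φl : Spec (CommRingCat.of Ω) ⟶ U.left := φ.left
  obtain ⟨V', gV, m, ho, hm, y, hy⟩ := exists_bc_refinement i g (φl default)
  have : IsOpenImmersion m.left := ho
  have hsub : Set.range φl ⊆ Set.range m.left := by
    rintro _ ⟨a, rfl⟩
    rw [Subsingleton.elim a default]
    exact ⟨y, hy⟩
  let ψl : Spec (CommRingCat.of Ω) ⟶ ((EtCoh.bc i).obj V').left :=
    @IsOpenImmersion.lift _ _ _ m.left φl ho hsub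
  have hψl : ψl ≫ m.left = φl := @IsOpenImmersion.lift_fac _ _ _ m.left φl ho hsub
  let ψ : fib ζ ((EtCoh.bc i).obj V') := Over.homMk ψl (by
    have hw : φl ≫ U.hom = ζ := Over.w φ
    exact (congrArg (ψl ≫ ·) (MorphismProperty.Over.w m).symm).trans
      ((Category.assoc _ _ _).symm.trans ((congrArg (· ≫ U.hom) hψl).trans hw)))
  refine ⟨V', gV, m, dropFib i ζ ψ, hm, ?_⟩
  rw [show liftFib i ζ (dropFib i ζ ψ) = ψ from
    ((fiberIso i ζ).app V').toEquiv.apply_symm_apply ψ]
  exact Over.OverMorphism.ext hψl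

lemma bijective_pushStalk (ζ : Spec (CommRingCat.of Ω) ⟶ X) (G : EtCoh.Ab X) :
    Function.Bijective (pushStalk i ζ G) := by
  constructor
  · refine (injective_iff_map_eq_zero _).2 fun p hp => ?_
    obtain ⟨V, x, s, rfl⟩ := germ_surjective _ _ p
    rw [germ_pushStalk, ← map_zero (germ ζ G (liftFib i ζ x)).hom] at hp
    obtain ⟨U, g, φ, hφ, he⟩ := (germ_eq_iff ζ G _ s 0).1 hp
    obtain ⟨V', gV, m, x', hm, hx'⟩ := exists_fib_refinement i ζ g φ
    have hx : (Scheme.pointSmallEtale (ζ ≫ i)).fiber.map gV x' = x := by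
      refine ((fiberIso i ζ).app V).toEquiv.injective ?_
      change liftFib i ζ _ = liftFib i ζ x
      rw [liftFib_map, ← hm, Functor.map_comp, ConcreteCategory.comp_apply, hx', hφ]
    rw [← hx, ← germ_map]
    have h0 : ((EtCoh.push i).obj G).obj.map gV.op s = 0 := by
      change G.obj.map ((EtCoh.bc i).map gV).op s = 0
      rw [← hm, op_comp, G.obj.map_comp, ConcreteCategory.comp_apply, he, map_zero, map_zero]
    rw [h0, map_zero]
  · intro p
    obtain ⟨U, φ, t, rfl⟩ := germ_surjective _ _ p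
    have hT : IsTerminal ((EtCoh.bc i).obj (EtCoh.top Y)) :=
      IsTerminal.isTerminalObj (EtCoh.bc i) _ (MorphismProperty.Over.mkIdTerminal _ _)
    obtain ⟨V', gV, m, x', -, hx'⟩ := exists_fib_refinement i ζ (hT.from U) φ
    exact ⟨germ (ζ ≫ i) ((EtCoh.push i).obj G) x' (G.obj.map m.op t),
      (germ_pushStalk _ _ _ _ _).trans ((germ_map _ _ _ _ _).trans (by rw [hx']))⟩

instance (ζ : Spec (CommRingCat.of Ω) ⟶ X) (G : EtCoh.Ab X) : IsIso (pushStalk i ζ G) :=
  (ConcreteCategory.isIso_iff_bijective _).2 (bijective_pushStalk i ζ G)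

omit [IsClosedImmersion i] in
lemma isEmpty_bc_of_disjoint {V : Y.Etale} (h : Disjoint (Set.range V.hom) (Set.range i)) :
    IsEmpty ((EtCoh.bc i).obj V).left := by
  refine ⟨fun q => Set.disjoint_left.1 h ⟨(pullback.fst V.hom i) q, rfl⟩
    ⟨(pullback.snd V.hom i) q, ?_⟩⟩
  exact (Scheme.Hom.comp_apply _ _ _).symm.trans ((congrArg
    (fun m : pullback V.hom i ⟶ Y => m q) pullback.condition.symm).trans (Scheme.Hom.comp_apply _ _ _))

/-- Away from a closed subscheme the stalk of a sheaf whose sections vanish there is zero. -/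
lemma stalk_isZero_of_sections (F : EtCoh.Ab Y)
    (hF : ∀ U : Y.Etale, Disjoint (Set.range U.hom.base) (Set.range i.base) → IsZero (F.obj.obj (op U)))
    (ξ : Spec (CommRingCat.of Ω) ⟶ Y) (hξ : ξ (default : Spec (CommRingCat.of Ω)) ∉ Set.range i) :
    IsZero ((EtCoh.stalk ξ).obj F) := by
  refine @AddCommGrpCat.isZero_of_subsingleton _ (subsingleton_of_forall_eq 0 fun p => ?_)
  obtain ⟨V, x, s, rfl⟩ := germ_surjective _ _ p
  let W : V.left.Opens := V.hom ⁻¹ᵁ ⟨_, i.isClosedEmbedding.isClosed_range.isOpen_compl⟩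
  let x₀ : Spec (CommRingCat.of Ω) ⟶ V.left := x.left
  have hsub : Set.range x₀ ⊆ Set.range W.ι := by
    rintro _ ⟨a, rfl⟩
    rw [Scheme.Opens.range_ι, Subsingleton.elim a (default : Spec (CommRingCat.of Ω))]
    change V.hom _ ∉ Set.range i
    have hw : x₀ ≫ V.hom = ξ := Over.w x
    rw [← Scheme.Hom.comp_apply, hw]
    exact hξ
  have hWι : IsOpenImmersion W.ι := inferInstance
  let xl : Spec (CommRingCat.of Ω) ⟶ W.toScheme := @IsOpenImmersion.lift _ _ _ W.ι x₀ hWι hsub
  have hxl : xl ≫ W.ι = x₀ := @IsOpenImmersion.lift_fac _ _ _ W.ι x₀ hWι hsub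
  let y : fib ξ (EtSite.sub V W) := Over.homMk xl (by
    exact (Category.assoc _ _ _).symm.trans ((congrArg (· ≫ V.hom) hxl).trans (Over.w x)))
  have hy : (Scheme.pointSmallEtale ξ).fiber.map (EtSite.subHom V W) y = x :=
    Over.OverMorphism.ext hxl
  rw [← hy, ← germ_map]
  have hd : Disjoint (Set.range (EtSite.sub V W).hom.base) (Set.range i.base) := by
    rw [Set.disjoint_left]
    rintro _ ⟨q, rfl⟩
    exact q.2
  have := AddCommGrpCat.subsingleton_of_isZero (hF (EtSite.sub V W) hd)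
  rw [Subsingleton.elim (F.obj.map (EtSite.subHom V W).op s) 0, map_zero]

lemma push_sections_isZero (G : EtCoh.Ab X) (U : Y.Etale)
    (h : Disjoint (Set.range U.hom.base) (Set.range i.base)) :
    IsZero (((EtCoh.push i).obj G).obj.obj (op U)) :=
  isZero_of_isEmpty G _ (isEmpty_bc_of_disjoint i h)

lemma stalk_push_isZero (G : EtCoh.Ab X) (ξ : Spec (CommRingCat.of Ω) ⟶ Y)
    (hξ : ξ (default : Spec (CommRingCat.of Ω)) ∉ Set.range i) :
    IsZero ((EtCoh.stalk ξ).obj ((EtCoh.push i).obj G)) :=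
  stalk_isZero_of_sections i _ (push_sections_isZero i G) ξ hξ

end ClosedImmersion

section Adjunction

variable (i : X ⟶ Y) [IsClosedImmersion i]

instance isIso_counit : IsIso (EtCoh.pullPushAdj i).counit := by
  rw [NatTrans.isIso_iff_isIso_app]
  intro G
  rw [isIso_iff_stalk]
  intro Ω _ _ ζ
  rw [← ConcreteCategory.isIso_iff_bijective,
    show (EtCoh.stalk ζ).map ((EtCoh.pullPushAdj i).counit.app G) =
      inv (stalkPull i ζ ((EtCoh.push i).obj G)) ≫ pushStalk i ζ G by
        rw [IsIso.eq_inv_comp, stalkPull_counit]]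
  infer_instance

/-- A sheaf supported on a closed subscheme is the direct image of its inverse image. -/
lemma isIso_unit_of_sections (F : EtCoh.Ab Y)
    (hF : ∀ U : Y.Etale, Disjoint (Set.range U.hom.base) (Set.range i.base) → IsZero (F.obj.obj (op U))) :
    IsIso ((EtCoh.pullPushAdj i).unit.app F) := by
  rw [isIso_iff_stalk]
  intro Ω _ _ ξ
  by_cases h : ξ (default : Spec (CommRingCat.of Ω)) ∈ Set.range i
  · obtain ⟨ζ, rfl⟩ := exists_lift_point i ξ h
    rw [← ConcreteCategory.isIso_iff_bijective,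
      show (EtCoh.stalk (ζ ≫ i)).map ((EtCoh.pullPushAdj i).unit.app F) =
        stalkPull i ζ F ≫ inv (pushStalk i ζ ((EtCoh.pull i).obj F)) by
          rw [IsIso.eq_comp_inv, unit_pushStalk]]
    infer_instance
  · have h1 := AddCommGrpCat.subsingleton_of_isZero (stalk_isZero_of_sections i F hF ξ h)
    have h2 := AddCommGrpCat.subsingleton_of_isZero
      (stalk_push_isZero i ((EtCoh.pull i).obj F) ξ h)
    exact ⟨fun a b _ => @Subsingleton.elim _ h1 a b, fun b => ⟨0, @Subsingleton.elim _ h2 _ _⟩⟩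

/-- Direct image along a closed immersion preserves epimorphisms. -/
lemma epi_push_map {G G' : EtCoh.Ab X} (a : G ⟶ G') [Epi a] : Epi ((EtCoh.push i).map a) := by
  rw [epi_iff_stalk]
  intro Ω _ _ ξ
  by_cases h : ξ (default : Spec (CommRingCat.of Ω)) ∈ Set.range i
  · obtain ⟨ζ, rfl⟩ := exists_lift_point i ξ h
    rw [← AddCommGrpCat.epi_iff_surjective,
      show (EtCoh.stalk (ζ ≫ i)).map ((EtCoh.push i).map a) =
        pushStalk i ζ G ≫ (EtCoh.stalk ζ).map a ≫ inv (pushStalk i ζ G') by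
          rw [← Category.assoc, IsIso.eq_comp_inv, pushStalk_nat]]
    infer_instance
  · have h2 := AddCommGrpCat.subsingleton_of_isZero (stalk_push_isZero i G' ξ h)
    exact fun b => ⟨0, @Subsingleton.elim _ h2 _ _⟩

noncomputable instance preservesFiniteColimits_push : PreservesFiniteColimits (EtCoh.push i) := by
  have : (EtCoh.push i).IsRightAdjoint := (EtCoh.pullPushAdj i).isRightAdjoint
  have : (EtCoh.push i).PreservesEpimorphisms := ⟨fun a _ => epi_push_map i a⟩
  have := ((EtCoh.push i).preservesHomology_of_preservesEpis_and_kernels)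
  have he := (Functor.exact_tfae (EtCoh.push i)).out 2 3 rfl rfl
  exact (he.1 ‹(EtCoh.push i).PreservesHomology›).2

end Adjunction

end Groth.Agent.EtStalk
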