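import Groth.Prelude.Def_EtShriek2
import Groth.Agent.Lib.EtStalk.Push
import Mathlib.CategoryTheory.Abelian.GrothendieckAxioms.Basic
import Mathlib.CategoryTheory.Preadditive.Injective.Basic

/-!
# Restriction along an etale morphism and extension by zero on stalks
-/

universe u

open CategoryTheory CategoryTheory.Limits AlgebraicGeometry Opposite

namespace Groth.Agent.EtStalk

variable {U X : Scheme.{u}} (j : U ⟶ X) [hj : Etale j]

/-- Composition with an etale morphism is left adjoint to base change along it. -/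
noncomputable def compBcAdj : EtShriek.compEtale j ⊣ EtCoh.bc j :=
  MorphismProperty.Over.mapPullbackAdj EtCoh.etaleMP.{u} ⊤ j hj trivial

/-- Restriction along an etale morphism is left adjoint to direct image. -/
noncomputable def restrPushAdj [EtShriek.JCont j] : EtShriek.restrAlong j ⊣ EtCoh.push j :=
  (compBcAdj j).sheafPushforwardContinuous U.smallEtaleTopology X.smallEtaleTopology

/-- Restriction along an etale morphism is inverse image. -/
noncomputable def restrPullIso [EtShriek.JCont j] : EtShriek.restrAlong j ≅ EtCoh.pull j :=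
  (restrPushAdj j).leftAdjointUniq (EtCoh.pullPushAdj j)

variable {Ω : Type u} [Field Ω] [IsSepClosed Ω] (ξ : Spec (CommRingCat.of Ω) ⟶ X)

/-- The geometric points of `U` over `ξ`. -/
abbrev lifts : Type u := {p : Spec (CommRingCat.of Ω) ⟶ U // p ≫ j = ξ}

/-- An element of the fibre at a lift of `ξ` gives one at `ξ`. -/
noncomputable def compFib {V : U.Etale} (p : lifts j ξ) (y : fib p.1 V) :
    fib ξ ((EtShriek.compEtale j).obj V) :=
  Over.homMk y.left ((Category.assoc _ _ _).symm.trans ((congrArg (· ≫ j) (Over.w y)).trans p.2))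

/-- The lift of `ξ` under an element of the fibre. -/
noncomputable def baseLift {V : U.Etale} (x : fib ξ ((EtShriek.compEtale j).obj V)) : lifts j ξ :=
  ⟨(x.left : Spec (CommRingCat.of Ω) ⟶ V.left) ≫ V.hom, (Category.assoc _ _ _).trans (Over.w x)⟩

/-- The element of the fibre at the lift. -/
noncomputable def baseFib {V : U.Etale} (x : fib ξ ((EtShriek.compEtale j).obj V)) :
    fib (baseLift j ξ x).1 V :=
  Over.homMk x.left rfl

lemma compFib_baseFib {V : U.Etale} (x : fib ξ ((EtShriek.compEtale j).obj V)) :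
    compFib j ξ (baseLift j ξ x) (baseFib j ξ x) = x :=
  Over.OverMorphism.ext rfl

variable [EtShriek.JCont j]

/-- The candidate for the stalk of an extension by zero. -/
noncomputable abbrev sumStalk (F : EtCoh.Ab U) : AddCommGrpCat.{u + 1} :=
  ∐ fun p : lifts j ξ => (EtCoh.stalk p.1).obj F

/-- The comparison map to the stalk of the extension by zero. -/
noncomputable def sumToStalk (F : EtCoh.Ab U) :
    sumStalk j ξ F ⟶ (EtCoh.stalk ξ).obj ((EtShriek.extZero j).obj F) :=
  Sigma.desc fun p => (Scheme.pointSmallEtale p.1).presheafFiberDesc (P := F.obj)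
    (fun V y => ((EtShriek.extZeroAdj j).unit.app F).hom.app (op V) ≫
      germ ξ ((EtShriek.extZero j).obj F) (compFib j ξ p y))
    (fun V W g y => ConcreteCategory.hom_ext _ _ fun s => by
      refine (congrArg (germ ξ ((EtShriek.extZero j).obj F) (compFib j ξ p y)) (ConcreteCategory.congr_hom
        (((EtShriek.extZeroAdj j).unit.app F).hom.naturality g.op) s)).trans ?_
      refine (germ_map ξ ((EtShriek.extZero j).obj F) ((EtShriek.compEtale j).map g) (compFib j ξ p y) _).trans ?_
      exact congrArg (fun z => germ ξ ((EtShriek.extZero j).obj F) z _) (Over.OverMorphism.ext rfl))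

lemma ι_sumToStalk (F : EtCoh.Ab U) (p : lifts j ξ) {V : U.Etale} (y : fib p.1 V) :
    germ p.1 F y ≫ Sigma.ι (fun p : lifts j ξ => (EtCoh.stalk p.1).obj F) p ≫ sumToStalk j ξ F =
      ((EtShriek.extZeroAdj j).unit.app F).hom.app (op V) ≫
        germ ξ ((EtShriek.extZero j).obj F) (compFib j ξ p y) := by
  have h : Sigma.ι (fun p : lifts j ξ => (EtCoh.stalk p.1).obj F) p ≫ sumToStalk j ξ F = _ :=
    Sigma.ι_desc _ _
  rw [h]
  exact GrothendieckTopology.Point.toPresheafFiber_presheafFiberDesc _ _ _ V y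

/-- The family defining the inverse comparison. -/
noncomputable def toSumFamily (F : EtCoh.Ab U) :
    F ⟶ (EtShriek.restrAlong j).obj ((Scheme.pointSmallEtale ξ).skyscraperSheaf (sumStalk j ξ F)) where
  hom :=
    { app V := Pi.lift fun x : fib ξ ((EtShriek.compEtale j).obj V.unop) =>
        germ (baseLift j ξ x).1 F (baseFib j ξ x) ≫
          Sigma.ι (fun p : lifts j ξ => (EtCoh.stalk p.1).obj F) (baseLift j ξ x)
      naturality {V W} g := by
        refine Pi.hom_ext _ _ fun x => ?_
        let x' := (Scheme.pointSmallEtale ξ).fiber.map ((EtShriek.compEtale j).map g.unop) x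
        have hmap : ((EtShriek.restrAlong j).obj ((Scheme.pointSmallEtale ξ).skyscraperSheaf
            (sumStalk j ξ F))).obj.map g ≫ Pi.π _ x = Pi.π _ x' := by
          exact Pi.lift_π _ x
        refine (Category.assoc _ _ _).trans ((congrArg (F.obj.map g ≫ ·) (Pi.lift_π _ _)).trans ?_)
        refine Eq.trans ?_ ((Category.assoc _ _ _).trans ((congrArg (_ ≫ ·) hmap).trans (Pi.lift_π _ x'))).symm
        have hx : baseLift j ξ x' = baseLift j ξ x := Subtype.ext
          ((Category.assoc _ _ _).trans (congrArg ((x.left : Spec (CommRingCat.of Ω) ⟶ W.unop.left) ≫ ·)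
            (MorphismProperty.Over.w g.unop)))
        have key : ∀ (p : lifts j ξ) (hp : p = baseLift j ξ x) (y : fib p.1 V.unop),
            y.left = ((x.left : Spec (CommRingCat.of Ω) ⟶ W.unop.left) ≫ g.unop.left) →
            F.obj.map g ≫ germ (baseLift j ξ x).1 F (baseFib j ξ x) ≫
              Sigma.ι (fun p : lifts j ξ => (EtCoh.stalk p.1).obj F) (baseLift j ξ x) =
              germ p.1 F y ≫ Sigma.ι (fun p : lifts j ξ => (EtCoh.stalk p.1).obj F) p := by
          rintro _ rfl y hy
          rw [← Category.assoc]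
          congr 1
          refine ConcreteCategory.hom_ext _ _ fun s => ?_
          exact (germ_map _ F g.unop _ s).trans
            (congrArg (fun z => germ (baseLift j ξ x).1 F z s) (Over.OverMorphism.ext hy.symm))
        exact key _ hx (baseFib j ξ x') rfl }

/-- The inverse comparison. -/
noncomputable def stalkToSum (F : EtCoh.Ab U) :
    (EtCoh.stalk ξ).obj ((EtShriek.extZero j).obj F) ⟶ sumStalk j ξ F :=
  ((Scheme.pointSmallEtale ξ).skyscraperSheafAdjunction.homEquiv _ _).symm
    (((EtShriek.extZeroAdj j).homEquiv _ _).symm (toSumFamily j ξ F))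

lemma skyscraper_homEquiv_app {G : EtCoh.Ab X} {M : AddCommGrpCat.{u + 1}}
    (g : (EtCoh.stalk ξ).obj G ⟶ M) {W : X.Etale} (x : fib ξ W) :
    ((Scheme.pointSmallEtale ξ).skyscraperSheafAdjunction.homEquiv G M g).hom.app (op W) ≫
      Pi.π (fun _ : fib ξ W => M) x = germ ξ G x ≫ g :=
  (congrArg (fun t => t.app (op W) ≫ Pi.π (fun _ : fib ξ W => M) x)
    ((Scheme.pointSmallEtale ξ).skyscraperSheafAdjunction_homEquiv_apply_hom g)).trans
    ((Scheme.pointSmallEtale ξ).skyscraperPresheafHomEquiv_app_π g W x)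

/-- A map out of the stalk of the extension by zero is determined on the sections coming from `U`. -/
lemma homEquiv_extZero_app {F : EtCoh.Ab U} {M : AddCommGrpCat.{u + 1}}
    (g : (EtCoh.stalk ξ).obj ((EtShriek.extZero j).obj F) ⟶ M) {V : U.Etale}
    (x : fib ξ ((EtShriek.compEtale j).obj V)) :
    (((EtShriek.extZeroAdj j).homEquiv _ _)
      ((Scheme.pointSmallEtale ξ).skyscraperSheafAdjunction.homEquiv _ _ g)).hom.app (op V) ≫
      Pi.π (fun _ : fib ξ ((EtShriek.compEtale j).obj V) => M) x =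
    ((EtShriek.extZeroAdj j).unit.app F).hom.app (op V) ≫ germ ξ ((EtShriek.extZero j).obj F) x ≫ g := by
  rw [Adjunction.homEquiv_unit]
  refine (Category.assoc _ _ _).trans ?_
  exact congrArg (((EtShriek.extZeroAdj j).unit.app F).hom.app (op V) ≫ ·) (skyscraper_homEquiv_app ξ g x)

lemma stalk_extZero_hom_ext {F : EtCoh.Ab U} {M : AddCommGrpCat.{u + 1}}
    {g g' : (EtCoh.stalk ξ).obj ((EtShriek.extZero j).obj F) ⟶ M}
    (h : ∀ (V : U.Etale) (x : fib ξ ((EtShriek.compEtale j).obj V)),
      ((EtShriek.extZeroAdj j).unit.app F).hom.app (op V) ≫ germ ξ ((EtShriek.extZero j).obj F) x ≫ g =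
      ((EtShriek.extZeroAdj j).unit.app F).hom.app (op V) ≫ germ ξ ((EtShriek.extZero j).obj F) x ≫ g') :
    g = g' := by
  apply ((Scheme.pointSmallEtale ξ).skyscraperSheafAdjunction.homEquiv _ _).injective
  apply ((EtShriek.extZeroAdj j).homEquiv _ _).injective
  refine Sheaf.hom_ext (NatTrans.ext (funext fun V => Pi.hom_ext _ _ fun x => ?_))
  exact (homEquiv_extZero_app j ξ g x).trans ((h V.unop x).trans (homEquiv_extZero_app j ξ g' x).symm)

lemma unit_stalkToSum (F : EtCoh.Ab U) {V : U.Etale} (x : fib ξ ((EtShriek.compEtale j).obj V)) :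
    ((EtShriek.extZeroAdj j).unit.app F).hom.app (op V) ≫ germ ξ ((EtShriek.extZero j).obj F) x ≫
      stalkToSum j ξ F =
    germ (baseLift j ξ x).1 F (baseFib j ξ x) ≫
      Sigma.ι (fun p : lifts j ξ => (EtCoh.stalk p.1).obj F) (baseLift j ξ x) := by
  rw [← homEquiv_extZero_app, stalkToSum, Equiv.apply_symm_apply, Equiv.apply_symm_apply]
  exact Pi.lift_π _ x

lemma sum_hom_inv (F : EtCoh.Ab U) : sumToStalk j ξ F ≫ stalkToSum j ξ F = 𝟙 _ := by
  refine Sigma.hom_ext _ _ fun p => GrothendieckTopology.Point.presheafFiber_hom_ext _ fun V y => ?_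
  change germ p.1 F y ≫ Sigma.ι (fun p : lifts j ξ => (EtCoh.stalk p.1).obj F) p ≫
      sumToStalk j ξ F ≫ stalkToSum j ξ F =
    germ p.1 F y ≫ Sigma.ι (fun p : lifts j ξ => (EtCoh.stalk p.1).obj F) p ≫ 𝟙 _
  rw [Category.comp_id, ← Category.assoc (Sigma.ι _ p), ← Category.assoc, ι_sumToStalk, Category.assoc,
    unit_stalkToSum]
  have key : ∀ (q : lifts j ξ) (hq : q = p) (z : fib q.1 V), z.left = y.left →
      germ q.1 F z ≫ Sigma.ι (fun p : lifts j ξ => (EtCoh.stalk p.1).obj F) q =
      germ p.1 F y ≫ Sigma.ι (fun p : lifts j ξ => (EtCoh.stalk p.1).obj F) p := by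
    rintro _ rfl z hz
    rw [show z = y from Over.OverMorphism.ext hz]
  exact key _ (Subtype.ext (Over.w y)) _ rfl

lemma sum_inv_hom (F : EtCoh.Ab U) : stalkToSum j ξ F ≫ sumToStalk j ξ F = 𝟙 _ := by
  refine stalk_extZero_hom_ext j ξ fun V x => ?_
  rw [Category.comp_id]
  refine Eq.trans ?_ ((ι_sumToStalk j ξ F (baseLift j ξ x) (baseFib j ξ x)).trans
    (congrArg (fun z => _ ≫ germ ξ ((EtShriek.extZero j).obj F) z) (compFib_baseFib j ξ x)))
  refine ((congrArg (((EtShriek.extZeroAdj j).unit.app F).hom.app (op V) ≫ ·)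
    (Category.assoc _ _ _).symm).trans ((Category.assoc _ _ _).symm.trans ?_))
  exact (congrArg (· ≫ sumToStalk j ξ F) (unit_stalkToSum j ξ F x)).trans (Category.assoc _ _ _)

/-- The stalk of an extension by zero. -/
noncomputable def stalkExtZero (F : EtCoh.Ab U) :
    sumStalk j ξ F ≅ (EtCoh.stalk ξ).obj ((EtShriek.extZero j).obj F) :=
  ⟨sumToStalk j ξ F, stalkToSum j ξ F, sum_hom_inv j ξ F, sum_inv_hom j ξ F⟩

lemma sumToStalk_nat {F G : EtCoh.Ab U} (a : F ⟶ G) :
    Limits.Sigma.map (fun p : lifts j ξ => (EtCoh.stalk p.1).map a) ≫ sumToStalk j ξ G =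
      sumToStalk j ξ F ≫ (EtCoh.stalk ξ).map ((EtShriek.extZero j).map a) := by
  refine Sigma.hom_ext _ _ fun p => ?_
  rw [← Category.assoc, Limits.Sigma.ι_map, Category.assoc]
  refine GrothendieckTopology.Point.presheafFiber_hom_ext _ fun V y => ConcreteCategory.hom_ext _ _ fun s => ?_
  have hl := ConcreteCategory.congr_hom (ι_sumToStalk j ξ G p y) (a.hom.app (op V) s)
  have hr := ConcreteCategory.congr_hom (ι_sumToStalk j ξ F p y) s
  simp only [ConcreteCategory.comp_apply] at hl hr
  change sumToStalk j ξ G (Sigma.ι (fun p : lifts j ξ => (EtCoh.stalk p.1).obj G) p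
    ((EtCoh.stalk p.1).map a (germ p.1 F y s))) = (EtCoh.stalk ξ).map ((EtShriek.extZero j).map a)
      (sumToStalk j ξ F (Sigma.ι (fun p : lifts j ξ => (EtCoh.stalk p.1).obj F) p (germ p.1 F y s)))
  rw [germ_nat]
  refine hl.trans (Eq.symm ((congrArg ((EtCoh.stalk ξ).map ((EtShriek.extZero j).map a)) hr).trans ?_))
  refine (germ_nat ξ ((EtShriek.extZero j).map a) (compFib j ξ p y) _).trans ?_
  exact congrArg (germ ξ ((EtShriek.extZero j).obj G) (compFib j ξ p y))
    (congrArg (fun t : F ⟶ (EtShriek.restrAlong j).obj ((EtShriek.extZero j).obj G) => t.hom.app (op V) s)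
      ((EtShriek.extZeroAdj j).unit.naturality a)).symm

end Groth.Agent.EtStalk
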