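import Groth.Agent.Lib.EtStalk.Integral
import Groth.Prelude.Def_PBC

/-!
# Direct images along integral universally injective morphisms
-/

universe u

open CategoryTheory CategoryTheory.Limits AlgebraicGeometry Opposite
open Groth.Agent.Weight

namespace Groth.Agent.EtStalk

variable {X Y : Scheme.{u}} (f : X ⟶ Y) [IsIntegralHom f]

lemma subsingleton_fLifts [UniversallyInjective f] {Ω : Type u} [Field Ω] [IsAlgClosed Ω]
    (η : Spec (CommRingCat.of Ω) ⟶ Y) : Subsingleton (fLifts f η) := by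
  haveI : UniversallyInjective (pullback.snd f η) := MorphismProperty.pullback_snd _ _ ‹UniversallyInjective f›
  refine ⟨fun a b => fpt_injective f η ((pullback.snd f η).injective ?_)⟩
  exact Subsingleton.elim (α := PrimeSpectrum Ω) _ _

set_option backward.isDefEq.respectTransparency.types false in
lemma stalkPull_counit_alg {Ω : Type u} [Field Ω] [IsAlgClosed Ω]
    (ξ : Spec (CommRingCat.of Ω) ⟶ X) (G : EtCoh.Ab X) (p : (EtCoh.stalk (ξ ≫ f)).obj ((EtCoh.push f).obj G)) :
    (EtCoh.stalk ξ).map ((EtCoh.pullPushAdj f).counit.app G) (stalkPull f ξ _ p) =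
      liftStalk f (ξ ≫ f) ⟨ξ, rfl⟩ G p := by
  obtain ⟨V, x, s, rfl⟩ := germ_surjective _ _ p
  rw [germ_stalkPull]
  refine (germ_nat ξ ((EtCoh.pullPushAdj f).counit.app G) (liftFib f ξ x) _).trans ?_
  have h := (EtCoh.pullPushAdj f).right_triangle_components G
  have h' := congrArg (fun t : (EtCoh.push f).obj G ⟶ (EtCoh.push f).obj G => t.hom.app (op V) s) h
  refine (congrArg (germ ξ G (liftFib f ξ x)) h').trans ?_
  exact (liftStalk_germ f (ξ ≫ f) ⟨ξ, rfl⟩ G x s).symm

set_option backward.isDefEq.respectTransparency.types false in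
lemma unit_liftStalk_alg {Ω : Type u} [Field Ω] [IsAlgClosed Ω]
    (ξ : Spec (CommRingCat.of Ω) ⟶ X) (F : EtCoh.Ab Y) (p : (EtCoh.stalk (ξ ≫ f)).obj F) :
    liftStalk f (ξ ≫ f) ⟨ξ, rfl⟩ ((EtCoh.pull f).obj F)
      ((EtCoh.stalk (ξ ≫ f)).map ((EtCoh.pullPushAdj f).unit.app F) p) = stalkPull f ξ F p := by
  obtain ⟨V, x, s, rfl⟩ := germ_surjective _ _ p
  refine (congrArg (liftStalk f (ξ ≫ f) ⟨ξ, rfl⟩ ((EtCoh.pull f).obj F))
    (germ_nat (ξ ≫ f) ((EtCoh.pullPushAdj f).unit.app F) x s)).trans ?_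
  exact (liftStalk_germ f (ξ ≫ f) ⟨ξ, rfl⟩ ((EtCoh.pull f).obj F) x _).trans
    (germ_stalkPull f ξ F x s).symm

theorem isIso_counit_integral [UniversallyInjective f] (G : EtCoh.Ab X) :
    IsIso ((EtCoh.pullPushAdj f).counit.app G) := by
  rw [isIso_iff_stalk_alg]
  intro Ω _ _ ξ
  have := subsingleton_fLifts f (ξ ≫ f)
  have hb := bijective_liftStalk_of_subsingleton f (ξ ≫ f) G
  refine (Function.Bijective.of_comp_iff _ (ConcreteCategory.bijective_of_isIso
    (stalkPull f ξ ((EtCoh.push f).obj G)))).1 ⟨fun p q h => hb.1 (funext fun l => ?_), fun t => ?_⟩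
  · obtain rfl := Subsingleton.elim (⟨ξ, rfl⟩ : fLifts f (ξ ≫ f)) l
    exact ((stalkPull_counit_alg f ξ G p).symm.trans h).trans (stalkPull_counit_alg f ξ G q)
  · obtain ⟨p, hp⟩ := hb.2 fun l => (Subsingleton.elim (⟨ξ, rfl⟩ : fLifts f (ξ ≫ f)) l) ▸ t
    exact ⟨p, (stalkPull_counit_alg f ξ G p).trans (congrFun hp ⟨ξ, rfl⟩)⟩

theorem isIso_unit_integral [UniversallyInjective f] (F : EtCoh.Ab Y)
    (h : EtPBC.supp F ⊆ Set.range f.base) : IsIso ((EtCoh.pullPushAdj f).unit.app F) := by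
  rw [isIso_iff_stalk_alg]
  intro Ω _ _ η
  have := subsingleton_fLifts f η
  rcases isEmpty_or_nonempty (fLifts f η) with he | ⟨⟨ξ, rfl⟩⟩
  · have h1 : Subsingleton ((EtCoh.stalk η).obj F) := by
      refine AddCommGrpCat.subsingleton_of_isZero (Classical.not_not.1 fun hne => ?_)
      obtain ⟨x, hx⟩ := h (⟨Ω, inferInstance, inferInstance, η, Set.range_eq_singleton_iff.2
        fun z => congrArg η (Subsingleton.elim z default), hne⟩ :
        η (default : Spec (CommRingCat.of Ω)) ∈ EtPBC.supp F)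
      obtain ⟨z, -, -⟩ := Scheme.Pullback.exists_preimage_pullback (f := f) (g := η) x
        (default : Spec (CommRingCat.of Ω)) hx
      exact he.false (Classical.choose (fpt_surjective f η z))
    have h2 : Subsingleton ((EtCoh.stalk η).obj ((EtCoh.push f).obj ((EtCoh.pull f).obj F))) :=
      (injective_liftStalk f η ((EtCoh.pull f).obj F)).subsingleton
    exact ⟨fun a b _ => @Subsingleton.elim _ h1 a b, fun b => ⟨0, @Subsingleton.elim _ h2 _ _⟩⟩
  · have hb := bijective_liftStalk_of_subsingleton f (ξ ≫ f) ((EtCoh.pull f).obj F)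
    have hs := ConcreteCategory.bijective_of_isIso (stalkPull f ξ F)
    constructor
    · intro p q hpq
      refine hs.1 ?_
      rw [← unit_liftStalk_alg f ξ F p, ← unit_liftStalk_alg f ξ F q, hpq]
    · intro t
      obtain ⟨p, hp⟩ := hs.2 (liftStalk f (ξ ≫ f) ⟨ξ, rfl⟩ ((EtCoh.pull f).obj F) t)
      refine ⟨p, hb.1 (funext fun l => ?_)⟩
      obtain rfl := Subsingleton.elim (⟨ξ, rfl⟩ : fLifts f (ξ ≫ f)) l
      exact (unit_liftStalk_alg f ξ F p).trans hp

theorem supp_push_subset (G : EtCoh.Ab X) :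
    EtPBC.supp ((EtCoh.push f).obj G) ⊆ Set.range f.base := by
  rintro y ⟨Ω, _, _, η, hη, hne⟩
  by_contra hy
  refine hne (@AddCommGrpCat.isZero_of_subsingleton _ (subsingleton_of_forall_eq 0 fun p => ?_))
  obtain ⟨W, w, s, rfl⟩ := germ_surjective η ((EtCoh.push f).obj G) p
  rw [← map_zero (germ η ((EtCoh.push f).obj G) w).hom]
  refine (mem_agree_iff_germ ((EtCoh.push f).obj G) w s 0).1 ?_
  let N : W.left.Opens := W.hom ⁻¹ᵁ ⟨_, f.isClosedMap.isClosed_range.isOpen_compl⟩
  have hN : fibPt w ∈ N := by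
    show W.hom (fibPt w) ∉ Set.range f
    let wl : Spec (CommRingCat.of Ω) ⟶ W.left := w.left
    have hw : wl ≫ W.hom = η := Over.w w
    have h1 : W.hom (fibPt w) = η default :=
      (Scheme.Hom.comp_apply wl W.hom _).symm.trans (congrArg (fun a => a (default : Spec (CommRingCat.of Ω))) hw)
    have h2 : η default ∈ ({y} : Set Y) := hη ▸ Set.mem_range_self _
    rw [h1, Set.mem_singleton_iff.1 h2]
    exact hy
  refine ⟨EtSite.sub W N, EtSite.subHom W N, ⟨⟨fibPt w, hN⟩, rfl⟩, ?_⟩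
  have hempty : IsEmpty ((EtCoh.bc f).obj (EtSite.sub W N)).left := ⟨fun z => by
    let a : ((EtCoh.bc f).obj (EtSite.sub W N)).left ⟶ N := bcFst f (EtSite.sub W N)
    refine (a z).2 ⟨pullback.snd (EtSite.sub W N).hom f z, ?_⟩
    rw [← Scheme.Hom.comp_apply, ← pullback.condition, Scheme.Hom.comp_apply]
    rfl⟩
  exact eq_of_agree G fun z => hempty.elim z

end Groth.Agent.EtStalk
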