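import Groth.Agent.Lib.EtStalk.Basic
import Mathlib.CategoryTheory.Sites.Point.Comap

/-!
# Stalks of inverse images of etale sheaves
-/

universe w v u

open CategoryTheory CategoryTheory.Limits AlgebraicGeometry Opposite

namespace Groth.Agent.EtStalk

section Site

open GrothendieckTopology

variable {C D : Type*} [Category* C] [Category* D] {K : GrothendieckTopology D}
  (Φ : Point.{w} K) (F : C ⥤ D) [RepresentablyFlat F] {J : GrothendieckTopology C}
  (hF : CoverPreserving J K F)
  [InitiallySmall (F ⋙ Φ.fiber).Elements]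
  {A : Type*} [Category.{v} A] [HasProducts.{w} A]
  [Functor.IsContinuous F J K]
  [(F.sheafPushforwardContinuous A J K).IsRightAdjoint]
  [HasColimitsOfSize.{w, w} A]

/-- The comparison `(Φ.comap F).sheafFiber G ≅ Φ.sheafFiber (F⁻¹ G)` sends germs to germs of the
image under the unit. -/
lemma toPresheafFiber_sheafFiberComapIso_hom (G : Sheaf J A) (X : C) (x : (Φ.comap F hF).fiber.obj X) :
    (Φ.comap F hF).toPresheafFiber X x G.obj ≫ (Φ.sheafFiberComapIso F hF A).hom.app G =
      ((F.sheafAdjunctionContinuous A J K).unit.app G).hom.app (op X) ≫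
        Φ.toPresheafFiber (F.obj X) x ((F.sheafPullback A J K).obj G).obj := by
  let adj₁ := (F.sheafAdjunctionContinuous A J K).comp Φ.skyscraperSheafAdjunction
  have e : adj₁.unit.app G ≫
      (Φ.skyscraperSheafFunctorCompSheafPushforwardContinuous F hF A).hom.app _ =
      (Φ.comap F hF).skyscraperSheafAdjunction.unit.app G ≫
        (Φ.comap F hF).skyscraperSheafFunctor.map ((Φ.sheafFiberComapIso F hF A).hom.app G) :=
    unit_conjugateEquiv_symm adj₁ (Φ.comap F hF).skyscraperSheafAdjunction
      (Φ.skyscraperSheafFunctorCompSheafPushforwardContinuous F hF A).hom G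
  replace e := e.trans (Adjunction.homEquiv_unit
    (adj := (Φ.comap F hF).skyscraperSheafAdjunction (A := A))
    (f := (Φ.sheafFiberComapIso F hF A).hom.app G)).symm
  have e' := congrArg (fun t => t.hom.app (op X) ≫ Pi.π _ x) e
  have e'' := (e'.trans (congrArg (fun t => t.app (op X) ≫ Pi.π _ x)
    ((Φ.comap F hF).skyscraperSheafAdjunction_homEquiv_apply_hom
      ((Φ.sheafFiberComapIso F hF A).hom.app G)))).trans ((Φ.comap F hF).skyscraperPresheafHomEquiv_app_π
    ((Φ.sheafFiberComapIso F hF A).hom.app G) X x)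
  refine e''.symm.trans ?_
  have hu : Φ.skyscraperSheafAdjunction.unit.app ((F.sheafPullback A J K).obj G) =
      Φ.skyscraperSheafAdjunction.homEquiv _ _ (𝟙 _) := (Adjunction.homEquiv_id _ _).symm
  have e3 : ((Φ.skyscraperSheafAdjunction.homEquiv ((F.sheafPullback A J K).obj G)
        (Φ.sheafFiber.obj ((F.sheafPullback A J K).obj G))) (𝟙 _)).hom.app (op (F.obj X)) ≫
      Pi.π (fun _ => Φ.sheafFiber.obj ((F.sheafPullback A J K).obj G)) x =
      Φ.toPresheafFiber (F.obj X) x ((F.sheafPullback A J K).obj G).obj :=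
    (congrArg (fun t => t.app (op (F.obj X)) ≫ Pi.π _ x)
      (Φ.skyscraperSheafAdjunction_homEquiv_apply_hom (F := (F.sheafPullback A J K).obj G)
        (𝟙 _))).trans ((Φ.skyscraperPresheafHomEquiv_app_π _ (F.obj X) x).trans (Category.comp_id _))
  simp only [adj₁, Adjunction.comp_unit_app]
  rw [hu]
  refine Eq.trans ?_ (congrArg (fun t =>
    ((F.sheafAdjunctionContinuous A J K).unit.app G).hom.app (op X) ≫ t) e3)
  simp [Point.skyscraperSheafFunctorCompSheafPushforwardContinuous]
  first
    | rfl
    | (erw [Category.comp_id]; erw [Category.assoc]; rfl)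

end Site

section Elements

lemma initiallySmall_elements_of_iso {C : Type*} [Category* C] {F₁ F₂ : C ⥤ Type w}
    (e : F₁ ≅ F₂) [InitiallySmall.{w} F₁.Elements] : InitiallySmall.{w} F₂.Elements := by
  have : (CategoryOfElements.map e.hom).IsEquivalence :=
    { faithful := ⟨fun {a b} g h he => Subtype.ext (congrArg (fun t => t.1) he :)⟩
      full := ⟨fun {a b} g => ⟨⟨g.1, (e.app b.1).toEquiv.injective
        (((e.hom.naturality_apply g.1 a.2)).trans g.2)⟩, rfl⟩⟩
      essSurj := ⟨fun t => ⟨⟨t.1, e.inv.app t.1 t.2⟩, ⟨eqToIso (Sigma.ext rfl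
        (heq_of_eq (by exact (e.app t.1).toEquiv.apply_symm_apply t.2)))⟩⟩⟩ }
  exact initiallySmall_of_initial_of_initiallySmall (CategoryOfElements.map e.hom)

end Elements

section Scheme

variable {X Y : Scheme.{u}} (f : X ⟶ Y) {Ω : Type u} [Field Ω] [IsSepClosed Ω]
  (ξ : Spec (CommRingCat.of Ω) ⟶ X)

set_option backward.isDefEq.respectTransparency.types false in
/-- The lift of an element of the fibre at `ξ ≫ f` to the base change along `f`. -/
noncomputable def liftFib {V : Y.Etale} (x : fib (ξ ≫ f) V) : fib ξ ((EtCoh.bc f).obj V) :=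
  Over.homMk (pullback.lift x.left ξ (Over.w x)) (pullback.lift_snd _ _ _)

set_option backward.isDefEq.respectTransparency.types false in
/-- The image of an element of the fibre at `ξ` of a base change. -/
noncomputable def dropFib {V : Y.Etale} (y : fib ξ ((EtCoh.bc f).obj V)) : fib (ξ ≫ f) V :=
  Over.homMk (y.left ≫ pullback.fst V.hom f) (by
    have hw : y.left ≫ pullback.snd V.hom f = ξ := Over.w y
    change (y.left ≫ pullback.fst V.hom f) ≫ V.hom = ξ ≫ f
    exact (Category.assoc _ _ _).trans ((congrArg (y.left ≫ ·) pullback.condition).trans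
      ((Category.assoc _ _ _).symm.trans (congrArg (· ≫ f) hw))))

set_option backward.isDefEq.respectTransparency.types false in
/-- The fibre functor at `ξ ≫ f` is the composite of base change and the fibre functor at `ξ`. -/
noncomputable def fiberIso :
    (Scheme.pointSmallEtale (ξ ≫ f)).fiber ≅ EtCoh.bc f ⋙ (Scheme.pointSmallEtale ξ).fiber :=
  NatIso.ofComponents (fun V => Equiv.toIso
    { toFun := liftFib f ξ
      invFun := dropFib f ξ
      left_inv := fun x => Over.OverMorphism.ext (pullback.lift_fst _ _ _)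
      right_inv := fun y => Over.OverMorphism.ext (by
        refine pullback.hom_ext ?_ ?_
        · exact pullback.lift_fst _ _ _
        · exact (pullback.lift_snd _ _ _).trans (Over.w y).symm) })
    (fun {V W} g => by
      ext x
      refine Over.OverMorphism.ext (pullback.hom_ext ?_ ?_)
      · refine (pullback.lift_fst _ _ _).trans (Eq.symm ?_)
        refine (Category.assoc _ _ _).trans ?_
        refine (congrArg (pullback.lift x.left ξ _ ≫ ·) (EtCoh.isPullback_bc_map f g).w).trans ?_
        exact (Category.assoc _ _ _).symm.trans (congrArg (· ≫ g.left) (pullback.lift_fst _ _ _))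
      · refine (pullback.lift_snd _ _ _).trans (Eq.symm ?_)
        refine (Category.assoc _ _ _).trans ?_
        refine (congrArg (pullback.lift x.left ξ _ ≫ ·) (MorphismProperty.Over.w
          ((EtCoh.bc f).map g))).trans ?_
        exact pullback.lift_snd _ _ _)

instance : InitiallySmall.{u} (EtCoh.bc f ⋙ (Scheme.pointSmallEtale ξ).fiber).Elements :=
  initiallySmall_elements_of_iso (fiberIso f ξ)

/-- The point of the etale site of `Y` induced by `ξ` is the point at `ξ ≫ f`. -/
noncomputable def pointIso :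
    (Scheme.pointSmallEtale ξ).comap (EtCoh.bc f) (EtCoh.coverPreserving_bc f) ≅
      Scheme.pointSmallEtale (ξ ≫ f) where
  hom := ⟨(fiberIso f ξ).hom⟩
  inv := ⟨(fiberIso f ξ).inv⟩
  hom_inv_id := by ext : 1; exact (fiberIso f ξ).inv_hom_id
  inv_hom_id := by ext : 1; exact (fiberIso f ξ).hom_inv_id

/-- The canonical comparison `stalk (ξ ≫ f) G ⟶ stalk ξ (f⁻¹ G)`. -/
noncomputable def stalkPull (G : EtCoh.Ab Y) :
    (EtCoh.stalk (ξ ≫ f)).obj G ⟶ (EtCoh.stalk ξ).obj ((EtCoh.pull f).obj G) :=
  (GrothendieckTopology.Point.Hom.sheafFiber (A := AddCommGrpCat.{u + 1})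
      (pointIso f ξ).hom).app G ≫
    ((Scheme.pointSmallEtale ξ).sheafFiberComapIso (EtCoh.bc f) (EtCoh.coverPreserving_bc f)
      AddCommGrpCat.{u + 1}).hom.app G

instance (G : EtCoh.Ab Y) : IsIso (stalkPull f ξ G) := by
  have : IsIso (GrothendieckTopology.Point.Hom.sheafFiber (A := AddCommGrpCat.{u + 1})
      (pointIso f ξ).hom) :=
    ⟨GrothendieckTopology.Point.Hom.sheafFiber (pointIso f ξ).inv,
      by rw [← GrothendieckTopology.Point.Hom.sheafFiber_comp, Iso.inv_hom_id,
        GrothendieckTopology.Point.Hom.sheafFiber_id],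
      by rw [← GrothendieckTopology.Point.Hom.sheafFiber_comp, Iso.hom_inv_id,
        GrothendieckTopology.Point.Hom.sheafFiber_id]⟩
  dsimp only [stalkPull]
  infer_instance

/-- The comparison sends the germ of `s` to the germ of its image under the unit. -/
lemma germ_stalkPull (G : EtCoh.Ab Y) {V : Y.Etale} (x : fib (ξ ≫ f) V)
    (s : G.obj.obj (op V)) :
    stalkPull f ξ G (germ (ξ ≫ f) G x s) =
      germ ξ ((EtCoh.pull f).obj G) (liftFib f ξ x)
        (((EtCoh.pullPushAdj f).unit.app G).hom.app (op V) s) := by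
  have h1 : germ (ξ ≫ f) G x ≫ stalkPull f ξ G =
      ((EtCoh.pullPushAdj f).unit.app G).hom.app (op V) ≫
        germ ξ ((EtCoh.pull f).obj G) (liftFib f ξ x) := by
    dsimp only [stalkPull, germ]
    erw [← Category.assoc]
    refine (congrArg (· ≫ ((Scheme.pointSmallEtale ξ).sheafFiberComapIso (EtCoh.bc f)
      (EtCoh.coverPreserving_bc f) AddCommGrpCat.{u + 1}).hom.app G)
      (show (Scheme.pointSmallEtale (ξ ≫ f)).toPresheafFiber V x G.obj ≫
        (GrothendieckTopology.Point.Hom.sheafFiber (A := AddCommGrpCat.{u + 1})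
          (pointIso f ξ).hom).app G =
      ((Scheme.pointSmallEtale ξ).comap (EtCoh.bc f) (EtCoh.coverPreserving_bc f)).toPresheafFiber
        V (liftFib f ξ x) G.obj from colimit.ι_desc _ _)).trans ?_
    exact toPresheafFiber_sheafFiberComapIso_hom _ _ _ G V _
  exact ConcreteCategory.congr_hom h1 s

end Scheme

end Groth.Agent.EtStalk
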