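import Groth.Agent.Lib.EtStalk.Pull
import Groth.Agent.Lib.EtStalk.Topological

/-!
# The open set where two sections of an etale sheaf agree
-/

universe u

open CategoryTheory CategoryTheory.Limits AlgebraicGeometry Opposite

namespace Groth.Agent.EtStalk

variable {X : Scheme.{u}}

/-- The set of points of `U` near which the two sections agree. -/
def agree (G : EtCoh.Ab X) {U : X.Etale} (s t : G.obj.obj (op U)) : Set U.left :=
  {x | ∃ (V : X.Etale) (g : V ⟶ U), x ∈ Set.range g.left ∧ G.obj.map g.op s = G.obj.map g.op t}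

/-- The point of `U` under an element of the fibre at a geometric point. -/
noncomputable abbrev fibPt {Ω : Type u} [Field Ω] [IsSepClosed Ω] {ξ : Spec (CommRingCat.of Ω) ⟶ X} {U : X.Etale}
    (φ : fib ξ U) : U.left :=
  φ.left (default : Spec (CommRingCat.of Ω))

variable (G : EtCoh.Ab X) {U : X.Etale}

lemma isOpen_agree (s t : G.obj.obj (op U)) : IsOpen (agree G s t) := by
  refine isOpen_iff_forall_mem_open.2 fun x ⟨V, g, hx, he⟩ => ?_
  have := etale_left g
  exact ⟨Set.range g.left, fun y hy => ⟨V, g, hy, he⟩, g.left.isOpenMap.isOpen_range, hx⟩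

set_option backward.isDefEq.respectTransparency.types false in
lemma mem_agree_iff_germ {Ω : Type u} [Field Ω] [IsSepClosed Ω]
    {ξ : Spec (CommRingCat.of Ω) ⟶ X} (φ : fib ξ U) (s t : G.obj.obj (op U)) :
    fibPt φ ∈ agree G s t ↔
      germ ξ G φ s = germ ξ G φ t := by
  constructor
  · rintro ⟨V, g, ⟨v, hv⟩, he⟩
    have := etale_left g
    let φl : Spec (CommRingCat.of Ω) ⟶ U.left := φ.left
    obtain ⟨y', -⟩ := Scheme.pointSmallEtaleFiberObjToPreimage_surjective φl
      (s₀ := φl default) rfl (Scheme.Etale.mk g.left) ⟨v, hv⟩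
    have hy : y'.left ≫ g.left = φl := Over.w y'
    let y : fib ξ V := Over.homMk y'.left (by
      change y'.left ≫ V.hom = ξ
      have h1 : g.left ≫ U.hom = V.hom := MorphismProperty.Over.w g
      exact (congrArg (y'.left ≫ ·) h1.symm).trans ((Category.assoc _ _ _).symm.trans
        ((congrArg (· ≫ U.hom) hy).trans (Over.w φ))))
    have hφ : (Scheme.pointSmallEtale ξ).fiber.map g y = φ := Over.OverMorphism.ext hy
    exact (germ_eq_iff ξ G φ s t).2 ⟨V, g, y, hφ, he⟩
  · intro h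
    obtain ⟨V, g, y, hy, he⟩ := (germ_eq_iff ξ G φ s t).1 h
    refine ⟨V, g, ⟨y.left (default : Spec (CommRingCat.of Ω)), ?_⟩, he⟩
    exact congrArg (fun r : fib ξ U => r.left (default : Spec (CommRingCat.of Ω))) hy

lemma agree_symm {s t : G.obj.obj (op U)} {x : U.left} (h : x ∈ agree G s t) : x ∈ agree G t s := by
  obtain ⟨V, g, hx, he⟩ := h
  exact ⟨V, g, hx, he.symm⟩

lemma agree_trans {s t r : G.obj.obj (op U)} {x : U.left} (h₁ : x ∈ agree G s t)
    (h₂ : x ∈ agree G t r) : x ∈ agree G s r := by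
  obtain ⟨φ, hφ⟩ := exists_fib U x
  have hφ' : fibPt φ = x := hφ
  have := (mem_agree_iff_germ G φ s r).2 (((mem_agree_iff_germ G φ s t).1 (by rwa [hφ'])).trans
    ((mem_agree_iff_germ G φ t r).1 (by rwa [hφ'])))
  rwa [hφ'] at this

lemma agree_self (s : G.obj.obj (op U)) (x : U.left) : x ∈ agree G s s :=
  ⟨U, 𝟙 U, ⟨x, rfl⟩, rfl⟩

lemma eq_of_agree {s t : G.obj.obj (op U)} (h : ∀ x, x ∈ agree G s t) : s = t := by
  refine ext_germ s t fun Ω _ _ ξ φ => ?_
  exact (mem_agree_iff_germ G φ s t).1 (h _)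

lemma mem_agree_map {V : X.Etale} (g : V ⟶ U) (s t : G.obj.obj (op U)) (v : V.left) :
    v ∈ agree G (G.obj.map g.op s) (G.obj.map g.op t) ↔ g.left v ∈ agree G s t := by
  obtain ⟨φ, hφ⟩ := exists_fib V v
  have key : fibPt φ ∈ agree G (G.obj.map g.op s) (G.obj.map g.op t) ↔
      g.left (fibPt φ) ∈ agree G s t := by
    rw [mem_agree_iff_germ, germ_map, germ_map, ← mem_agree_iff_germ]
    rfl
  exact hφ ▸ key

set_option backward.isDefEq.respectTransparency.types false in
/-- Agreement of pulled back sections only depends on the image point. -/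
lemma mem_agree_unit {Y : Scheme.{u}} (f : X ⟶ Y) (F : EtCoh.Ab Y) {V : Y.Etale}
    (s t : F.obj.obj (op V)) (z : ((EtCoh.bc f).obj V).left) :
    z ∈ agree ((EtCoh.pull f).obj F) (((EtCoh.pullPushAdj f).unit.app F).hom.app (op V) s)
        (((EtCoh.pullPushAdj f).unit.app F).hom.app (op V) t) ↔
      bcFst f V z ∈ agree F s t := by
  suffices key : ∀ (Ω : Type u) [Field Ω] [IsSepClosed Ω] (ξ : Spec (CommRingCat.of Ω) ⟶ X)
      (φ : fib ξ ((EtCoh.bc f).obj V)),
      fibPt φ ∈ agree ((EtCoh.pull f).obj F) (((EtCoh.pullPushAdj f).unit.app F).hom.app (op V) s)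
          (((EtCoh.pullPushAdj f).unit.app F).hom.app (op V) t) ↔
        bcFst f V (fibPt φ) ∈ agree F s t by
    obtain ⟨φ, hφ⟩ := exists_fib ((EtCoh.bc f).obj V) z
    exact hφ ▸ key _ _ φ
  intro Ω _ _ ξ φ
  have hl : φ = liftFib f ξ (dropFib f ξ φ) :=
    (((fiberIso f ξ).app V).toEquiv.apply_symm_apply φ).symm
  have h1 : bcFst f V (fibPt φ) = fibPt (dropFib f ξ φ) := rfl
  rw [h1, mem_agree_iff_germ, mem_agree_iff_germ]
  rw [hl, ← germ_stalkPull f ξ F, ← germ_stalkPull f ξ F, ← hl]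
  exact (ConcreteCategory.bijective_of_isIso (stalkPull f ξ F)).1.eq_iff

end Groth.Agent.EtStalk
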