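import Groth.Agent.Lib.Weight4.BaseChange
import Groth.Agent.Lib.Weight4.Shrink
import Mathlib.AlgebraicGeometry.Morphisms.FlatRank
import Mathlib.AlgebraicGeometry.Morphisms.FlatMono
import Mathlib.RingTheory.Unramified.Finite

/-!
# Etale localisation of finite morphisms: clopen parts and sections
-/

universe u

open AlgebraicGeometry CategoryTheory Limits IsLocalRing
open Groth.Agent.Weight

namespace Groth.Agent.FiniteSplit

/-- Etale morphisms are locally quasi-finite. -/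
theorem locallyQuasiFinite_of_etale {X Y : Scheme.{u}} (f : X ⟶ Y) [Etale f] :
    LocallyQuasiFinite f := by
  rw [HasRingHomProperty.iff_appLE (P := @LocallyQuasiFinite)]
  intro U V e
  have h₁ := HasRingHomProperty.appLE (P := @LocallyOfFiniteType) f inferInstance U V e
  have h₂ := HasRingHomProperty.appLE (P := @FormallyUnramified) f inferInstance U V e
  algebraize [(f.appLE U V e).hom]
  exact RingHom.quasiFinite_algebraMap.2
    ⟨fun p _ => Algebra.FormallyUnramified.finite_of_free p.ResidueField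
      (TensorProduct Γ(Y, U.1) p.ResidueField Γ(X, V.1))⟩

variable {X Y : Scheme.{u}} (f : X ⟶ Y) [IsFinite f] {Ω : Type u} [Field Ω] [IsAlgClosed Ω]
  (η : Spec (CommRingCat.of Ω) ⟶ Y)

instance finite_liftsOfFinite : Finite {a : Spec (CommRingCat.of Ω) ⟶ X // a ≫ f = η} :=
  finite_lifts f (fun z => f.quasiFiniteAt z) η (f.finite_preimage_singleton _)

/-- After an etale localisation a finite scheme splits along the geometric fibre. -/
theorem exists_parts :
    ∃ (U : Scheme.{u}) (g : U ⟶ Y) (ū : Spec (CommRingCat.of Ω) ⟶ U)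
      (P : {a : Spec (CommRingCat.of Ω) ⟶ X // a ≫ f = η} → (pullback f g).Opens),
      Etale g ∧ ū ≫ g = η ∧ (∀ z, ∃! l, z ∈ P l) ∧
      ∀ (l) (b : Spec (CommRingCat.of Ω) ⟶ pullback f g), b ≫ pullback.snd f g = ū →
        (pt b ∈ P l ↔ b ≫ pullback.fst f g = l.1) := by
  obtain ⟨U, g, ū, W, hg, hū, hfin, huniq⟩ :=
    exists_split f η (fun l : {a : Spec (CommRingCat.of Ω) ⟶ X // a ≫ f = η} => l.1) (fun l => l.2)
      (fun l => f.quasiFiniteAt _)
  have hkey : ∀ l (b : Spec (CommRingCat.of Ω) ⟶ pullback f g), b ≫ pullback.snd f g = ū →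
      (pt b ∈ W l ↔ b ≫ pullback.fst f g = l.1) := by
    intro l b hb
    rw [← huniq l (b ≫ pullback.fst f g), inLift_iff]
    refine ⟨fun h => ⟨b, rfl, hb, h⟩, ?_⟩
    rintro ⟨c, hc₁, hc₂, hc⟩
    rwa [show b = c from pullback.hom_ext hc₁.symm (hb.trans hc₂.symm)]
  have hlift : ∀ z, pullback.snd f g z = pt ū → ∃ b : Spec (CommRingCat.of Ω) ⟶ pullback f g,
      b ≫ pullback.snd f g = ū ∧ pt b = z :=
    fun z hz => exists_lift_of_eq (pullback.snd f g) z ((pullback.snd f g).quasiFiniteAt z) ū hz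
  have hbase : ∀ b : Spec (CommRingCat.of Ω) ⟶ pullback f g, b ≫ pullback.snd f g = ū →
      (b ≫ pullback.fst f g) ≫ f = η := fun b hb => by
    rw [Category.assoc, pullback.condition, ← Category.assoc, hb, hū]
  have : IsFinite ((⊤ : (pullback f g).Opens).ι ≫ pullback.snd f g) := by
    have : IsIso ((⊤ : (pullback f g).Opens).ι) := inferInstanceAs (IsIso (pullback f g).topIso.hom)
    infer_instance
  have := fun l => hfin l
  obtain ⟨N, hN, -, hNu⟩ := exists_open_decomp (pullback.snd f g) (⊤ : (pullback f g).Opens) W (pt ū)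
    (fun _ _ _ _ => trivial)
    (fun z _ hz => by
      obtain ⟨b, hb, rfl⟩ := hlift z hz
      exact ⟨⟨b ≫ pullback.fst f g, hbase b hb⟩, (hkey _ b hb).2 rfl⟩)
    (fun l l' z hl hl' hz => by
      obtain ⟨b, hb, rfl⟩ := hlift z hz
      exact Subtype.ext (((hkey l b hb).1 hl).symm.trans ((hkey l' b hb).1 hl')))
  let ū' : Spec (CommRingCat.of Ω) ⟶ (N : Scheme.{u}) := liftOpen N ū hN
  let m : pullback f (N.ι ≫ g) ⟶ pullback f g :=
    pullback.lift (pullback.fst f (N.ι ≫ g)) (pullback.snd f (N.ι ≫ g) ≫ N.ι)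
      (by rw [pullback.condition, Category.assoc])
  have hm1 : m ≫ pullback.fst f g = pullback.fst f (N.ι ≫ g) := pullback.lift_fst _ _ _
  have hm2 : m ≫ pullback.snd f g = pullback.snd f (N.ι ≫ g) ≫ N.ι := pullback.lift_snd _ _ _
  refine ⟨N, N.ι ≫ g, ū', fun l => m ⁻¹ᵁ W l, inferInstance, ?_, fun z => ?_, fun l b hb => ?_⟩
  · rw [← Category.assoc, liftOpen_ι, hū]
  · refine hNu (m z) trivial ?_
    rw [← Scheme.Hom.comp_apply, hm2, Scheme.Hom.comp_apply]
    exact (pullback.snd f (N.ι ≫ g) z).2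
  · have := hkey l (b ≫ m) (by rw [Category.assoc, hm2, ← Category.assoc, hb, liftOpen_ι])
    rw [Category.assoc, hm1] at this
    exact this

variable {T U V : Scheme.{u}} (p : T ⟶ U) [IsFinite p]

omit f η in
/-- An etale neighbourhood of the only geometric point of a finite scheme over a geometric point
has a section after an etale localisation of the base. -/
theorem exists_section (a : Spec (CommRingCat.of Ω) ⟶ T)
    (huniq : ∀ b : Spec (CommRingCat.of Ω) ⟶ T, b ≫ p = a ≫ p → b = a)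
    (e : V ⟶ T) [Etale e] (c : Spec (CommRingCat.of Ω) ⟶ V) (hc : c ≫ e = a) :
    ∃ (U' : Scheme.{u}) (h : U' ⟶ U) (ū : Spec (CommRingCat.of Ω) ⟶ U')
      (σ : pullback p h ⟶ V), Etale h ∧ ū ≫ h = a ≫ p ∧ σ ≫ e = pullback.fst p h ∧
      ∀ d : Spec (CommRingCat.of Ω) ⟶ pullback p h, d ≫ pullback.snd p h = ū → d ≫ σ = c := by
  let q := e ≫ p
  have := locallyQuasiFinite_of_etale e
  have : LocallyQuasiFinite q := inferInstanceAs (LocallyQuasiFinite (e ≫ p))
  have : LocallyOfFiniteType q := inferInstanceAs (LocallyOfFiniteType (e ≫ p))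
  obtain ⟨U', h, ū, W, hh, hū, hWfin, hW⟩ := exists_split_one q c (q.quasiFiniteAt _)
  have hū' : ū ≫ h = a ≫ p := by rw [hū, ← hc, Category.assoc]
  let φ : pullback q h ⟶ pullback p h :=
    pullback.lift (pullback.fst q h ≫ e) (pullback.snd q h)
      (by rw [Category.assoc]; exact pullback.condition)
  have hφ1 : φ ≫ pullback.fst p h = pullback.fst q h ≫ e := pullback.lift_fst _ _ _
  have hφ2 : φ ≫ pullback.snd p h = pullback.snd q h := pullback.lift_snd _ _ _
  have sq : IsPullback φ (pullback.fst q h) (pullback.fst p h) e := by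
    refine IsPullback.of_right (h₁₂ := pullback.snd p h) (v₁₃ := h) (h₂₂ := p) ?_ hφ1
      (IsPullback.of_hasPullback p h).flip
    rw [hφ2]
    exact (IsPullback.of_hasPullback q h).flip
  have : Etale φ := MorphismProperty.of_isPullback sq.flip ‹Etale e›
  let ψ : (W : Scheme.{u}) ⟶ pullback p h := W.ι ≫ φ
  have hψ2 : ψ ≫ pullback.snd p h = W.ι ≫ pullback.snd q h := by rw [Category.assoc, hφ2]
  have : IsFinite (ψ ≫ pullback.snd p h) := by rw [hψ2]; exact hWfin
  have : IsFinite ψ := IsFinite.of_comp ψ (pullback.snd p h)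
  have : Etale ψ := inferInstance
  let a' : Spec (CommRingCat.of Ω) ⟶ pullback p h := pullback.lift a ū hū'.symm
  have ha'1 : a' ≫ pullback.fst p h = a := pullback.lift_fst _ _ _
  have ha'2 : a' ≫ pullback.snd p h = ū := pullback.lift_snd _ _ _
  have hover : ∀ b : Spec (CommRingCat.of Ω) ⟶ pullback p h, b ≫ pullback.snd p h = ū → b = a' := by
    intro b hb
    refine pullback.hom_ext ((huniq _ ?_).trans ha'1.symm) (hb.trans ha'2.symm)
    rw [Category.assoc, pullback.condition, ← Category.assoc, hb, hū']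
  have hc' : ∀ d : Spec (CommRingCat.of Ω) ⟶ (W : Scheme.{u}), d ≫ ψ = a' →
      d ≫ W.ι ≫ pullback.fst q h = c := fun d hd => by
    refine (hW _).1 (inLift_iff.2 ⟨d ≫ W.ι, Category.assoc _ _ _, ?_, (d (closedPoint Ω)).2⟩)
    rw [Category.assoc, ← hψ2, ← Category.assoc, hd, ha'2]
  obtain ⟨c₁, hc₁q, hc₁s, hc₁W⟩ := inLift_iff.1 ((hW c).2 rfl)
  let c₀ : Spec (CommRingCat.of Ω) ⟶ (W : Scheme.{u}) := liftOpen W c₁ hc₁W
  have hc₀ : c₀ ≫ ψ = a' := hover _ (by
    rw [Category.assoc, hψ2, ← Category.assoc, liftOpen_ι, hc₁s])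
  have hsub : ∀ d : Spec (CommRingCat.of Ω) ⟶ (W : Scheme.{u}), d ≫ ψ = a' → d = c₀ := by
    intro d hd
    rw [← cancel_mono W.ι, liftOpen_ι]
    refine pullback.hom_ext (((Category.assoc _ _ _).trans (hc' d hd)).trans hc₁q.symm) ?_
    rw [Category.assoc, ← hψ2, ← Category.assoc, hd, ha'2, hc₁s]
  -- the degree of `ψ` at the geometric point is one
  have hrank : ψ.finrank (pt a') = 1 := by
    let s₀ : Spec (CommRingCat.of Ω) ⟶ pullback ψ a' :=
      pullback.lift c₀ (𝟙 _) (hc₀.trans (Category.id_comp a').symm)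
    have hs₀ : s₀ ≫ pullback.snd ψ a' = 𝟙 _ := pullback.lift_snd _ _ _
    have : Etale (s₀ ≫ pullback.snd ψ a') := by rw [hs₀]; infer_instance
    have : Etale s₀ := Etale.of_comp s₀ (pullback.snd ψ a')
    have : IsSplitMono s₀ := ⟨⟨⟨pullback.snd ψ a', hs₀⟩⟩⟩
    have : IsOpenImmersion s₀ := IsOpenImmersion.of_flat_of_mono s₀
    have : Surjective s₀ := ⟨fun z => by
      obtain ⟨d, hd, rfl⟩ := exists_lift_of_eq (pullback.snd ψ a') z
        ((pullback.snd ψ a').quasiFiniteAt z) (𝟙 (Spec (CommRingCat.of Ω)))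
        (Subsingleton.elim (α := PrimeSpectrum Ω) _ _)
      have hd1 : (d ≫ pullback.fst ψ a') ≫ ψ = a' := by
        rw [Category.assoc, pullback.condition, ← Category.assoc, hd, Category.id_comp]
      refine ⟨closedPoint Ω, ?_⟩
      rw [show d = s₀ from pullback.hom_ext ((hsub _ hd1).trans (pullback.lift_fst _ _ _).symm)
        (hd.trans hs₀.symm)]⟩
    have : IsIso s₀ := isIso_of_isOpenImmersion_of_opensRange_eq_top s₀
      (TopologicalSpace.Opens.ext s₀.surjective.range_eq)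
    have : IsIso (pullback.snd ψ a') := by
      have : IsIso (s₀ ≫ pullback.snd ψ a') := by rw [hs₀]; infer_instance
      exact IsIso.of_isIso_comp_left s₀ _
    have h1 := congrFun (Scheme.Hom.finrank_eq_one_of_isIso (pullback.snd ψ a')) (closedPoint Ω)
    rwa [Scheme.Hom.finrank_pullback_snd ψ a'] at h1
  let N : (pullback p h).Opens :=
    ⟨ψ.finrank ⁻¹' {1}, ψ.isLocallyConstant_finrank.isOpen_fiber 1⟩
  have hbad : IsClosed (pullback.snd p h '' (N : Set (pullback p h : Scheme.{u}))ᶜ) :=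
    (pullback.snd p h).isClosedMap _ N.2.isClosed_compl
  let N' : U'.Opens := ⟨_, hbad.isOpen_compl⟩
  have hūN : pt ū ∈ N' := by
    rintro ⟨z, hzN, hz⟩
    obtain ⟨b, hb, rfl⟩ := exists_lift_of_eq (pullback.snd p h) z ((pullback.snd p h).quasiFiniteAt z) ū hz
    refine hzN ?_
    rw [hover b hb]
    exact hrank
  let m : pullback p (N'.ι ≫ h) ⟶ pullback p h :=
    pullback.lift (pullback.fst p (N'.ι ≫ h)) (pullback.snd p (N'.ι ≫ h) ≫ N'.ι)
      (by rw [pullback.condition, Category.assoc])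
  have hm1 : m ≫ pullback.fst p h = pullback.fst p (N'.ι ≫ h) := pullback.lift_fst _ _ _
  have hm2 : m ≫ pullback.snd p h = pullback.snd p (N'.ι ≫ h) ≫ N'.ι := pullback.lift_snd _ _ _
  have hmN : Set.range m ⊆ Set.range N.ι := by
    rintro _ ⟨z, rfl⟩
    rw [Scheme.Opens.range_ι]
    by_contra hz
    have hmem : pullback.snd p h (m z) ∈ N' := by
      rw [← Scheme.Hom.comp_apply, hm2, Scheme.Hom.comp_apply]
      exact (pullback.snd p (N'.ι ≫ h) z).2
    exact hmem ⟨m z, hz, rfl⟩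
  have : IsIso (ψ ∣_ N) := by
    rw [Scheme.Hom.isIso_iff_finrank_eq]
    funext y
    rw [Scheme.Hom.finrank_of_isPullback _ _ _ _ (isPullback_morphismRestrict ψ N).flip]
    exact y.2
  let σ : pullback p (N'.ι ≫ h) ⟶ V :=
    IsOpenImmersion.lift N.ι m hmN ≫ inv (ψ ∣_ N) ≫ (ψ ⁻¹ᵁ N).ι ≫ W.ι ≫ pullback.fst q h
  have hσψ : (IsOpenImmersion.lift N.ι m hmN ≫ inv (ψ ∣_ N) ≫ (ψ ⁻¹ᵁ N).ι) ≫ ψ = m := by
    rw [Category.assoc, Category.assoc, ← morphismRestrict_ι, IsIso.inv_hom_id_assoc,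
      IsOpenImmersion.lift_fac]
  refine ⟨N', N'.ι ≫ h, liftOpen N' ū hūN, σ, inferInstance, ?_, ?_, fun d hd => ?_⟩
  · rw [← Category.assoc, liftOpen_ι, hū']
  · calc σ ≫ e = ((IsOpenImmersion.lift N.ι m hmN ≫ inv (ψ ∣_ N) ≫ (ψ ⁻¹ᵁ N).ι) ≫ ψ) ≫
          pullback.fst p h := by simp only [σ, ψ, Category.assoc, hφ1]
      _ = pullback.fst p (N'.ι ≫ h) := by rw [hσψ, hm1]
  · have hdm : d ≫ m = a' := hover _ (by rw [Category.assoc, hm2, ← Category.assoc, hd, liftOpen_ι])
    have := hc' (d ≫ IsOpenImmersion.lift N.ι m hmN ≫ inv (ψ ∣_ N) ≫ (ψ ⁻¹ᵁ N).ι) (by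
      rw [Category.assoc, hσψ, hdm])
    simpa only [σ, Category.assoc] using this

end Groth.Agent.FiniteSplit
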