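import Groth.Agent.Lib.EtStalk.Finite
import Groth.Prelude.Def_EtCore
import Mathlib.CategoryTheory.Abelian.RightDerived
import Mathlib.CategoryTheory.Limits.Shapes.Biproducts
import Mathlib.Algebra.Category.Grp.Biproducts

/-!
# Stalks of direct images along finite morphisms
-/

universe u

open CategoryTheory CategoryTheory.Limits AlgebraicGeometry Opposite

namespace Groth.Agent.EtStalk

section AlgClosed

variable {X : Scheme.{u}}

/-- Over every point of an etale scheme there is a geometric point with algebraically closed field. -/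
lemma exists_algFib (U : X.Etale) (x : U.left) :
    ∃ (Ω : Type u) (_ : Field Ω) (_ : IsAlgClosed Ω) (ξ : Spec (CommRingCat.of Ω) ⟶ X)
      (φ : fib ξ U), fibPt φ = x := by
  let Ω := AlgebraicClosure (U.left.residueField x)
  let a : Spec (CommRingCat.of Ω) ⟶ U.left :=
    Spec.map (CommRingCat.ofHom (algebraMap (U.left.residueField x) Ω)) ≫ U.left.fromSpecResidueField x
  refine ⟨Ω, inferInstance, inferInstance, a ≫ U.hom, Over.homMk a rfl, ?_⟩
  change a default = x
  simp only [a, Scheme.Hom.comp_apply]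
  exact Scheme.fromSpecResidueField_apply _ _

lemma isIso_iff_stalk_alg {F G : EtCoh.Ab X} (a : F ⟶ G) :
    IsIso a ↔ ∀ (Ω : Type u) [Field Ω] [IsAlgClosed Ω] (ξ : Spec (CommRingCat.of Ω) ⟶ X),
      Function.Bijective ((EtCoh.stalk ξ).map a) := by
  refine ⟨fun _ Ω _ _ ξ => ConcreteCategory.bijective_of_isIso _, fun h => ?_⟩
  have hinj : ∀ U, Function.Injective (a.hom.app U) := by
    intro U s t hst
    refine eq_of_agree F fun x => ?_
    obtain ⟨Ω, _, _, ξ, φ, hφ⟩ := exists_algFib U.unop x
    refine hφ ▸ (mem_agree_iff_germ F φ s t).2 ((h Ω ξ).1 ?_)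
    rw [germ_nat, germ_nat, hst]
  have : Mono a := (mono_iff_app_injective a).2 hinj
  suffices Epi a from isIso_of_mono_of_epi a
  rw [← Sheaf.isLocallySurjective_iff_epi']
  refine ⟨fun {U} s => ?_⟩
  rw [EtSite.mem_et_iff]
  intro x
  obtain ⟨Ω, _, _, ξ, φ, hφ⟩ := exists_algFib U x
  obtain ⟨q, hq⟩ := (h Ω ξ).2 (germ ξ G φ s)
  obtain ⟨V, y, t, rfl⟩ := germ_surjective ξ F q
  rw [germ_nat] at hq
  obtain ⟨⟨W, z⟩, ⟨gV, hgV⟩, ⟨gU, hgU⟩, -⟩ :=
    IsCofilteredOrEmpty.cone_objs (C := (Scheme.pointSmallEtale ξ).fiber.Elements) ⟨V, y⟩ ⟨U, φ⟩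
  dsimp at hgV hgU
  rw [← hgV, ← germ_map, ← hgU, ← germ_map, germ_eq_iff] at hq
  obtain ⟨W', g', z', hz', he⟩ := hq
  refine ⟨W', g' ≫ gU, fibPt z', ⟨F.obj.map (g' ≫ gV).op t, ?_⟩, ?_⟩
  · rw [op_comp, F.obj.map_comp, ConcreteCategory.comp_apply]
    rw [← ConcreteCategory.comp_apply, ← ConcreteCategory.comp_apply, a.hom.naturality,
      a.hom.naturality_assoc, ConcreteCategory.comp_apply, ConcreteCategory.comp_apply]
    simpa [op_comp] using he
  · have e : (Scheme.pointSmallEtale ξ).fiber.map (g' ≫ gU) z' = φ := by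
      rw [← hgU, ← hz', Functor.map_comp]; rfl
    exact Eq.trans (congrArg fibPt e) hφ

end AlgClosed

section Parts

variable {X : Scheme.{u}} (F : EtCoh.Ab X) (U : X.Etale) {ι : Type u} (P : ι → U.left.Opens)

lemma generate_parts_mem (hP : ∀ z, ∃ l, z ∈ P l) :
    Sieve.generate (Presieve.ofArrows _ fun l => EtSite.subHom U (P l)) ∈ X.smallEtaleTopology U := by
  rw [EtSite.mem_et_iff]
  intro x
  obtain ⟨l, hl⟩ := hP x
  exact ⟨EtSite.sub U (P l), EtSite.subHom U (P l), ⟨x, hl⟩,
    ⟨EtSite.sub U (P l), 𝟙 _, EtSite.subHom U (P l), Presieve.ofArrows.mk l, Category.id_comp _⟩, rfl⟩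

/-- Sections glue uniquely along a partition into open pieces. -/
lemma existsUnique_glue_parts (hP : ∀ z, ∃! l, z ∈ P l)
    (s : ∀ l, F.obj.obj (op (EtSite.sub U (P l)))) :
    ∃! t : F.obj.obj (op U), ∀ l, F.obj.map (EtSite.subHom U (P l)).op t = s l := by
  have hsh := (Presieve.isSheafFor_iff_generate _).2
    (((isSheaf_iff_isSheaf_of_type _ _).1
      ((Presheaf.isSheaf_iff_isSheaf_forget _ F.obj (forget _)).1 F.property)) _
        (generate_parts_mem U P fun z => (hP z).exists))
  rw [Presieve.isSheafFor_arrows_iff] at hsh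
  refine hsh s ?_
  intro i j Z gi gj h
  by_cases hij : i = j
  · subst hij
    have : Mono (EtSite.subHom U (P i)) := (MorphismProperty.Over.forget _ _ _).mono_of_mono_map
      ((Over.forget X).mono_of_mono_map (inferInstanceAs (Mono (P i).ι)))
    rw [(cancel_mono (EtSite.subHom U (P i))).1 h]
  · have : IsEmpty Z.left := ⟨fun z => hij ((hP ((P i).ι (gi.left z))).unique (gi.left z).2 (by
      rw [show (P i).ι (gi.left z) = (P j).ι (gj.left z) from
        (Scheme.Hom.comp_apply _ _ _).symm.trans
          ((congrArg (fun t : Z.left ⟶ U.left => t z) (congrArg (fun t => t.left) h)).trans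
            (Scheme.Hom.comp_apply _ _ _))]
      exact (gj.left z).2))⟩
    exact eq_of_agree F fun z => isEmptyElim z

end Parts

section Push

variable {X Y : Scheme.{u}} (f : X ⟶ Y) {Ω : Type u} [Field Ω] [IsAlgClosed Ω]
  (η : Spec (CommRingCat.of Ω) ⟶ Y)

/-- The map from the stalk of a direct image to the stalk at a point above. -/
noncomputable def liftStalk (l : fLifts f η) (F : EtCoh.Ab X) :
    (EtCoh.stalk η).obj ((EtCoh.push f).obj F) ⟶ (EtCoh.stalk l.1).obj F :=
  (Scheme.pointSmallEtale η).presheafFiberDesc (P := ((EtCoh.push f).obj F).obj)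
    (fun W w => germ l.1 F (liftAt f η w l))
    (fun W W' g w => ConcreteCategory.hom_ext _ _ fun s => by
      refine Eq.trans (germ_map l.1 F ((EtCoh.bc f).map g) (liftAt f η w l) s) ?_
      exact congrArg (fun t => germ l.1 F t s) (liftAt_map f η g w l))

lemma liftStalk_germ (l : fLifts f η) (F : EtCoh.Ab X) {W : Y.Etale} (w : fib η W)
    (s : ((EtCoh.push f).obj F).obj.obj (op W)) :
    liftStalk f η l F (germ η ((EtCoh.push f).obj F) w s) = germ l.1 F (liftAt f η w l) s :=
  ConcreteCategory.congr_hom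
    (GrothendieckTopology.Point.toPresheafFiber_presheafFiberDesc _ _ _ W w) s

lemma liftStalk_nat (l : fLifts f η) {F G : EtCoh.Ab X} (a : F ⟶ G)
    (p : (EtCoh.stalk η).obj ((EtCoh.push f).obj F)) :
    liftStalk f η l G ((EtCoh.stalk η).map ((EtCoh.push f).map a) p) =
      (EtCoh.stalk l.1).map a (liftStalk f η l F p) := by
  obtain ⟨W, w, s, rfl⟩ := germ_surjective _ _ p
  rw [germ_nat, liftStalk_germ, liftStalk_germ, germ_nat]
  rfl

/-- The morphism to a base change of the final object. -/
noncomputable def toBcTop (V : X.Etale) : V ⟶ (EtCoh.bc f).obj (EtCoh.top Y) :=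
  (EtCore.bcTopIsTerminal f).from V

/-- The stalk of a direct image along a finite morphism is the product of the stalks above. -/
theorem bijective_liftStalk [IsFinite f] (F : EtCoh.Ab X) :
    Function.Bijective (fun p (l : fLifts f η) => liftStalk f η l F p) := by
  constructor
  · suffices h0 : ∀ p, (∀ l, liftStalk f η l F p = 0) → p = 0 by
      intro p q hpq
      refine sub_eq_zero.1 (h0 _ fun l => ?_)
      rw [map_sub]
      exact sub_eq_zero.2 (congrFun hpq l)
    intro p hp
    obtain ⟨W, w, s, rfl⟩ := germ_surjective _ _ p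
    have hz : ∀ l, ∃ (V : X.Etale) (g : V ⟶ (EtCoh.bc f).obj W) (y : fib l.1 V),
        (Scheme.pointSmallEtale l.1).fiber.map g y = liftAt f η w l ∧
          F.obj.map g.op s = 0 := fun l => by
      have h := hp l
      rw [liftStalk_germ] at h
      obtain ⟨V, g, y, hy, he⟩ :=
        (germ_eq_iff l.1 F (liftAt f η w l) s 0).1 (h.trans (map_zero _).symm)
      exact ⟨V, g, y, hy, he.trans (map_zero _)⟩
    choose V m c hc hzero using hz
    obtain ⟨U, g, u, P, σ, hgu, hP, hσ, -⟩ := exists_refinement f η w V m c hc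
    have h0 : F.obj.map ((EtCoh.bc f).map g).op s = 0 :=
      (existsUnique_glue_parts F _ P hP fun _ => 0).unique (fun l => by
        rw [← Functor.map_comp_apply, ← op_comp, ← hσ l, op_comp, Functor.map_comp_apply, hzero,
          map_zero]) (fun l => map_zero _)
    rw [← hgu, ← germ_map]
    refine (congrArg (germ η ((EtCoh.push f).obj F) u) ?_).trans (map_zero _)
    exact h0
  · intro t
    choose V c s hs using fun l => germ_surjective l.1 F (t l)
    let w : fib η (EtCoh.top Y) := Over.homMk η (Category.comp_id _)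
    have hc : ∀ l : fLifts f η,
        (Scheme.pointSmallEtale l.1).fiber.map (toBcTop f (V l)) (c l) = liftAt f η w l := fun l => by
      refine Over.OverMorphism.ext (pullback.hom_ext ?_ ((Over.w _).trans (Over.w (liftAt f η w l)).symm))
      have hid : pullback.fst (EtCoh.top Y).hom f = pullback.snd (EtCoh.top Y).hom f ≫ f :=
        (Category.comp_id _).symm.trans pullback.condition
      refine (congrArg (_ ≫ ·) hid).trans (Eq.trans ?_ (congrArg (_ ≫ ·) hid.symm))
      exact (Category.assoc _ _ _).symm.trans ((congrArg (· ≫ f)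
        ((Over.w _).trans (Over.w (liftAt f η w l)).symm)).trans (Category.assoc _ _ _))
    obtain ⟨U, g, u, P, σ, -, hP, -, hb⟩ := exists_refinement f η w V (fun l => toBcTop f (V l)) c hc
    obtain ⟨S, hS, -⟩ := existsUnique_glue_parts F _ P hP fun l => F.obj.map (σ l).op (s l)
    refine ⟨germ η ((EtCoh.push f).obj F) u S, funext fun l => ?_⟩
    obtain ⟨b, hb₁, hb₂⟩ := hb l
    dsimp only
    rw [liftStalk_germ, ← hb₁, ← germ_map, hS, germ_map, hb₂, hs]

/-- Direct image along a finite morphism preserves epimorphisms. -/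
instance preservesEpimorphisms_push_finite [IsFinite f] : (EtCoh.push f).PreservesEpimorphisms where
  preserves {F G} a _ := by
    rw [← Sheaf.isLocallySurjective_iff_epi']
    refine ⟨fun {U} s => ?_⟩
    rw [EtSite.mem_et_iff]
    intro x
    obtain ⟨Ω', _, _, ξ, φ, hφ⟩ := exists_algFib U x
    have hsur : ∀ l : fLifts f ξ, ∃ q, (EtCoh.stalk l.1).map a q =
        liftStalk f ξ l G (germ ξ _ φ s) := fun l =>
      (AddCommGrpCat.epi_iff_surjective _).1 inferInstance _
    choose q hq using hsur
    obtain ⟨p, hp⟩ := (bijective_liftStalk f ξ F).2 q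
    have hpq : (EtCoh.stalk ξ).map ((EtCoh.push f).map a) p = germ ξ _ φ s :=
      (bijective_liftStalk f ξ G).1 (funext fun l => by
        dsimp only
        rw [liftStalk_nat, show liftStalk f ξ l F p = q l from congrFun hp l, hq])
    obtain ⟨V, y, t, rfl⟩ := germ_surjective ξ _ p
    rw [germ_nat] at hpq
    obtain ⟨⟨W, z⟩, ⟨gV, hgV⟩, ⟨gU, hgU⟩, -⟩ :=
      IsCofilteredOrEmpty.cone_objs (C := (Scheme.pointSmallEtale ξ).fiber.Elements) ⟨V, y⟩ ⟨U, φ⟩
    dsimp at hgV hgU
    rw [← hgV, ← germ_map, ← hgU, ← germ_map, germ_eq_iff] at hpq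
    obtain ⟨W', g', z', hz', he⟩ := hpq
    refine ⟨W', g' ≫ gU, fibPt z',
      ⟨((EtCoh.push f).obj F).obj.map (g' ≫ gV).op t, ?_⟩, ?_⟩
    · rw [op_comp, Functor.map_comp_apply, NatTrans.naturality_apply, NatTrans.naturality_apply, he,
        op_comp, Functor.map_comp_apply]
    · have e : (Scheme.pointSmallEtale ξ).fiber.map (g' ≫ gU) z' = φ := by
        rw [← hgU, ← hz', Functor.map_comp]; rfl
      exact Eq.trans (congrArg fibPt e) hφ

instance preservesFiniteColimits_push_finite [IsFinite f] :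
    PreservesFiniteColimits (EtCoh.push f) := by
  have := (EtCoh.push f).preservesHomology_of_preservesEpis_and_kernels
  have he := (Functor.exact_tfae (EtCoh.push f)).out 2 3 rfl rfl
  exact (he.1 ‹(EtCoh.push f).PreservesHomology›).2

end Push

end Groth.Agent.EtStalk
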