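import Groth.Agent.Lib.EtStalk.FiniteStalk

/-!
# Base change for direct images along finite morphisms
-/

universe u

open CategoryTheory CategoryTheory.Limits AlgebraicGeometry Opposite

namespace Groth.Agent.EtStalk

variable {X Y X' Y' : Scheme.{u}} (f : X ⟶ Y) (g : Y' ⟶ Y) (f' : X' ⟶ Y') (g' : X' ⟶ X)
  (w : g' ≫ f = f' ≫ g)

/-- The comparison of the two iterated base changes around a square. -/
noncomputable def sqHom (W : Y.Etale) :
    (EtCoh.bc f').obj ((EtCoh.bc g).obj W) ⟶ (EtCoh.bc g').obj ((EtCoh.bc f).obj W) :=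
  (MorphismProperty.Over.pullbackComp (P := EtCoh.etaleMP) (Q := ⊤) f' g).inv.app W ≫
    (MorphismProperty.Over.pullbackCongr (P := EtCoh.etaleMP) (Q := ⊤) w).inv.app W ≫
    (MorphismProperty.Over.pullbackComp (P := EtCoh.etaleMP) (Q := ⊤) g' f).hom.app W

set_option backward.isDefEq.respectTransparency.types false in
lemma sqHom_fst (W : Y.Etale) :
    (sqHom f g f' g' w W).left ≫ bcFst g' ((EtCoh.bc f).obj W) ≫ bcFst f W =
      bcFst f' ((EtCoh.bc g).obj W) ≫ bcFst g W := by
  let A := (MorphismProperty.Over.pullbackComp (P := EtCoh.etaleMP) (Q := ⊤) f' g).app W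
  let B := (MorphismProperty.Over.pullbackCongr (P := EtCoh.etaleMP) (Q := ⊤) w).app W
  have hA : A.hom.left ≫ bcFst f' ((EtCoh.bc g).obj W) ≫ bcFst g W =
      pullback.fst W.hom (f' ≫ g) :=
    MorphismProperty.Over.pullbackComp_left_fst_fst f' g W
  have hC : ((MorphismProperty.Over.pullbackComp (P := EtCoh.etaleMP) (Q := ⊤) g' f).hom.app W).left ≫
      bcFst g' ((EtCoh.bc f).obj W) ≫ bcFst f W = pullback.fst W.hom (g' ≫ f) :=
    MorphismProperty.Over.pullbackComp_left_fst_fst g' f W
  have hB : B.hom.left ≫ pullback.fst W.hom (f' ≫ g) = pullback.fst W.hom (g' ≫ f) :=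
    MorphismProperty.Over.pullbackCongr_hom_app_left_fst w W
  have hAi : A.inv.left ≫ A.hom.left = 𝟙 _ := congrArg (fun t => t.left) A.inv_hom_id
  have hBi : B.inv.left ≫ B.hom.left = 𝟙 _ := congrArg (fun t => t.left) B.inv_hom_id
  have s1 : (sqHom f g f' g' w W).left ≫ bcFst g' ((EtCoh.bc f).obj W) ≫ bcFst f W =
      A.inv.left ≫ B.inv.left ≫ pullback.fst W.hom (g' ≫ f) := by
    rw [← hC]
    simp only [sqHom, A, B]
    exact (Category.assoc _ _ _).trans (congrArg (_ ≫ ·) (Category.assoc _ _ _))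
  have s2 : B.inv.left ≫ pullback.fst W.hom (g' ≫ f) = pullback.fst W.hom (f' ≫ g) := by
    rw [← hB]
    exact (Category.assoc _ _ _).symm.trans ((congrArg (· ≫ _) hBi).trans (Category.id_comp _))
  have s3 : A.inv.left ≫ pullback.fst W.hom (f' ≫ g) =
      bcFst f' ((EtCoh.bc g).obj W) ≫ bcFst g W := by
    rw [← hA]
    exact (Category.assoc _ _ _).symm.trans ((congrArg (· ≫ _) hAi).trans (Category.id_comp _))
  exact s1.trans ((congrArg (A.inv.left ≫ ·) s2).trans s3)

set_option backward.isDefEq.respectTransparency.types false in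
lemma baseChange0_germ (F : EtCoh.Ab X) {W : Y.Etale}
    (s : ((EtCoh.push f).obj F).obj.obj (op W)) :
    (EtCoh.baseChange0 f g f' g' w F).hom.app (op ((EtCoh.bc g).obj W))
        (((EtCoh.pullPushAdj g).unit.app ((EtCoh.push f).obj F)).hom.app (op W) s) =
      ((EtCoh.pull g').obj F).obj.map (sqHom f g f' g' w W).op
        (((EtCoh.pullPushAdj g').unit.app F).hom.app (op ((EtCoh.bc f).obj W)) s) := by
  have h : (EtCoh.pullPushAdj g).unit.app ((EtCoh.push f).obj F) ≫
      (EtCoh.push g).map (EtCoh.baseChange0 f g f' g' w F) =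
      (EtCoh.push f).map ((EtCoh.pullPushAdj g').unit.app F) ≫ (EtCoh.pushComp f g').hom.app _ ≫
        (EtCoh.pushCongr w).hom.app _ ≫ (EtCoh.pushComp g f').inv.app _ := by
    exact ((EtCoh.pullPushAdj g).homEquiv_unit _ _ _).symm.trans (Equiv.apply_symm_apply _ _)
  refine (congrArg (fun t : (EtCoh.push f).obj F ⟶ (EtCoh.push g).obj ((EtCoh.push f').obj
    ((EtCoh.pull g').obj F)) => t.hom.app (op W) s) h).trans ?_
  simp only [sqHom, op_comp, Functor.map_comp_apply]
  rfl

variable {Ω : Type u} [Field Ω] [IsAlgClosed Ω] (η' : Spec (CommRingCat.of Ω) ⟶ Y')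

/-- A point above in the fibre product lies over a point above in the original scheme. -/
noncomputable def downLift (l' : fLifts f' η') : fLifts f (η' ≫ g) :=
  ⟨l'.1 ≫ g', by rw [Category.assoc, w, ← Category.assoc, l'.2]⟩

omit w [IsAlgClosed Ω] in
lemma bijective_downLift (h : IsPullback g' f' f g) :
    Function.Bijective (downLift f g f' g' h.w η') := by
  constructor
  · intro a b hab
    exact Subtype.ext (h.hom_ext (congrArg Subtype.val hab) (a.2.trans b.2.symm))
  · intro l
    exact ⟨⟨h.lift l.1 η' l.2, h.lift_snd _ _ _⟩, Subtype.ext (h.lift_fst _ _ _)⟩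

set_option backward.isDefEq.respectTransparency.types false in
lemma fib_iter_ext {ξ' : Spec (CommRingCat.of Ω) ⟶ X'} {W : Y.Etale}
    (a b : fib ξ' ((EtCoh.bc g').obj ((EtCoh.bc f).obj W)))
    (h : a.left ≫ bcFst g' ((EtCoh.bc f).obj W) ≫ bcFst f W =
      b.left ≫ bcFst g' ((EtCoh.bc f).obj W) ≫ bcFst f W) : a = b := by
  have hs : a.left ≫ pullback.snd ((EtCoh.bc f).obj W).hom g' =
      b.left ≫ pullback.snd ((EtCoh.bc f).obj W).hom g' := (Over.w a).trans (Over.w b).symm
  refine Over.OverMorphism.ext (pullback.hom_ext (pullback.hom_ext ?_ ?_) hs)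
  · exact (Category.assoc _ _ _).trans (h.trans (Category.assoc _ _ _).symm)
  · have hc : bcFst g' ((EtCoh.bc f).obj W) ≫ pullback.snd W.hom f =
        pullback.snd ((EtCoh.bc f).obj W).hom g' ≫ g' := pullback.condition
    refine (Category.assoc _ _ _).trans (Eq.trans ?_ (Category.assoc _ _ _).symm)
    refine (congrArg (a.left ≫ ·) hc).trans (Eq.trans ?_ (congrArg (b.left ≫ ·) hc.symm))
    exact (Category.assoc _ _ _).symm.trans ((congrArg (· ≫ g') hs).trans (Category.assoc _ _ _))

set_option backward.isDefEq.respectTransparency.types false in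
lemma liftStalk_baseChange0 (F : EtCoh.Ab X) (l' : fLifts f' η')
    (p : (EtCoh.stalk (η' ≫ g)).obj ((EtCoh.push f).obj F)) :
    liftStalk f' η' l' ((EtCoh.pull g').obj F)
        ((EtCoh.stalk η').map (EtCoh.baseChange0 f g f' g' w F)
          (stalkPull g η' ((EtCoh.push f).obj F) p)) =
      stalkPull g' l'.1 F (liftStalk f (η' ≫ g) (downLift f g f' g' w η' l') F p) := by
  obtain ⟨W, x, s, rfl⟩ := germ_surjective _ _ p
  rw [germ_stalkPull, germ_nat, baseChange0_germ, liftStalk_germ, liftStalk_germ]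
  refine Eq.trans ?_ (germ_stalkPull g' l'.1 F (liftAt f (η' ≫ g) x (downLift f g f' g' w η' l')) s).symm
  refine (germ_map l'.1 ((EtCoh.pull g').obj F) (sqHom f g f' g' w W)
    (liftAt f' η' (liftFib g η' x) l') _).trans ?_
  refine congrArg (fun t => germ l'.1 ((EtCoh.pull g').obj F) t _) (fib_iter_ext f g' _ _ ?_)
  refine (Category.assoc _ _ _).trans ((congrArg (_ ≫ ·) (sqHom_fst f g f' g' w W)).trans ?_)
  refine (Category.assoc _ _ _).symm.trans ((congrArg (· ≫ bcFst g W) (liftAt_left_fst _ _ _ _)).trans ?_)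
  refine (pullback.lift_fst _ _ _).trans (Eq.symm ?_)
  refine (Category.assoc _ _ _).symm.trans ((congrArg (· ≫ bcFst f W) (pullback.lift_fst _ _ _)).trans ?_)
  exact liftAt_left_fst _ _ _ _

omit w in
/-- Base change in degree zero for finite morphisms. -/
theorem isIso_baseChange0_finite [IsFinite f] (h : IsPullback g' f' f g) (F : EtCoh.Ab X) :
    IsIso (EtCoh.baseChange0 f g f' g' h.w F) := by
  have : IsFinite f' := MorphismProperty.of_isPullback h ‹IsFinite f›
  rw [isIso_iff_stalk_alg]
  intro Ω _ _ η'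
  have hbot := bijective_liftStalk f (η' ≫ g) F
  have hdown := bijective_downLift f g f' g' η' h
  have hs := ConcreteCategory.bijective_of_isIso (stalkPull g η' ((EtCoh.push f).obj F))
  refine (Function.Bijective.of_comp_iff _ hs).1 ?_
  refine (Function.Bijective.of_comp_iff' (bijective_liftStalk f' η' ((EtCoh.pull g').obj F)) _).1 ?_
  have he : ((fun q (l' : fLifts f' η') => liftStalk f' η' l' ((EtCoh.pull g').obj F) q) ∘
      ((EtCoh.stalk η').map (EtCoh.baseChange0 f g f' g' h.w F)) ∘
        stalkPull g η' ((EtCoh.push f).obj F)) =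
      fun p (l' : fLifts f' η') => stalkPull g' l'.1 F
        (liftStalk f (η' ≫ g) (downLift f g f' g' h.w η' l') F p) :=
    funext fun p => funext fun l' => liftStalk_baseChange0 f g f' g' h.w η' F l' p
  rw [he]
  constructor
  · intro p q hpq
    refine hbot.1 (funext fun l => ?_)
    obtain ⟨l', rfl⟩ := hdown.2 l
    exact (ConcreteCategory.bijective_of_isIso (stalkPull g' l'.1 F)).1 (congrFun hpq l')
  · intro t
    have hdi := fun l' => (ConcreteCategory.bijective_of_isIso (stalkPull g' l'.1 F)).2 (t l')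
    choose r hr using hdi
    let E := Equiv.ofBijective _ hdown
    obtain ⟨p, hp⟩ := hbot.2 ((Equiv.piCongrLeft (fun l : fLifts f (η' ≫ g) =>
      ↑((EtCoh.stalk l.1).obj F)) E) r)
    refine ⟨p, funext fun l' => Eq.trans (congrArg (stalkPull g' l'.1 F) ?_) (hr l')⟩
    exact (congrFun hp (E l')).trans (Equiv.piCongrLeft_apply_apply _ _ _ _)

end Groth.Agent.EtStalk
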