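import Groth.Agent.Lib.EtStalk.IntegralSplit
import Groth.Agent.Lib.EtStalk.FiniteStalk

/-!
# Direct images along integral morphisms: stalks and exactness
-/

universe u

open CategoryTheory CategoryTheory.Limits AlgebraicGeometry Opposite
open Groth.Agent.Weight

namespace Groth.Agent.EtStalk

variable {X Y : Scheme.{u}} (f : X ⟶ Y) {Ω : Type u} [Field Ω] [IsAlgClosed Ω]
  (η : Spec (CommRingCat.of Ω) ⟶ Y)

/-- The point of the geometric fibre defined by a lift. -/
noncomputable def fpt (l : fLifts f η) : (pullback f η : Scheme.{u}) :=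
  pt (pullback.lift l.1 (𝟙 _) (l.2.trans (Category.id_comp η).symm))

/-- The geometric fibre maps to every base changed neighbourhood. -/
noncomputable def fibHom {W : Y.Etale} (w : fib η W) : pullback f η ⟶ ((EtCoh.bc f).obj W).left :=
  pullback.lift (pullback.snd f η ≫ w.left) (pullback.fst f η)
    ((Category.assoc _ _ _).trans ((congrArg (pullback.snd f η ≫ ·) (Over.w w)).trans
      pullback.condition.symm))

set_option backward.isDefEq.respectTransparency.types false in
lemma fibHom_fpt {W : Y.Etale} (w : fib η W) (l : fLifts f η) :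
    fibHom f η w (fpt f η l) = fibPt (liftAt f η w l) := by
  have h : pullback.lift l.1 (𝟙 _) (l.2.trans (Category.id_comp η).symm) ≫ fibHom f η w =
      (liftAt f η w l).left := by
    refine pullback.hom_ext ?_ ?_
    · refine (Category.assoc _ _ _).trans ((congrArg (_ ≫ ·) (pullback.lift_fst _ _ _)).trans ?_)
      refine (Category.assoc _ _ _).symm.trans ((congrArg (· ≫ w.left) (pullback.lift_snd _ _ _)).trans ?_)
      exact (Category.id_comp _).trans (liftAt_left_fst f η w l).symm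
    · refine (Category.assoc _ _ _).trans ((congrArg (_ ≫ ·) (pullback.lift_snd _ _ _)).trans ?_)
      exact (pullback.lift_fst _ _ _).trans (Over.w (liftAt f η w l)).symm
  refine (pt_comp _ _).symm.trans ?_
  rw [h]
  exact congrArg (fun t => (liftAt f η w l).left t) (Subsingleton.elim (α := PrimeSpectrum Ω) _ _)

set_option backward.isDefEq.respectTransparency.types false in
lemma fibHom_map {U W : Y.Etale} (g : U ⟶ W) (u : fib η U) :
    fibHom f η u ≫ ((EtCoh.bc f).map g).left =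
      fibHom f η ((Scheme.pointSmallEtale η).fiber.map g u) := by
  refine pullback.hom_ext ?_ ?_
  · refine (Category.assoc _ _ _).trans ((congrArg (_ ≫ ·) (bcFst_nat f g)).trans ?_)
    refine (Category.assoc _ _ _).symm.trans ((congrArg (· ≫ g.left) (pullback.lift_fst _ _ _)).trans ?_)
    exact (Category.assoc _ _ _).trans (pullback.lift_fst _ _ _).symm
  · refine (Category.assoc _ _ _).trans
      ((congrArg (fibHom f η u ≫ ·) (MorphismProperty.Over.w ((EtCoh.bc f).map g))).trans ?_)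
    exact (pullback.lift_snd _ _ _).trans (pullback.lift_snd _ _ _).symm

/-- A morphism between open pieces. -/
noncomputable def subMap {A B : X.Etale} (g : A ⟶ B) (P : A.left.Opens) (Q : B.left.Opens)
    (h : P ≤ g.left ⁻¹ᵁ Q) : EtSite.sub A P ⟶ EtSite.sub B Q :=
  MorphismProperty.Over.homMk (g.left.resLE Q P h) (by
    change g.left.resLE Q P h ≫ Q.ι ≫ B.hom = P.ι ≫ A.hom
    rw [← Category.assoc, Scheme.Hom.resLE_comp_ι, Category.assoc, MorphismProperty.Over.w g])

lemma subMap_subHom {A B : X.Etale} (g : A ⟶ B) (P : A.left.Opens) (Q : B.left.Opens)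
    (h : P ≤ g.left ⁻¹ᵁ Q) : subMap g P Q h ≫ EtSite.subHom B Q = EtSite.subHom A P ≫ g :=
  MorphismProperty.Over.Hom.ext (Scheme.Hom.resLE_comp_ι _ h)

lemma mono_subHom (U : X.Etale) (P : U.left.Opens) : Mono (EtSite.subHom U P) :=
  (MorphismProperty.Over.forget _ _ _).mono_of_mono_map
    ((Over.forget X).mono_of_mono_map (inferInstanceAs (Mono P.ι)))

lemma pt_eq_fibPt {Ω' : Type u} [Field Ω'] [IsAlgClosed Ω'] {ξ : Spec (CommRingCat.of Ω') ⟶ X}
    {U : X.Etale} (φ : fib ξ U) : pt (X := U.left) φ.left = fibPt φ :=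
  congrArg (fun t => φ.left t) (Subsingleton.elim (α := PrimeSpectrum Ω') _ _)

/-- An element of a fibre lying in an open piece. -/
noncomputable def subFib {Ω' : Type u} [Field Ω'] [IsAlgClosed Ω'] {ξ : Spec (CommRingCat.of Ω') ⟶ X}
    {U : X.Etale} (φ : fib ξ U) (P : U.left.Opens) (h : fibPt φ ∈ P) : fib ξ (EtSite.sub U P) :=
  Over.homMk (liftOpen (P := U.left) P φ.left ((pt_eq_fibPt φ).symm ▸ h)) ((Category.assoc _ _ _).symm.trans
    ((congrArg (· ≫ U.hom) (liftOpen_ι (P := U.left) P φ.left ((pt_eq_fibPt φ).symm ▸ h))).trans (Over.w φ)))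

lemma subFib_map {Ω' : Type u} [Field Ω'] [IsAlgClosed Ω'] {ξ : Spec (CommRingCat.of Ω') ⟶ X}
    {U : X.Etale} (φ : fib ξ U) (P : U.left.Opens) (h : fibPt φ ∈ P) :
    (Scheme.pointSmallEtale ξ).fiber.map (EtSite.subHom U P) (subFib φ P h) = φ :=
  Over.OverMorphism.ext (liftOpen_ι (P := U.left) P φ.left ((pt_eq_fibPt φ).symm ▸ h))

lemma fib_sub_ext {Ω' : Type u} [Field Ω'] [IsAlgClosed Ω'] {ξ : Spec (CommRingCat.of Ω') ⟶ X}
    {U : X.Etale} {P : U.left.Opens} (a b : fib ξ (EtSite.sub U P))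
    (h : (Scheme.pointSmallEtale ξ).fiber.map (EtSite.subHom U P) a =
      (Scheme.pointSmallEtale ξ).fiber.map (EtSite.subHom U P) b) : a = b :=
  Over.OverMorphism.ext ((cancel_mono P.ι).1 (congrArg (fun t : fib ξ U => t.left) h))

lemma fibPt_mem_of_sub {Ω' : Type u} [Field Ω'] [IsAlgClosed Ω'] {ξ : Spec (CommRingCat.of Ω') ⟶ X}
    {U : X.Etale} {P : U.left.Opens} (a : fib ξ (EtSite.sub U P)) :
    fibPt ((Scheme.pointSmallEtale ξ).fiber.map (EtSite.subHom U P) a) ∈ P :=
  (a.left (default : Spec (CommRingCat.of Ω'))).2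

/-- Two neighbourhoods over a neighbourhood are dominated by a third one over it. -/
lemma exists_common {W : Y.Etale} {w : fib η W} {U₁ U₂ : Y.Etale} (g₁ : U₁ ⟶ W) (g₂ : U₂ ⟶ W)
    (u₁ : fib η U₁) (u₂ : fib η U₂) (h₁ : (Scheme.pointSmallEtale η).fiber.map g₁ u₁ = w)
    (h₂ : (Scheme.pointSmallEtale η).fiber.map g₂ u₂ = w) :
    ∃ (U : Y.Etale) (q₁ : U ⟶ U₁) (q₂ : U ⟶ U₂) (u : fib η U), q₁ ≫ g₁ = q₂ ≫ g₂ ∧
      (Scheme.pointSmallEtale η).fiber.map q₁ u = u₁ ∧
      (Scheme.pointSmallEtale η).fiber.map q₂ u = u₂ := by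
  obtain ⟨⟨A, a⟩, ⟨a₁, ha₁⟩, ⟨a₂, ha₂⟩, -⟩ :=
    IsCofilteredOrEmpty.cone_objs (C := (Scheme.pointSmallEtale η).fiber.Elements) ⟨U₁, u₁⟩ ⟨U₂, u₂⟩
  dsimp at a₁ a₂ ha₁ ha₂
  let e₁ := CategoryOfElements.homMk (F := (Scheme.pointSmallEtale η).fiber) ⟨A, a⟩ ⟨W, w⟩
    (a₁ ≫ g₁) (by simp [ha₁, h₁])
  let e₂ := CategoryOfElements.homMk (F := (Scheme.pointSmallEtale η).fiber) ⟨A, a⟩ ⟨W, w⟩
    (a₂ ≫ g₂) (by simp [ha₂, h₂])
  obtain ⟨⟨B, b⟩, ⟨c, hc⟩, hce⟩ := IsCofilteredOrEmpty.cone_maps e₁ e₂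
  dsimp at c hc
  refine ⟨B, c ≫ a₁, c ≫ a₂, b, ?_, ?_, ?_⟩
  · simpa [e₁, e₂] using congrArg Subtype.val hce
  · simp [hc, ha₁]
  · simp [hc, ha₂]

variable [IsIntegralHom f]

omit [IsIntegralHom f] in
lemma fpt_eq (l : fLifts f η) (q : Spec (CommRingCat.of Ω) ⟶ pullback f η)
    (h₁ : q ≫ pullback.fst f η = l.1) (h₂ : q ≫ pullback.snd f η = 𝟙 _) : fpt f η l = pt q :=
  congrArg pt (pullback.hom_ext ((pullback.lift_fst _ _ _).trans h₁.symm)
    ((pullback.lift_snd _ _ _).trans h₂.symm))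

lemma fpt_surjective : Function.Surjective (fpt f η) := fun z => by
  obtain ⟨a, ha, rfl⟩ := IntegralSplit.exists_rational (pullback.snd f η) z
  exact ⟨⟨a ≫ pullback.fst f η, by rw [Category.assoc, pullback.condition, ← Category.assoc, ha,
    Category.id_comp]⟩, fpt_eq f η _ a rfl ha⟩

set_option backward.isDefEq.respectTransparency.types false in
/-- An etale neighbourhood of a point over `η` has a section over a clopen piece of a base changed
neighbourhood of `η`. -/
theorem exists_clopen_section {W : Y.Etale} (w : fib η W) (l : fLifts f η) {V : X.Etale}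
    (m : V ⟶ (EtCoh.bc f).obj W) (c : fib l.1 V)
    (hc : (Scheme.pointSmallEtale l.1).fiber.map m c = liftAt f η w l) :
    ∃ (U : Y.Etale) (g : U ⟶ W) (u : fib η U) (P : ((EtCoh.bc f).obj U).left.Opens)
      (σ : EtSite.sub ((EtCoh.bc f).obj U) P ⟶ V),
      (Scheme.pointSmallEtale η).fiber.map g u = w ∧
      IsClosed (P : Set ((EtCoh.bc f).obj U).left) ∧
      σ ≫ m = EtSite.subHom _ P ≫ (EtCoh.bc f).map g ∧
      ∃ b : fib l.1 (EtSite.sub ((EtCoh.bc f).obj U) P),
        (Scheme.pointSmallEtale l.1).fiber.map (EtSite.subHom _ P) b = liftAt f η u l ∧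
        (Scheme.pointSmallEtale l.1).fiber.map σ b = c := by
  let p : ((EtCoh.bc f).obj W).left ⟶ W.left := bcFst f W
  haveI : IsIntegralHom p := inferInstanceAs (IsIntegralHom (pullback.fst W.hom f))
  haveI : Etale m.left := etale_left m
  let a : Spec (CommRingCat.of Ω) ⟶ ((EtCoh.bc f).obj W).left := (liftAt f η w l).left
  have ha : a ≫ p = w.left := liftAt_left_fst f η w l
  obtain ⟨U', h, ū, P₀, σ₀, a', hh, hū, hcl, hσ, h1, h2, h3⟩ :=
    IntegralSplit.exists_section p a m.left c.left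
      (congrArg (fun t : fib l.1 ((EtCoh.bc f).obj W) => t.left) hc)
  haveI : Etale W.hom := W.prop
  let U : Y.Etale := Scheme.Etale.mk (h ≫ W.hom)
  let g : U ⟶ W := MorphismProperty.Over.homMk h rfl
  let u : fib η U := Over.homMk ū (by
    change ū ≫ h ≫ W.hom = η
    rw [← Category.assoc, hū, ha]
    exact Over.w w)
  have hgu : (Scheme.pointSmallEtale η).fiber.map g u = w := Over.OverMorphism.ext (hū.trans ha)
  let κ : ((EtCoh.bc f).obj U).left ⟶ pullback p h :=
    pullback.lift ((EtCoh.bc f).map g).left (bcFst f U) (bcFst_nat f g)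
  let P := κ ⁻¹ᵁ P₀
  let j : (P : Scheme.{u}) ⟶ (P₀ : Scheme.{u}) := κ ∣_ P₀
  have hcomm : (j ≫ σ₀) ≫ m.left = P.ι ≫ ((EtCoh.bc f).map g).left := by
    rw [Category.assoc, hσ]
    simp only [j]
    rw [morphismRestrict_ι_assoc, pullback.lift_fst]
  let σ : EtSite.sub ((EtCoh.bc f).obj U) P ⟶ V :=
    MorphismProperty.Over.homMk (j ≫ σ₀) (by
      refine (congrArg ((j ≫ σ₀) ≫ ·) (MorphismProperty.Over.w m).symm).trans ?_
      refine (Category.assoc _ _ _).symm.trans ((congrArg (· ≫ _) hcomm).trans ?_)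
      exact (Category.assoc _ _ _).trans (congrArg (P.ι ≫ ·)
        (MorphismProperty.Over.w ((EtCoh.bc f).map g))))
  let ul : Spec (CommRingCat.of Ω) ⟶ ((EtCoh.bc f).obj U).left := (liftAt f η u l).left
  have hul : ul ≫ κ = a' ≫ P₀.ι := by
    refine pullback.hom_ext ?_ ?_
    · rw [Category.assoc, pullback.lift_fst, Category.assoc, h1]
      refine Eq.trans ?_ (congrArg (fun t : fib l.1 ((EtCoh.bc f).obj W) => t.left)
        ((liftAt_map f η g u l).trans (congrArg (fun t => liftAt f η t l) hgu)))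
      rfl
    · rw [Category.assoc, pullback.lift_snd, Category.assoc, h2]
      exact liftAt_left_fst f η u l
  have hulP : pt ul ∈ P := by
    show κ (pt ul) ∈ P₀
    rw [← pt_comp, hul]
    exact (a' (IsLocalRing.closedPoint Ω)).2
  refine ⟨U, g, u, P, σ, hgu, hcl.preimage κ.continuous,
    MorphismProperty.Over.Hom.ext hcomm,
    Over.homMk (liftOpen P ul hulP) ((Category.assoc _ _ _).symm.trans
      ((congrArg (· ≫ _) (liftOpen_ι P ul hulP)).trans (Over.w (liftAt f η u l)))),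
    Over.OverMorphism.ext (liftOpen_ι P ul hulP), Over.OverMorphism.ext ?_⟩
  change liftOpen P ul hulP ≫ j ≫ σ₀ = c.left
  have hj : liftOpen P ul hulP ≫ j = a' := by
    rw [← cancel_mono P₀.ι, Category.assoc]
    simp only [j]
    rw [morphismRestrict_ι, ← Category.assoc, liftOpen_ι, hul]
  rw [reassoc_of% hj]
  exact h3

set_option backward.isDefEq.respectTransparency.types false in
/-- Two points over `η` are separated by a clopen piece of a base changed neighbourhood. -/
theorem exists_clopen_separation {W : Y.Etale} (w : fib η W) {l l' : fLifts f η} (hne : l ≠ l') :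
    ∃ (U : Y.Etale) (g : U ⟶ W) (u : fib η U) (P : ((EtCoh.bc f).obj U).left.Opens),
      (Scheme.pointSmallEtale η).fiber.map g u = w ∧
      IsClosed (P : Set ((EtCoh.bc f).obj U).left) ∧
      fibPt (liftAt f η u l) ∈ P ∧ fibPt (liftAt f η u l') ∉ P := by
  let p : ((EtCoh.bc f).obj W).left ⟶ W.left := bcFst f W
  haveI : IsIntegralHom p := inferInstanceAs (IsIntegralHom (pullback.fst W.hom f))
  let a : Spec (CommRingCat.of Ω) ⟶ ((EtCoh.bc f).obj W).left := (liftAt f η w l).left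
  let a₂ : Spec (CommRingCat.of Ω) ⟶ ((EtCoh.bc f).obj W).left := (liftAt f η w l').left
  have ha : a ≫ p = w.left := liftAt_left_fst f η w l
  have ha₂ : a₂ ≫ p = w.left := liftAt_left_fst f η w l'
  have hne' : a ≠ a₂ := fun h => hne (Subtype.ext (((pullback.lift_snd _ _ _).symm.trans
    (congrArg (· ≫ pullback.snd W.hom f) h)).trans (pullback.lift_snd _ _ _)))
  obtain ⟨U', h, ū, P₀, a', b', hh, hū, hcl, h1, h2, h1', h2', hmem, hnot⟩ :=
    IntegralSplit.exists_separation p a a₂ (ha.trans ha₂.symm) hne'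
  haveI : Etale W.hom := W.prop
  let U : Y.Etale := Scheme.Etale.mk (h ≫ W.hom)
  let g : U ⟶ W := MorphismProperty.Over.homMk h rfl
  let u : fib η U := Over.homMk ū (by
    change ū ≫ h ≫ W.hom = η
    rw [← Category.assoc, hū, ha]
    exact Over.w w)
  have hgu : (Scheme.pointSmallEtale η).fiber.map g u = w := Over.OverMorphism.ext (hū.trans ha)
  let κ : ((EtCoh.bc f).obj U).left ⟶ pullback p h :=
    pullback.lift ((EtCoh.bc f).map g).left (bcFst f U) (bcFst_nat f g)
  have hul : ∀ (k : fLifts f η) (q : Spec (CommRingCat.of Ω) ⟶ pullback p h),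
      q ≫ pullback.fst p h = (liftAt f η w k).left → q ≫ pullback.snd p h = ū →
      κ (fibPt (liftAt f η u k)) = pt q := by
    intro k q e1 e2
    have hk : (liftAt f η u k).left ≫ κ = q := by
      refine pullback.hom_ext ?_ ?_
      · refine (Category.assoc _ _ _).trans ((congrArg (_ ≫ ·) (pullback.lift_fst _ _ _)).trans ?_)
        refine Eq.trans ?_ e1.symm
        refine Eq.trans ?_ (congrArg (fun t : fib k.1 ((EtCoh.bc f).obj W) => t.left)
          ((liftAt_map f η g u k).trans (congrArg (fun t => liftAt f η t k) hgu)))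
        rfl
      · refine (Category.assoc _ _ _).trans ((congrArg (_ ≫ ·) (pullback.lift_snd _ _ _)).trans ?_)
        exact (liftAt_left_fst f η u k).trans e2.symm
    rw [← hk, pt_comp]
    exact congrArg κ (congrArg (fun t => (liftAt f η u k).left t)
      (Subsingleton.elim (α := PrimeSpectrum Ω) _ _))
  refine ⟨U, g, u, κ ⁻¹ᵁ P₀, hgu, hcl.preimage κ.continuous, ?_, ?_⟩
  · show κ _ ∈ P₀
    rw [hul l a' h1 h2]
    exact hmem
  · show ¬ κ _ ∈ P₀
    rw [hul l' b' h1' h2']
    exact hnot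

lemma fpt_injective : Function.Injective (fpt f η) := fun l l' h => by
  by_contra hne
  obtain ⟨U, g, u, P, -, -, h1, h2⟩ :=
    exists_clopen_separation f η (W := EtCoh.top Y) (Over.homMk η (Category.comp_id _)) hne
  rw [← fibHom_fpt, h] at h1
  rw [← fibHom_fpt] at h2
  exact h2 h1

/-- The clopen pieces of base changed neighbourhoods form a basis at each point of the fibre. -/
theorem exists_clopen_nhd {W : Y.Etale} (w : fib η W) (l : fLifts f η)
    (O : (pullback f η : Scheme.{u}).Opens) (hO : fpt f η l ∈ O) :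
    ∃ (U : Y.Etale) (g : U ⟶ W) (u : fib η U) (P : ((EtCoh.bc f).obj U).left.Opens),
      (Scheme.pointSmallEtale η).fiber.map g u = w ∧
      IsClosed (P : Set ((EtCoh.bc f).obj U).left) ∧
      fibPt (liftAt f η u l) ∈ P ∧
      ∀ z, fibHom f η u z ∈ P → z ∈ O := by
  classical
  have hex : ∀ z : ↥((O : Set (pullback f η : Scheme.{u}))ᶜ), ∃ (U : Y.Etale) (g : U ⟶ W) (u : fib η U)
      (P : ((EtCoh.bc f).obj U).left.Opens), (Scheme.pointSmallEtale η).fiber.map g u = w ∧
      IsClosed (P : Set ((EtCoh.bc f).obj U).left) ∧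
      fibPt (liftAt f η u l) ∈ P ∧ fibHom f η u z.1 ∉ P := by
    rintro ⟨z, hz⟩
    obtain ⟨l', rfl⟩ := fpt_surjective f η z
    obtain ⟨U, g, u, P, h1, h2, h3, h4⟩ :=
      exists_clopen_separation f η w (l := l) (l' := l') (fun e => hz (e ▸ hO))
    exact ⟨U, g, u, P, h1, h2, h3, by rwa [fibHom_fpt]⟩
  choose Uz gz uz Pz hgz hclz hlz hzz using hex
  haveI : IsAffine (pullback f η) := isAffine_of_isAffineHom (pullback.snd f η)
  obtain ⟨t, ht⟩ := O.2.isClosed_compl.isCompact.elim_finite_subcover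
    (fun z => (fibHom f η (uz z)) ⁻¹' (Pz z : Set ((EtCoh.bc f).obj (Uz z)).left)ᶜ)
    (fun z => (hclz z).isOpen_compl.preimage (fibHom f η (uz z)).continuous)
    (fun z hz => Set.mem_iUnion.2 ⟨⟨z, hz⟩, hzz ⟨z, hz⟩⟩)
  have hfam : ∀ s : Finset _, ∃ (U : Y.Etale) (g : U ⟶ W) (u : fib η U)
      (P : ((EtCoh.bc f).obj U).left.Opens), (Scheme.pointSmallEtale η).fiber.map g u = w ∧
      IsClosed (P : Set ((EtCoh.bc f).obj U).left) ∧
      fibPt (liftAt f η u l) ∈ P ∧
      ∀ z ∈ s, ∀ x, fibHom f η u x ∈ P → fibHom f η (uz z) x ∈ Pz z := by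
    intro s
    induction s using Finset.induction with
    | empty => exact ⟨W, 𝟙 W, w, ⊤, by simp, isClosed_univ, trivial, fun z hz => absurd hz (Finset.notMem_empty z)⟩
    | insert z₀ s _ ih =>
      obtain ⟨U, g, u, P, hg, hcl, hl, hs⟩ := ih
      obtain ⟨U', q₁, q₂, u', hq, hu₁, hu₂⟩ := exists_common η g (gz z₀) u (uz z₀) hg (hgz z₀)
      have e₁ : ∀ x, ((EtCoh.bc f).map q₁).left (fibHom f η u' x) = fibHom f η u x := fun x => by
        rw [← Scheme.Hom.comp_apply, fibHom_map, hu₁]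
      have e₂ : ∀ x, ((EtCoh.bc f).map q₂).left (fibHom f η u' x) = fibHom f η (uz z₀) x := fun x => by
        rw [← Scheme.Hom.comp_apply, fibHom_map, hu₂]
      refine ⟨U', q₁ ≫ g, u', ((EtCoh.bc f).map q₁).left ⁻¹ᵁ P ⊓ ((EtCoh.bc f).map q₂).left ⁻¹ᵁ Pz z₀,
        ?_, (hcl.preimage ((EtCoh.bc f).map q₁).left.continuous).inter
          ((hclz z₀).preimage ((EtCoh.bc f).map q₂).left.continuous), ?_, ?_⟩
      · simp [hu₁, hg]
      · rw [← fibHom_fpt]
        refine ⟨?_, ?_⟩
        · show ((EtCoh.bc f).map q₁).left _ ∈ P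
          rwa [e₁, fibHom_fpt]
        · show ((EtCoh.bc f).map q₂).left _ ∈ Pz z₀
          rw [e₂, fibHom_fpt]
          exact hlz z₀
      · intro z hz x hx
        rcases Finset.mem_insert.1 hz with rfl | hz
        · rw [← e₂]
          exact hx.2
        · refine hs z hz x ?_
          rw [← e₁]
          exact hx.1
  obtain ⟨U, g, u, P, hg, hcl, hl, hs⟩ := hfam t
  refine ⟨U, g, u, P, hg, hcl, hl, fun x hx => ?_⟩
  by_contra hxO
  obtain ⟨z, hzt, hz⟩ : ∃ z ∈ t, fibHom f η (uz z) x ∉ Pz z := by simpa using ht hxO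
  exact hz (hs z hzt x hx)

set_option backward.isDefEq.respectTransparency.types false in
/-- Clopen pieces around all points over `η` are refined by a finite partition of one base changed
neighbourhood. -/
theorem exists_partition {W : Y.Etale} (w : fib η W) {Ul : fLifts f η → Y.Etale} (gl : ∀ l, Ul l ⟶ W)
    (ul : ∀ l, fib η (Ul l)) (Pl : ∀ l, ((EtCoh.bc f).obj (Ul l)).left.Opens)
    (hgl : ∀ l, (Scheme.pointSmallEtale η).fiber.map (gl l) (ul l) = w)
    (hclosed : ∀ l, IsClosed (Pl l : Set ((EtCoh.bc f).obj (Ul l)).left))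
    (hmem : ∀ l, fibPt (liftAt f η (ul l) l) ∈ Pl l) :
    ∃ (U : Y.Etale) (g : U ⟶ W) (u : fib η U) (ι : Type u) (k : ι → fLifts f η)
      (q : ∀ i, U ⟶ Ul (k i)) (P : ι → ((EtCoh.bc f).obj U).left.Opens),
      (Scheme.pointSmallEtale η).fiber.map g u = w ∧ (∀ i, q i ≫ gl (k i) = g) ∧
      (∀ i, (Scheme.pointSmallEtale η).fiber.map (q i) u = ul (k i)) ∧
      (∀ z, ∃! i, z ∈ P i) ∧ ∀ i, P i ≤ ((EtCoh.bc f).map (q i)).left ⁻¹ᵁ Pl (k i) := by
  classical
  haveI : IsAffine (pullback f η) := isAffine_of_isAffineHom (pullback.snd f η)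
  obtain ⟨t, ht⟩ := isCompact_univ.elim_finite_subcover
    (fun l => (fibHom f η (ul l)) ⁻¹' (Pl l : Set _))
    (fun l => (Pl l).2.preimage (fibHom f η (ul l)).continuous)
    (fun z _ => by
      obtain ⟨l, rfl⟩ := fpt_surjective f η z
      refine Set.mem_iUnion.2 ⟨l, ?_⟩
      show fibHom f η (ul l) _ ∈ Pl l
      rw [fibHom_fpt]
      exact hmem l)
  have hfam : ∀ s : Finset (fLifts f η), ∃ (U : Y.Etale) (g : U ⟶ W) (u : fib η U),
      (Scheme.pointSmallEtale η).fiber.map g u = w ∧ ∀ l ∈ s, ∃ q : U ⟶ Ul l, q ≫ gl l = g ∧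
        (Scheme.pointSmallEtale η).fiber.map q u = ul l := by
    intro s
    induction s using Finset.induction with
    | empty => exact ⟨W, 𝟙 W, w, by simp, fun l hl => absurd hl (Finset.notMem_empty l)⟩
    | insert l₀ s _ ih =>
      obtain ⟨U, g, u, hg, hs⟩ := ih
      obtain ⟨U', q₁, q₂, u', hq, hu₁, hu₂⟩ := exists_common η g (gl l₀) u (ul l₀) hg (hgl l₀)
      refine ⟨U', q₁ ≫ g, u', by simp [hu₁, hg], fun l hl => ?_⟩
      rcases Finset.mem_insert.1 hl with rfl | hl
      · exact ⟨q₂, hq.symm, hu₂⟩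
      · obtain ⟨q, hq', hu'⟩ := hs l hl
        exact ⟨q₁ ≫ q, by rw [Category.assoc, hq'], by simp [hu₁, hu']⟩
  obtain ⟨U₀, g₀, u₀, hg₀, hs⟩ := hfam t
  choose q₀ hq₀ hqu₀ using hs
  let k : Fin t.card → fLifts f η := fun i => (t.equivFin.symm i).1
  let Q : Fin t.card → ((EtCoh.bc f).obj U₀).left.Opens := fun i =>
    ((EtCoh.bc f).map (q₀ (k i) (t.equivFin.symm i).2)).left ⁻¹ᵁ Pl (k i)
  have hQcl : ∀ i, IsClosed (Q i : Set ((EtCoh.bc f).obj U₀).left) := fun i =>
    (hclosed _).preimage ((EtCoh.bc f).map (q₀ (k i) (t.equivFin.symm i).2)).left.continuous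
  have hfibre : ∀ x, ∃ i, fibHom f η u₀ x ∈ Q i := fun x => by
    obtain ⟨l, hlt, hl⟩ : ∃ l ∈ t, fibHom f η (ul l) x ∈ Pl l := by simpa using ht (Set.mem_univ x)
    obtain ⟨i, hi⟩ := t.equivFin.symm.surjective ⟨l, hlt⟩
    refine ⟨i, ?_⟩
    have hk : k i = l := congrArg Subtype.val hi
    subst hk
    show ((EtCoh.bc f).map (q₀ (k i) (t.equivFin.symm i).2)).left _ ∈ Pl (k i)
    rw [← Scheme.Hom.comp_apply, fibHom_map, hqu₀]
    exact hl
  let p₀ : ((EtCoh.bc f).obj U₀).left ⟶ U₀.left := bcFst f U₀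
  haveI : IsIntegralHom p₀ := inferInstanceAs (IsIntegralHom (pullback.fst U₀.hom f))
  have hbad : IsClosed (p₀ '' (⋂ i, (Q i : Set ((EtCoh.bc f).obj U₀).left)ᶜ)) :=
    p₀.isClosedMap _ (isClosed_iInter fun i => (Q i).2.isClosed_compl)
  let N : U₀.left.Opens := ⟨_, hbad.isOpen_compl⟩
  have hN : fibPt u₀ ∈ N := by
    rintro ⟨z, hz, hzu⟩
    let u₀l : Spec (CommRingCat.of Ω) ⟶ U₀.left := u₀.left
    obtain ⟨y, hy₁, hy₂⟩ := Scheme.Pullback.exists_preimage_pullback (f := p₀) (g := u₀l) z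
      (default : Spec (CommRingCat.of Ω)) hzu
    let r : pullback p₀ u₀l ⟶ pullback f η :=
      pullback.lift (pullback.fst p₀ u₀l ≫ pullback.snd U₀.hom f) (pullback.snd p₀ u₀l) (by
        refine (Category.assoc _ _ _).trans ((congrArg (_ ≫ ·) pullback.condition.symm).trans ?_)
        refine (Category.assoc _ _ _).symm.trans ((congrArg (· ≫ U₀.hom) pullback.condition).trans ?_)
        exact (Category.assoc _ _ _).trans (congrArg (_ ≫ ·) (Over.w u₀)))
    have hr : r ≫ fibHom f η u₀ = pullback.fst p₀ u₀l := by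
      refine pullback.hom_ext ?_ ?_
      · refine (Category.assoc _ _ _).trans ((congrArg (r ≫ ·) (pullback.lift_fst _ _ _)).trans ?_)
        refine (Category.assoc _ _ _).symm.trans ((congrArg (· ≫ u₀l) (pullback.lift_snd _ _ _)).trans ?_)
        exact pullback.condition.symm
      · refine (Category.assoc _ _ _).trans ((congrArg (r ≫ ·) (pullback.lift_snd _ _ _)).trans ?_)
        exact pullback.lift_fst _ _ _
    obtain ⟨i, hi⟩ := hfibre (r y)
    refine Set.mem_iInter.1 hz i ?_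
    rw [← hy₁, ← hr]
    exact hi
  let U := EtSite.sub U₀ N
  let n : U ⟶ U₀ := EtSite.subHom U₀ N
  let u : fib η U := subFib u₀ N hN
  have hnu : (Scheme.pointSmallEtale η).fiber.map n u = u₀ := subFib_map u₀ N hN
  let R : Fin t.card → ((EtCoh.bc f).obj U).left.Opens := fun i => ((EtCoh.bc f).map n).left ⁻¹ᵁ Q i
  have hRcl : ∀ i, IsClosed (R i : Set ((EtCoh.bc f).obj U).left) := fun i =>
    (hQcl i).preimage ((EtCoh.bc f).map n).left.continuous
  have hcov : ∀ z, ∃ i, z ∈ R i := fun z => by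
    by_contra h
    push Not at h
    have hN' : n.left (bcFst f U z) ∈ N := (bcFst f U z).2
    refine hN' ⟨((EtCoh.bc f).map n).left z, Set.mem_iInter.2 fun i => h i, ?_⟩
    rw [← Scheme.Hom.comp_apply, ← Scheme.Hom.comp_apply]
    exact congrArg (fun a => a z) (bcFst_nat f n)
  let P : Fin t.card → ((EtCoh.bc f).obj U).left.Opens := fun i =>
    ⟨(R i : Set ((EtCoh.bc f).obj U).left) ∩ ⋂ j : {j // j < i},
        (R j.1 : Set ((EtCoh.bc f).obj U).left)ᶜ,
      (R i).2.inter (isOpen_iInter_of_finite fun j => (hRcl j.1).isOpen_compl)⟩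
  have hPR : ∀ i z, z ∈ P i ↔ z ∈ R i ∧ ∀ j, j < i → z ∉ R j := fun i z => by
    refine ⟨fun h => ⟨h.1, fun j hj => Set.mem_iInter.1 h.2 ⟨j, hj⟩⟩,
      fun h => ⟨h.1, Set.mem_iInter.2 fun j => h.2 j.1 j.2⟩⟩
  refine ⟨U, n ≫ g₀, u, ULift.{u} (Fin t.card), fun i => k i.down,
    fun i => n ≫ q₀ (k i.down) (t.equivFin.symm i.down).2, fun i => P i.down, by simp [hnu, hg₀],
    fun i => by rw [Category.assoc, hq₀], fun i => by simp [hnu, hqu₀], fun z => ?_, fun i z hz => ?_⟩
  · have hne : (Finset.univ.filter fun i => z ∈ R i).Nonempty := by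
      obtain ⟨i, hi⟩ := hcov z
      exact ⟨i, by simpa using hi⟩
    refine ⟨⟨_⟩, (hPR _ z).2 ⟨(Finset.mem_filter.1 (Finset.min'_mem _ hne)).2, fun j hj hjR => ?_⟩, ?_⟩
    · exact (Finset.min'_le _ j (by simpa using hjR)).not_gt hj
    · rintro ⟨i⟩ hi
      obtain ⟨hi₁, hi₂⟩ := (hPR i z).1 hi
      congr 1
      refine le_antisymm (le_of_not_gt fun hlt => hi₂ _ hlt
        (Finset.mem_filter.1 (Finset.min'_mem _ hne)).2) (Finset.min'_le _ i (by simpa using hi₁))
  · have h := ((hPR i.down z).1 hz).1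
    have e : ((EtCoh.bc f).map (n ≫ q₀ (k i.down) (t.equivFin.symm i.down).2)).left =
        ((EtCoh.bc f).map n).left ≫ ((EtCoh.bc f).map (q₀ (k i.down) (t.equivFin.symm i.down).2)).left :=
      congrArg (fun a : (EtCoh.bc f).obj U ⟶ (EtCoh.bc f).obj (Ul (k i.down)) => a.left) ((EtCoh.bc f).map_comp _ _)
    simp only [R, Q, Scheme.Hom.mem_preimage] at h
    rw [Scheme.Hom.mem_preimage, e, Scheme.Hom.comp_apply]
    exact h

/-- Germs at the points above determine an element of the stalk of a direct image. -/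
theorem injective_liftStalk (F : EtCoh.Ab X) :
    Function.Injective (fun p (l : fLifts f η) => liftStalk f η l F p) := by
  suffices h0 : ∀ p, (∀ l, liftStalk f η l F p = 0) → p = 0 by
    intro p q hpq
    refine sub_eq_zero.1 (h0 _ fun l => ?_)
    rw [map_sub]
    exact sub_eq_zero.2 (congrFun hpq l)
  intro p hp
  obtain ⟨W, w, s, rfl⟩ := germ_surjective _ _ p
  have hz : ∀ l, ∃ (U : Y.Etale) (g : U ⟶ W) (u : fib η U) (P : ((EtCoh.bc f).obj U).left.Opens),
      (Scheme.pointSmallEtale η).fiber.map g u = w ∧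
      IsClosed (P : Set ((EtCoh.bc f).obj U).left) ∧ fibPt (liftAt f η u l) ∈ P ∧
      F.obj.map (EtSite.subHom _ P ≫ (EtCoh.bc f).map g).op s = 0 := fun l => by
    have h := hp l
    rw [liftStalk_germ] at h
    obtain ⟨V, m, y, hy, he⟩ :=
      (germ_eq_iff l.1 F (liftAt f η w l) s 0).1 (h.trans (map_zero _).symm)
    obtain ⟨U, g, u, P, σ, hgu, hcl, hσ, b, hb, -⟩ := exists_clopen_section f η w l m y hy
    refine ⟨U, g, u, P, hgu, hcl, hb ▸ fibPt_mem_of_sub b, ?_⟩
    rw [← hσ, op_comp, Functor.map_comp_apply, he, map_zero, map_zero]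
  choose Ul gl ul Pl hgl hcl hmem hzero using hz
  obtain ⟨U, g, u, ι, k, q, P, hgu, hq, -, hP, hle⟩ :=
    exists_partition f η w gl ul Pl hgl hcl hmem
  have h0 : F.obj.map ((EtCoh.bc f).map g).op s = 0 :=
    (existsUnique_glue_parts F _ P hP fun _ => 0).unique (fun i => by
      rw [← Functor.map_comp_apply, ← op_comp, ← hq i, Functor.map_comp, ← Category.assoc,
        ← subMap_subHom _ (P i) (Pl (k i)) (hle i), Category.assoc, op_comp, Functor.map_comp_apply,
        hzero, map_zero]) (fun i => map_zero _)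
  rw [← hgu, ← germ_map]
  refine (congrArg (germ η ((EtCoh.push f).obj F) u) ?_).trans (map_zero _)
  exact h0

/-- Gluing criterion: a locally constant family of germs at the points above comes from the stalk
of the direct image. -/
theorem mem_range_liftStalk (F : EtCoh.Ab X) (t : ∀ l : fLifts f η, ((EtCoh.stalk l.1).obj F : Type _))
    (ht : ∀ l, ∃ (U : Y.Etale) (u : fib η U) (P : ((EtCoh.bc f).obj U).left.Opens)
      (r : F.obj.obj (op (EtSite.sub ((EtCoh.bc f).obj U) P)))
      (O : (pullback f η : Scheme.{u}).Opens),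
      IsClosed (P : Set ((EtCoh.bc f).obj U).left) ∧ fibPt (liftAt f η u l) ∈ P ∧ fpt f η l ∈ O ∧
      ∀ l', fpt f η l' ∈ O → ∀ h : fibPt (liftAt f η u l') ∈ P,
        germ l'.1 F (subFib (liftAt f η u l') P h) r = t l') :
    ∃ p, ∀ l, liftStalk f η l F p = t l := by
  choose U₁ u₁ P₁ r O hcl₁ hmem₁ hO hgerm using ht
  let w : fib η (EtCoh.top Y) := Over.homMk η (Category.comp_id _)
  have hz : ∀ l, ∃ (U : Y.Etale) (q : U ⟶ U₁ l) (u : fib η U) (P : ((EtCoh.bc f).obj U).left.Opens),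
      (Scheme.pointSmallEtale η).fiber.map q u = u₁ l ∧
      IsClosed (P : Set ((EtCoh.bc f).obj U).left) ∧ fibPt (liftAt f η u l) ∈ P ∧
      P ≤ ((EtCoh.bc f).map q).left ⁻¹ᵁ P₁ l ∧ ∀ z, fibHom f η u z ∈ P → z ∈ O l := fun l => by
    obtain ⟨U, q, u, P, hqu, hcl, hmem, hsub⟩ := exists_clopen_nhd f η (u₁ l) l (O l) (hO l)
    refine ⟨U, q, u, P ⊓ ((EtCoh.bc f).map q).left ⁻¹ᵁ P₁ l, hqu,
      hcl.inter ((hcl₁ l).preimage ((EtCoh.bc f).map q).left.continuous), ⟨hmem, ?_⟩,
      inf_le_right, fun z hz => hsub z hz.1⟩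
    show ((EtCoh.bc f).map q).left _ ∈ P₁ l
    rw [← fibHom_fpt, ← Scheme.Hom.comp_apply, fibHom_map, hqu, fibHom_fpt]
    exact hmem₁ l
  choose U₂ q₂ u₂ P₂ hqu₂ hcl₂ hmem₂ hle₂ hsub₂ using hz
  let top₂ : ∀ l, U₂ l ⟶ EtCoh.top Y := fun l => MorphismProperty.Over.homMk (U₂ l).hom
  obtain ⟨U, g, u, ι, k, q, P, -, -, hqu, hP, hle⟩ :=
    exists_partition f η w top₂ u₂ P₂ (fun l => Over.OverMorphism.ext (Over.w (u₂ l))) hcl₂ hmem₂
  let τ : ∀ i, EtSite.sub ((EtCoh.bc f).obj U) (P i) ⟶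
      EtSite.sub ((EtCoh.bc f).obj (U₁ (k i))) (P₁ (k i)) := fun i =>
    subMap ((EtCoh.bc f).map (q i)) (P i) (P₂ (k i)) (hle i) ≫
      subMap ((EtCoh.bc f).map (q₂ (k i))) (P₂ (k i)) (P₁ (k i)) (hle₂ (k i))
  obtain ⟨S, hS, -⟩ := existsUnique_glue_parts F _ P hP fun i => F.obj.map (τ i).op (r (k i))
  refine ⟨germ η ((EtCoh.push f).obj F) u S, fun l => ?_⟩
  rw [liftStalk_germ]
  obtain ⟨i, hi, -⟩ := hP (fibPt (liftAt f η u l))
  have h₂ : fibHom f η (u₂ (k i)) (fpt f η l) ∈ P₂ (k i) := by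
    rw [← hqu i, ← fibHom_map, Scheme.Hom.comp_apply, fibHom_fpt]
    exact hle i hi
  have h₁ : fibPt (liftAt f η (u₁ (k i)) l) ∈ P₁ (k i) := by
    rw [← fibHom_fpt, ← hqu₂ (k i), ← fibHom_map, Scheme.Hom.comp_apply]
    exact hle₂ (k i) h₂
  rw [← subFib_map (liftAt f η u l) (P i) hi, ← germ_map, hS, germ_map,
    ← hgerm (k i) l (hsub₂ (k i) _ h₂) h₁]
  refine congrArg (fun z => germ l.1 F z (r (k i))) (fib_sub_ext _ _ ?_)
  rw [subFib_map, ← ConcreteCategory.comp_apply, ← Functor.map_comp]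
  simp only [τ, Category.assoc, subMap_subHom]
  rw [← Category.assoc, subMap_subHom, Category.assoc, ← Functor.map_comp, Functor.map_comp_apply,
    subFib_map, liftAt_map, Functor.map_comp_apply, hqu, hqu₂]

set_option backward.isDefEq.respectTransparency.types false in
lemma exists_clopen_rep (F : EtCoh.Ab X) (l : fLifts f η) (t : (EtCoh.stalk l.1).obj F) :
    ∃ (U : Y.Etale) (u : fib η U) (P : ((EtCoh.bc f).obj U).left.Opens)
      (r : F.obj.obj (op (EtSite.sub ((EtCoh.bc f).obj U) P))),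
      IsClosed (P : Set ((EtCoh.bc f).obj U).left) ∧
      ∃ h : fibPt (liftAt f η u l) ∈ P, germ l.1 F (subFib (liftAt f η u l) P h) r = t := by
  obtain ⟨V, c, s, rfl⟩ := germ_surjective l.1 F t
  let w : fib η (EtCoh.top Y) := Over.homMk η (Category.comp_id _)
  have hc : (Scheme.pointSmallEtale l.1).fiber.map (toBcTop f V) c = liftAt f η w l := by
    refine Over.OverMorphism.ext (pullback.hom_ext ?_ ((Over.w _).trans (Over.w (liftAt f η w l)).symm))
    have hid : pullback.fst (EtCoh.top Y).hom f = pullback.snd (EtCoh.top Y).hom f ≫ f :=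
      (Category.comp_id _).symm.trans pullback.condition
    refine (congrArg (_ ≫ ·) hid).trans (Eq.trans ?_ (congrArg (_ ≫ ·) hid.symm))
    exact (Category.assoc _ _ _).symm.trans ((congrArg (· ≫ f)
      ((Over.w _).trans (Over.w (liftAt f η w l)).symm)).trans (Category.assoc _ _ _))
  obtain ⟨U, g, u, P, σ, -, hcl, -, b, hb, hσb⟩ := exists_clopen_section f η w l (toBcTop f V) c hc
  have hm : fibPt (liftAt f η u l) ∈ P := hb ▸ fibPt_mem_of_sub b
  refine ⟨U, u, P, F.obj.map σ.op s, hcl, hm, ?_⟩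
  rw [fib_sub_ext (subFib (liftAt f η u l) P hm) b ((subFib_map _ _ _).trans hb.symm), germ_map, hσb]

/-- If there is at most one point above, the stalk of the direct image is the stalk above. -/
theorem bijective_liftStalk_of_subsingleton [Subsingleton (fLifts f η)] (F : EtCoh.Ab X) :
    Function.Bijective (fun p (l : fLifts f η) => liftStalk f η l F p) := by
  refine ⟨injective_liftStalk f η F, fun t => ?_⟩
  obtain ⟨p, hp⟩ := mem_range_liftStalk f η F t fun l => by
    obtain ⟨U, u, P, r, hcl, h, he⟩ := exists_clopen_rep f η F l (t l)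
    refine ⟨U, u, P, r, ⊤, hcl, h, trivial, fun l' _ h' => ?_⟩
    obtain rfl := Subsingleton.elim l l'
    exact he
  exact ⟨p, funext hp⟩

/-- Direct image along an integral morphism preserves epimorphisms. -/
instance preservesEpimorphisms_push_integral : (EtCoh.push f).PreservesEpimorphisms where
  preserves {F G} a _ := by
    rw [← Sheaf.isLocallySurjective_iff_epi']
    refine ⟨fun {W} s => ?_⟩
    rw [EtSite.mem_et_iff]
    intro x
    obtain ⟨Ω', _, _, η', w, hw⟩ := exists_algFib W x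
    have hz : ∀ l : fLifts f η', ∃ (U : Y.Etale) (g : U ⟶ W) (u : fib η' U)
        (P : ((EtCoh.bc f).obj U).left.Opens) (r : F.obj.obj (op (EtSite.sub ((EtCoh.bc f).obj U) P))),
        (Scheme.pointSmallEtale η').fiber.map g u = w ∧
        IsClosed (P : Set ((EtCoh.bc f).obj U).left) ∧ fibPt (liftAt f η' u l) ∈ P ∧
        a.hom.app (op _) r = G.obj.map (EtSite.subHom _ P ≫ (EtCoh.bc f).map g).op s := fun l => by
      haveI : Sheaf.IsLocallySurjective a := by
        rw [Sheaf.isLocallySurjective_iff_epi']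
        assumption
      have hcov := Presheaf.imageSieve_mem X.smallEtaleTopology a.hom (U := op ((EtCoh.bc f).obj W)) s
      obtain ⟨V, m, hm, c, hc⟩ := GrothendieckTopology.Point.jointly_surjective
        (Scheme.pointSmallEtale l.1) _ hcov (liftAt f η' w l)
      obtain ⟨t, ht⟩ := hm
      obtain ⟨U, g, u, P, σ, hgu, hcl, hσ, b, hb, -⟩ := exists_clopen_section f η' w l m c hc
      refine ⟨U, g, u, P, F.obj.map σ.op t, hgu, hcl, hb ▸ fibPt_mem_of_sub b, ?_⟩
      rw [← hσ, op_comp, Functor.map_comp_apply, ← ht]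
      exact ConcreteCategory.congr_hom (a.hom.naturality σ.op) t
    choose Ul gl ul Pl r hgl hcl hmem hr using hz
    obtain ⟨U, g, u, ι, k, q, P, hgu, hq, -, hP, hle⟩ :=
      exists_partition f η' w gl ul Pl hgl hcl hmem
    obtain ⟨S, hS, -⟩ := existsUnique_glue_parts F _ P hP fun i =>
      F.obj.map (subMap _ (P i) (Pl (k i)) (hle i)).op (r (k i))
    have hval : a.hom.app (op ((EtCoh.bc f).obj U)) S = G.obj.map ((EtCoh.bc f).map g).op s :=
      (existsUnique_glue_parts G _ P hP fun i => G.obj.map (subMap _ (P i) (Pl (k i)) (hle i)).op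
        (a.hom.app (op _) (r (k i)))).unique
        (fun i => by
          refine (ConcreteCategory.congr_hom (a.hom.naturality (EtSite.subHom _ (P i)).op) S).symm.trans ?_
          refine (congrArg (a.hom.app _) (hS i)).trans ?_
          exact ConcreteCategory.congr_hom (a.hom.naturality (subMap _ (P i) (Pl (k i)) (hle i)).op) (r (k i)))
        (fun i => by
          rw [hr, ← Functor.map_comp_apply, ← Functor.map_comp_apply, ← op_comp, ← op_comp,
            ← hq i, Functor.map_comp, ← Category.assoc (subMap _ _ _ _), subMap_subHom, Category.assoc])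
    refine ⟨U, g, fibPt u, ⟨S, hval⟩, ?_⟩
    exact (congrArg fibPt hgu).trans hw

/-- Direct image along an integral morphism is exact. -/
theorem preservesFiniteColimits_push_integral : PreservesFiniteColimits (EtCoh.push f) := by
  have : (EtCoh.push f).IsRightAdjoint := ⟨_, ⟨EtCoh.pullPushAdj f⟩⟩
  have : PreservesBinaryBiproducts (EtCoh.push f) :=
    preservesBinaryBiproducts_of_preservesBinaryProducts _
  have : (EtCoh.push f).Additive := Functor.additive_of_preservesBinaryBiproducts _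
  have := (EtCoh.push f).preservesHomology_of_preservesEpis_and_kernels
  have he := (Functor.exact_tfae (EtCoh.push f)).out 2 3 rfl rfl
  exact (he.1 ‹(EtCoh.push f).PreservesHomology›).2

end Groth.Agent.EtStalk
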