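import Groth.Agent.Lib.EtStalk.Integral
import Groth.Agent.Lib.EtStalk.FiniteBC

/-!
# Base change for direct images along integral morphisms
-/

universe u

open CategoryTheory CategoryTheory.Limits AlgebraicGeometry Opposite
open Groth.Agent.Weight

namespace Groth.Agent.EtStalk

variable {X Y X' Y' : Scheme.{u}} (f : X ⟶ Y) (g : Y' ⟶ Y) (f' : X' ⟶ Y') (g' : X' ⟶ X)
  (w : g' ≫ f = f' ≫ g) {Ω : Type u} [Field Ω] [IsAlgClosed Ω]
  (η' : Spec (CommRingCat.of Ω) ⟶ Y')

/-- The map of geometric fibres. -/
noncomputable def fibreDown : pullback f' η' ⟶ pullback f (η' ≫ g) :=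
  pullback.lift (pullback.fst f' η' ≫ g') (pullback.snd f' η') (by
    rw [Category.assoc, w, pullback.condition_assoc])

set_option backward.isDefEq.respectTransparency.types false in
lemma fibreDown_fpt (l' : fLifts f' η') :
    fibreDown f g f' g' w η' (fpt f' η' l') = fpt f (η' ≫ g) (downLift f g f' g' w η' l') := by
  rw [fpt, ← pt_comp]
  refine (fpt_eq f (η' ≫ g) _ _ ?_ ?_).symm
  · rw [Category.assoc, fibreDown, pullback.lift_fst, pullback.lift_fst_assoc]
    rfl
  · rw [Category.assoc, fibreDown, pullback.lift_snd, pullback.lift_snd]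

lemma isClosedMap_fibreDown [IsIntegralHom f] [IsIntegralHom f'] :
    IsClosedMap (fibreDown f g f' g' w η') := by
  haveI : IsIntegralHom (fibreDown f g f' g' w η' ≫ pullback.snd f (η' ≫ g)) := by
    rw [fibreDown, pullback.lift_snd]
    infer_instance
  haveI : IsIntegralHom (fibreDown f g f' g' w η') :=
    MorphismProperty.of_postcomp (W := @IsIntegralHom) (W' := @IsSeparated) _
      (pullback.snd f (η' ≫ g)) inferInstance ‹_›
  exact (fibreDown f g f' g' w η').isClosedMap

set_option backward.isDefEq.respectTransparency.types false in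
/-- Pullback of germs from the point below to a point above. -/
noncomputable def downStalk (F : EtCoh.Ab X) (l' : fLifts f' η') :
    (EtCoh.stalk (downLift f g f' g' w η' l').1).obj F ⟶ (EtCoh.stalk l'.1).obj ((EtCoh.pull g').obj F) :=
  stalkPull g' l'.1 F

set_option backward.isDefEq.respectTransparency.types false in
lemma bijective_downStalk (F : EtCoh.Ab X) (l' : fLifts f' η') :
    Function.Bijective (downStalk f g f' g' w η' F l') :=
  ConcreteCategory.bijective_of_isIso (stalkPull g' l'.1 F)

set_option backward.isDefEq.respectTransparency.types false in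
lemma exists_downFamily [IsIntegralHom f] (h : IsPullback g' f' f g) (F : EtCoh.Ab X)
    (s : ∀ l' : fLifts f' η', ((EtCoh.stalk l'.1).obj ((EtCoh.pull g').obj F) : Type _)) :
    ∃ t : ∀ l : fLifts f (η' ≫ g), ((EtCoh.stalk l.1).obj F : Type _),
      ∀ l', downStalk f g f' g' h.w η' F l' (t (downLift f g f' g' h.w η' l')) = s l' := by
  choose r hr using fun l' => (bijective_downStalk f g f' g' h.w η' F l').2 (s l')
  let E := Equiv.ofBijective _ (bijective_downLift f g f' g' η' h)
  refine ⟨(Equiv.piCongrLeft (fun l : fLifts f (η' ≫ g) => ↑((EtCoh.stalk l.1).obj F)) E) r, fun l' => ?_⟩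
  exact (congrArg (downStalk f g f' g' h.w η' F l') (Equiv.piCongrLeft_apply_apply (fun l : fLifts f (η' ≫ g) => ↑((EtCoh.stalk l.1).obj F)) E r l')).trans (hr l')

set_option backward.isDefEq.respectTransparency.types false in
omit w in
/-- Base change in degree zero for integral morphisms. -/
theorem isIso_baseChange0_integral [IsIntegralHom f] (h : IsPullback g' f' f g) (F : EtCoh.Ab X) :
    IsIso (EtCoh.baseChange0 f g f' g' h.w F) := by
  classical
  haveI : IsIntegralHom f' := MorphismProperty.of_isPullback h ‹IsIntegralHom f›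
  rw [isIso_iff_stalk_alg]
  intro Ω _ _ η'
  have hdown := bijective_downLift f g f' g' η' h
  have hs := ConcreteCategory.bijective_of_isIso (stalkPull g η' ((EtCoh.push f).obj F))
  refine (Function.Bijective.of_comp_iff _ hs).1 ⟨fun p q hpq => ?_, fun q => ?_⟩
  · refine injective_liftStalk f (η' ≫ g) F (funext fun l => ?_)
    obtain ⟨l', rfl⟩ := hdown.2 l
    refine (ConcreteCategory.bijective_of_isIso (stalkPull g' l'.1 F)).1 ?_
    refine (liftStalk_baseChange0 f g f' g' h.w η' F l' p).symm.trans
      ((congrArg (liftStalk f' η' l' _) hpq).trans (liftStalk_baseChange0 f g f' g' h.w η' F l' q))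
  · obtain ⟨W', w', t, rfl⟩ := germ_surjective _ _ q
    obtain ⟨tgt, htgt⟩ := exists_downFamily f g f' g' η' h F fun l' =>
      liftStalk f' η' l' ((EtCoh.pull g').obj F) (germ η' ((EtCoh.push f').obj ((EtCoh.pull g').obj F)) w' t)
    suffices H : ∃ p, ∀ l, liftStalk f (η' ≫ g) l F p = tgt l by
      obtain ⟨p, hp⟩ := H
      refine ⟨p, injective_liftStalk f' η' _ (funext fun l' => ?_)⟩
      exact (liftStalk_baseChange0 f g f' g' h.w η' F l' p).trans
        ((congrArg (downStalk f g f' g' h.w η' F l') (hp _)).trans (htgt l'))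
    refine mem_range_liftStalk f (η' ≫ g) F tgt fun l => ?_
    obtain ⟨U, u, P, r, hcl, hmem, hr⟩ := exists_clopen_rep f (η' ≫ g) F l (tgt l)
    let top' : fib η' (EtCoh.top Y') := Over.homMk η' (Category.comp_id _)
    let a₁ : W' ⟶ EtCoh.top Y' := MorphismProperty.Over.homMk W'.hom
    let a₂ : (EtCoh.bc g).obj U ⟶ EtCoh.top Y' := MorphismProperty.Over.homMk ((EtCoh.bc g).obj U).hom
    obtain ⟨U'', q₁, q₂, u'', -, hu₁, hu₂⟩ := exists_common η' (w := top') a₁ a₂ w' (liftFib g η' u)
      (Over.OverMorphism.ext (Over.w w')) (Over.OverMorphism.ext (Over.w (liftFib g η' u)))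
    let A := (EtCoh.bc f).obj U
    let A' := (EtCoh.bc f').obj U''
    let κ : A' ⟶ (EtCoh.bc g').obj A := (EtCoh.bc f').map q₂ ≫ sqHom f g f' g' h.w U
    let P'' : A'.left.Opens := (κ.left ≫ bcFst g' A) ⁻¹ᵁ P
    let B := EtSite.sub A' P''
    have hrange : Set.range (P''.ι ≫ κ.left ≫ bcFst g' A) ⊆ Set.range P.ι := by
      rintro _ ⟨z, rfl⟩
      rw [Scheme.Opens.range_ι, Scheme.Hom.comp_apply]
      exact z.2
    let k := IsOpenImmersion.lift P.ι (P''.ι ≫ κ.left ≫ bcFst g' A) hrange
    have hk : k ≫ P.ι = P''.ι ≫ κ.left ≫ bcFst g' A := IsOpenImmersion.lift_fac _ _ _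
    let ψ : B ⟶ (EtCoh.bc g').obj (EtSite.sub A P) :=
      MorphismProperty.Over.homMk (pullback.lift k (P''.ι ≫ A'.hom) (by
        refine (Category.assoc _ _ _).symm.trans ((congrArg (· ≫ A.hom) hk).trans ?_)
        refine (Category.assoc _ _ _).trans ((congrArg (P''.ι ≫ ·) ?_).trans (Category.assoc _ _ _).symm)
        refine (Category.assoc _ _ _).trans ((congrArg (κ.left ≫ ·) pullback.condition).trans ?_)
        exact (Category.assoc _ _ _).symm.trans (congrArg (· ≫ g') (MorphismProperty.Over.w κ))))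
        (pullback.lift_snd _ _ _)
    let s₁ := ((EtCoh.pull g').obj F).obj.map (EtSite.subHom A' P'' ≫ (EtCoh.bc f').map q₁).op t
    let s₂ := ((EtCoh.pull g').obj F).obj.map ψ.op
      (((EtCoh.pullPushAdj g').unit.app F).hom.app (op (EtSite.sub A P)) r)
    let G : A'.left.Opens := ⟨P''.ι '' agree ((EtCoh.pull g').obj F) (U := B) s₁ s₂,
      P''.ι.isOpenMap _ (isOpen_agree _ s₁ s₂)⟩
    -- the points of the fibre of `X'` in the good set
    have hκ : ∀ l' : fLifts f' η', bcFst g' A (κ.left (fibPt (liftAt f' η' u'' l'))) =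
        fibPt (liftAt f (η' ≫ g) u (downLift f g f' g' h.w η' l')) ∧
        (liftAt f' η' u'' l').left ≫ κ.left ≫ bcFst g' A =
          (liftAt f (η' ≫ g) u (downLift f g f' g' h.w η' l')).left := by
      intro l'
      have e : (liftAt f' η' u'' l').left ≫ κ.left ≫ bcFst g' A =
          (liftAt f (η' ≫ g) u (downLift f g f' g' h.w η' l')).left := by
        refine pullback.hom_ext ?_ ?_
        · refine Eq.trans ?_ (liftAt_left_fst f (η' ≫ g) u (downLift f g f' g' h.w η' l')).symm
          have e₂ : κ.left ≫ bcFst g' A ≫ bcFst f U =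
              ((EtCoh.bc f').map q₂).left ≫ bcFst f' ((EtCoh.bc g).obj U) ≫ bcFst g U :=
            (Category.assoc _ _ _).trans (congrArg (_ ≫ ·) (sqHom_fst f g f' g' h.w U))
          simp only [Category.assoc]
          refine (congrArg (_ ≫ ·) e₂).trans ?_
          refine (congrArg (_ ≫ ·) ((Category.assoc _ _ _).symm.trans
            ((congrArg (· ≫ bcFst g U) (bcFst_nat f' q₂)).trans (Category.assoc _ _ _)))).trans ?_
          refine (Category.assoc _ _ _).symm.trans ((congrArg (· ≫ _) (liftAt_left_fst f' η' u'' l')).trans ?_)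
          refine (Category.assoc _ _ _).symm.trans ((congrArg (· ≫ bcFst g U)
            (congrArg (fun t : fib η' ((EtCoh.bc g).obj U) => t.left) hu₂)).trans ?_)
          exact pullback.lift_fst _ _ _
        · refine Eq.trans ?_ (Over.w (liftAt f (η' ≫ g) u (downLift f g f' g' h.w η' l'))).symm
          simp only [Category.assoc]
          refine (congrArg (_ ≫ ·) ((congrArg (κ.left ≫ ·) pullback.condition).trans
            ((Category.assoc _ _ _).symm.trans (congrArg (· ≫ g') (MorphismProperty.Over.w κ))))).trans ?_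
          exact (Category.assoc _ _ _).symm.trans (congrArg (· ≫ g') (Over.w (liftAt f' η' u'' l')))
      refine ⟨?_, e⟩
      refine Eq.trans ?_ (congrArg (fun a => a (default : Spec (CommRingCat.of Ω))) e)
      rw [Scheme.Hom.comp_apply, Scheme.Hom.comp_apply]
      rfl
    have hgood : ∀ l' : fLifts f' η', fibHom f' η' u'' (fpt f' η' l') ∈ G ↔
        ∃ hP : fibPt (liftAt f (η' ≫ g) u (downLift f g f' g' h.w η' l')) ∈ P,
          germ _ F (subFib _ P hP) r = tgt (downLift f g f' g' h.w η' l') := by
      intro l'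
      rw [fibHom_fpt]
      have hP'' : fibPt (liftAt f' η' u'' l') ∈ P'' ↔
          fibPt (liftAt f (η' ≫ g) u (downLift f g f' g' h.w η' l')) ∈ P := by
        rw [← (hκ l').1]
        exact Iff.rfl
      have hval : ∀ (hb : fibPt (liftAt f' η' u'' l') ∈ P''),
          (fibPt (subFib (liftAt f' η' u'' l') P'' hb) ∈
              agree ((EtCoh.pull g').obj F) (U := B) s₁ s₂ ↔
            germ _ F (subFib _ P (hP''.1 hb)) r = tgt (downLift f g f' g' h.w η' l')) := by
        intro hb
        rw [mem_agree_iff_germ, ← (bijective_downStalk f g f' g' h.w η' F l').1.eq_iff,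
          htgt, liftStalk_germ]
        have e₁ : germ l'.1 ((EtCoh.pull g').obj F) (subFib (liftAt f' η' u'' l') P'' hb) s₁ =
            germ l'.1 ((EtCoh.pull g').obj F) (liftAt f' η' w' l') t := by
          simp only [s₁]
          rw [germ_map, Functor.map_comp_apply, subFib_map, liftAt_map, hu₁]
        have e₂ : germ l'.1 ((EtCoh.pull g').obj F) (subFib (liftAt f' η' u'' l') P'' hb) s₂ =
            downStalk f g f' g' h.w η' F l' (germ _ F (subFib _ P (hP''.1 hb)) r) := by
          refine (germ_map l'.1 ((EtCoh.pull g').obj F) ψ _ _).trans (Eq.trans ?_ (germ_stalkPull g' l'.1 F _ r).symm)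
          refine congrArg (fun z => germ l'.1 ((EtCoh.pull g').obj F) z _) (Over.OverMorphism.ext (pullback.hom_ext ?_ ?_))
          · refine (Category.assoc _ _ _).trans ((congrArg (_ ≫ ·) (pullback.lift_fst _ _ _)).trans ?_)
            refine Eq.trans ?_ (pullback.lift_fst _ _ _).symm
            refine (cancel_mono P.ι).1 ((Category.assoc _ _ _).trans ?_)
            refine (congrArg (_ ≫ ·) hk).trans ?_
            refine (Category.assoc _ _ _).symm.trans ((congrArg (· ≫ _)
              (congrArg (fun t : fib l'.1 A' => t.left) (subFib_map (liftAt f' η' u'' l') P'' hb))).trans ?_)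
            refine (hκ l').2.trans ?_
            exact (congrArg (fun t : fib (l'.1 ≫ g') A => t.left)
              (subFib_map (liftAt f (η' ≫ g) u (downLift f g f' g' h.w η' l')) P (hP''.1 hb))).symm
          · exact (Over.w _).trans (Over.w (liftFib g' l'.1 (subFib (liftAt f (η' ≫ g) u
              (downLift f g f' g' h.w η' l')) P (hP''.1 hb)))).symm
        rw [e₁, e₂]
        exact eq_comm
      have hpt : ∀ hb, P''.ι (fibPt (subFib (liftAt f' η' u'' l') P'' hb)) =
          fibPt (liftAt f' η' u'' l') := fun hb =>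
        congrArg fibPt (subFib_map (liftAt f' η' u'' l') P'' hb)
      constructor
      · rintro ⟨x, hx, hxe⟩
        have hb : fibPt (liftAt f' η' u'' l') ∈ P'' := hxe ▸ x.2
        have hxe' : x = fibPt (subFib (liftAt f' η' u'' l') P'' hb) :=
          P''.ι.injective (hxe.trans (hpt hb).symm)
        exact ⟨hP''.1 hb, (hval hb).1 (hxe' ▸ hx)⟩
      · rintro ⟨hP, he⟩
        exact ⟨_, (hval (hP''.2 hP)).2 he, hpt _⟩
    let O : (pullback f (η' ≫ g) : Scheme.{u}).Opens :=
      ⟨(fibreDown f g f' g' h.w η' '' ((fibHom f' η' u'') ⁻¹' (G : Set A'.left)ᶜ))ᶜ,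
        (isClosedMap_fibreDown f g f' g' h.w η' _
          ((G.2.isClosed_compl).preimage (fibHom f' η' u'').continuous)).isOpen_compl⟩
    refine ⟨U, u, P, r, O, hcl, hmem, ?_, fun l₁ hl₁ hl₁P => ?_⟩
    · rintro ⟨z, hz, hzl⟩
      obtain ⟨l', rfl⟩ := fpt_surjective f' η' z
      rw [fibreDown_fpt] at hzl
      obtain rfl := fpt_injective f (η' ≫ g) hzl
      exact hz ((hgood l').2 ⟨hmem, hr⟩)
    · obtain ⟨l', rfl⟩ := hdown.2 l₁
      have hG : fibHom f' η' u'' (fpt f' η' l') ∈ G := by
        by_contra hn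
        exact hl₁ ⟨_, hn, fibreDown_fpt f g f' g' h.w η' l'⟩
      exact ((hgood l').1 hG).2

end Groth.Agent.EtStalk
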