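import Groth.Agent.Lib.EtStalk.HpullComp
import Groth.Agent.Lib.EtStalk.ExtZero
import Groth.Agent.Lib.RDerLES.Horseshoe
import Groth.Prelude.Def_EtLim

/-!
# Cohomology of a direct image without higher direct images
-/

universe u

open CategoryTheory CategoryTheory.Limits AlgebraicGeometry Opposite CategoryTheory.Abelian

namespace Groth.Agent.EtStalk

variable {X Y : Scheme.{u}} (f : X ⟶ Y)

/-- The direct image of a short exact sequence with acyclic kernel. -/
lemma shortExact_push_of_acyclic {S : ShortComplex (EtCoh.Ab X)} (hS : S.ShortExact)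
    (h1 : IsZero ((EtCoh.Rpush f 1).obj S.X₁)) : (S.map (EtCoh.push f)).ShortExact := by
  obtain ⟨T⟩ := RDerLES.exists_sesRes hS
  obtain ⟨-, ⟨w, hw⟩, -⟩ := RDerLES.exact_sequences (EtCoh.push f) T 0 1 rfl
  have : (EtCoh.push f).IsRightAdjoint := (EtCoh.pullPushAdj f).isRightAdjoint
  have hepi : Epi (((EtCoh.push f).rightDerived 0).map S.g) := hw.epi_f (h1.eq_of_tgt _ _)
  have : Epi ((EtCoh.push f).map S.g) :=
    ((MorphismProperty.epimorphisms _).arrow_mk_iso_iff
      (Arrow.isoMk' _ _ ((EtCoh.push f).rightDerivedZeroIsoSelf.app S.X₂)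
        ((EtCoh.push f).rightDerivedZeroIsoSelf.app S.X₃)
        ((EtCoh.push f).rightDerivedZeroIsoSelf.hom.naturality S.g).symm)).1 hepi
  exact
    { exact := hS.exact.map_of_mono_of_preservesKernel _ hS.mono_f inferInstance
      mono_f := by
        have := hS.mono_f
        exact inferInstanceAs (Mono ((EtCoh.push f).map S.f))
      epi_g := this }

/-- Cokernels inside injectives of acyclic sheaves are acyclic. -/
lemma acyclic_cokernel {S : ShortComplex (EtCoh.Ab X)} (hS : S.ShortExact) [Injective S.X₂]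
    (h : ∀ q : ℕ, 0 < q → IsZero ((EtCoh.Rpush f q).obj S.X₁)) (q : ℕ) (hq : 0 < q) :
    IsZero ((EtCoh.Rpush f q).obj S.X₃) := by
  obtain ⟨T⟩ := RDerLES.exists_sesRes hS
  obtain ⟨-, ⟨w, hw⟩, -⟩ := RDerLES.exact_sequences (EtCoh.push f) T q (q + 1) rfl
  obtain ⟨m, rfl⟩ := Nat.exists_eq_add_one.2 hq
  exact hw.isZero_X₂
    (((EtCoh.push f).isZero_rightDerived_obj_injective_succ m S.X₂).eq_of_src _ _)
    ((h _ (Nat.succ_pos _)).eq_of_tgt _ _)

variable [PreservesFiniteLimits (EtCoh.pull f)]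

lemma HofPush_apply (G : EtCoh.Ab X) (n : ℕ) (x : EtCoh.H Y ((EtCoh.push f).obj G) n) :
    EtLim.HofPush f G n x =
      ((Ext.mk₀ (EtCore.pullConst f ℤ).inv).comp (x.mapExactFunctor (EtCoh.pull f)) (zero_add n)).comp
        (Ext.mk₀ ((EtCoh.pullPushAdj f).counit.app G)) (add_zero n) := rfl

lemma HofPush_comp {G G' : EtCoh.Ab X} (a : G ⟶ G') (n : ℕ)
    (x : EtCoh.H Y ((EtCoh.push f).obj G) n) :
    EtLim.HofPush f G' n (x.comp (Ext.mk₀ ((EtCoh.push f).map a)) (add_zero n)) =
      (EtLim.HofPush f G n x).comp (Ext.mk₀ a) (add_zero n) := by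
  rw [HofPush_apply, HofPush_apply, Ext.mapExactFunctor_comp, Ext.mapExactFunctor_mk₀]
  simp only [Ext.comp_assoc_of_third_deg_zero, Ext.mk₀_comp_mk₀]
  exact congrArg (fun t => (Ext.mk₀ (EtCore.pullConst f ℤ).inv).comp
    ((x.mapExactFunctor (EtCoh.pull f)).comp (Ext.mk₀ t) (add_zero n)) (zero_add n))
    ((EtCoh.pullPushAdj f).counit.naturality a)

lemma HofPush_extClass {S : ShortComplex (EtCoh.Ab X)} (hS : S.ShortExact)
    (hS' : (S.map (EtCoh.push f)).ShortExact) (n : ℕ)
    (x : EtCoh.H Y ((EtCoh.push f).obj S.X₃) n) :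
    EtLim.HofPush f S.X₁ (n + 1) (x.comp hS'.extClass rfl) =
      (EtLim.HofPush f S.X₃ n x).comp hS.extClass rfl := by
  rw [HofPush_apply, HofPush_apply]
  erw [Ext.mapExactFunctor_comp, Ext.mapExactFunctor_extClass]
  let φ : (S.map (EtCoh.push f)).map (EtCoh.pull f) ⟶ S :=
    { τ₁ := (EtCoh.pullPushAdj f).counit.app S.X₁
      τ₂ := (EtCoh.pullPushAdj f).counit.app S.X₂
      τ₃ := (EtCoh.pullPushAdj f).counit.app S.X₃
      comm₁₂ := ((EtCoh.pullPushAdj f).counit.naturality S.f).symm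
      comm₂₃ := ((EtCoh.pullPushAdj f).counit.naturality S.g).symm }
  have hn := ShortComplex.ShortExact.extClass_naturality (hS'.map_of_exact (EtCoh.pull f)) hS φ
  rw [← Ext.comp_assoc (Ext.mk₀ (EtCore.pullConst f ℤ).inv) _ _ (zero_add n) rfl (by lia)]
  erw [Ext.comp_assoc_of_third_deg_zero, hn]
  exact (Ext.comp_assoc_of_second_deg_zero _ _ _ _).symm

/-- Without higher direct images, cohomology of the direct image is cohomology. -/
theorem bijective_HofPush : ∀ (n : ℕ) (F : EtCoh.Ab X),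
    (∀ q : ℕ, 0 < q → IsZero ((EtCoh.Rpush f q).obj F)) → Function.Bijective (EtLim.HofPush f F n)
  | 0, F, _ => by
    have hval : ∀ a : EtCoh.const Y ℤ ⟶ (EtCoh.push f).obj F,
        EtLim.HofPush f F 0 (Ext.mk₀ a) = Ext.mk₀ ((EtCore.pullConst f ℤ).inv ≫
          ((EtCoh.pullPushAdj f).homEquiv _ _).symm a) := fun a => by
      rw [HofPush_apply, Ext.mapExactFunctor_mk₀, Ext.mk₀_comp_mk₀, Ext.mk₀_comp_mk₀,
        Adjunction.homEquiv_counit, Category.assoc]
    constructor
    · intro x y h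
      obtain ⟨a, rfl⟩ := (Ext.mk₀_bijective _ _).2 x
      obtain ⟨b, rfl⟩ := (Ext.mk₀_bijective _ _).2 y
      rw [hval, hval] at h
      exact congrArg _ (((EtCoh.pullPushAdj f).homEquiv _ _).symm.injective
        ((cancel_epi (EtCore.pullConst f ℤ).inv).1 ((Ext.mk₀_bijective _ _).1 h)))
    · intro y
      obtain ⟨b, rfl⟩ := (Ext.mk₀_bijective _ _).2 y
      exact ⟨Ext.mk₀ ((EtCoh.pullPushAdj f).homEquiv _ _ ((EtCore.pullConst f ℤ).hom ≫ b)), by
        rw [hval, Equiv.symm_apply_apply, Iso.inv_hom_id_assoc]⟩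
  | n + 1, F, hR => by
    let S := ShortComplex.mk (Injective.ι F) (cokernel.π (Injective.ι F)) (cokernel.condition _)
    have hS : S.ShortExact := { exact := ShortComplex.exact_cokernel (Injective.ι F) }
    have : Injective S.X₂ := inferInstanceAs (Injective (Injective.under F))
    have hS' := shortExact_push_of_acyclic f hS (hR 1 one_pos)
    have hI : Injective (S.map (EtCoh.push f)).X₂ := injective_push f S.X₂
    have ihQ := bijective_HofPush n S.X₃ (acyclic_cokernel f hS hR)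
    have ihI := bijective_HofPush n S.X₂ (fun q hq => by
      obtain ⟨m, rfl⟩ := Nat.exists_eq_add_one.2 hq
      exact (EtCoh.push f).isZero_rightDerived_obj_injective_succ m S.X₂)
    constructor
    · refine (injective_iff_map_eq_zero _).2 fun x hx => ?_
      obtain ⟨x', rfl⟩ := Ext.covariant_sequence_exact₁ _ hS' x (Ext.eq_zero_of_injective _) (n₀ := n) rfl
      replace hx := (HofPush_extClass f hS hS' n x').symm.trans hx
      obtain ⟨z, hz⟩ := Ext.covariant_sequence_exact₃ _ hS _ rfl hx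
      obtain ⟨z', rfl⟩ := ihI.2 z
      rw [← HofPush_comp] at hz
      rw [← ihQ.1 hz]
      exact (Ext.comp_assoc_of_second_deg_zero _ _ _ _).trans
        (by erw [hS'.comp_extClass, Ext.comp_zero]; rfl)
    · intro y
      obtain ⟨y', rfl⟩ := Ext.covariant_sequence_exact₁ _ hS y (Ext.eq_zero_of_injective _) (n₀ := n) rfl
      obtain ⟨x', rfl⟩ := ihQ.2 y'
      exact ⟨x'.comp hS'.extClass rfl, HofPush_extClass f hS hS' n x'⟩

end Groth.Agent.EtStalk
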