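import Groth.Agent.Lib.EtStalk.Topological
import Groth.Agent.Lib.EtStalk.EtLift

/-!
# Topological invariance of the small etale site under thickenings
-/

universe u
set_option backward.isDefEq.respectTransparency.types false

open CategoryTheory CategoryTheory.Limits AlgebraicGeometry Opposite

namespace Groth.Agent.EtStalk

variable {X Y : Scheme.{u}}

/-- Open immersions of etale schemes with the same image have isomorphic sources. -/
lemma exists_iso_of_range_eq {A B C : X.Etale} (a : A ⟶ C) (b : B ⟶ C)
    (ha : IsOpenImmersion a.left) (hb : IsOpenImmersion b.left)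
    (h : Set.range a.left = Set.range b.left) : ∃ e : A ≅ B, e.hom ≫ b = a := by
  let e := @IsOpenImmersion.isoOfRangeEq _ _ _ a.left b.left ha hb h
  have he : e.hom ≫ b.left = a.left :=
    @IsOpenImmersion.isoOfRangeEq_hom_fac _ _ _ a.left b.left ha hb h
  let e' : A ⟶ B := MorphismProperty.Over.homMk e.hom (by
    rw [← MorphismProperty.Over.w b, ← Category.assoc, he]
    exact MorphismProperty.Over.w a)
  have : IsIso e'.left := inferInstanceAs (IsIso e.hom)
  have : IsIso ((Scheme.Etale.forget X).map e') :=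
    @isIso_of_reflects_iso _ _ _ _ _ _ ((Scheme.Etale.forget X).map e') (Over.forget X) this _
  have : IsIso e' := isIso_of_reflects_iso e' (Scheme.Etale.forget X)
  exact ⟨asIso e', MorphismProperty.Over.Hom.ext he⟩

variable (i : X ⟶ Y) [IsClosedImmersion i] [Surjective i]

lemma bijective_bcFst (V : Y.Etale) : Function.Bijective (bcFst i V) := by
  have : IsClosedImmersion (bcFst i V) := inferInstanceAs (IsClosedImmersion (pullback.fst V.hom i))
  exact ⟨(bcFst i V).isClosedEmbedding.injective, (surjective_bcFst i V).surj⟩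

section

variable (U : X.Etale)

/-- An open of `U` which lifts to `Y`. -/
def Liftable (O : U.left.Opens) : Prop :=
  ∃ V : Y.Etale, Nonempty ((EtCoh.bc i).obj V ≅ EtSite.sub U O)

variable {i U}

lemma liftable_mono {O O' : U.left.Opens} (hle : O' ≤ O) (h : Liftable i U O) : Liftable i U O' := by
  obtain ⟨V, ⟨e⟩⟩ := h
  let q : (EtCoh.bc i).obj V ⟶ U := e.hom ≫ EtSite.subHom U O
  have he : IsIso e.hom.left :=
    inferInstanceAs (IsIso ((Scheme.Etale.forget X ⋙ Over.forget X).map e.hom))
  have hι : IsOpenImmersion O.ι := inferInstance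
  have hq : IsOpenImmersion q.left :=
    MorphismProperty.comp_mem @IsOpenImmersion e.hom.left (EtSite.subHom U O).left
      (IsOpenImmersion.of_isIso _) hι
  have hqr : Set.range q.left = (O : Set U.left) := by
    have : q.left = e.hom.left ≫ O.ι := rfl
    rw [this, Scheme.Hom.comp_base, TopCat.coe_comp, Set.range_comp,
      show Set.range ⇑e.hom.left = Set.univ from
        Set.range_eq_univ.2 (@Scheme.Hom.homeomorph _ _ e.hom.left he).surjective,
      Set.image_univ]
    exact Scheme.Opens.range_ι O
  have hopen : IsOpen ((bcFst i V) '' (q.left ⁻¹' (O' : Set U.left))) := by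
    have hcl : IsClosedImmersion (bcFst i V) := inferInstanceAs (IsClosedImmersion (pullback.fst V.hom i))
    have : Topology.IsQuotientMap (bcFst i V) :=
      (bcFst i V).isClosedEmbedding.isClosedMap.isQuotientMap (bcFst i V).continuous
        (bijective_bcFst i V).2
    rw [← this.isOpen_preimage, Set.preimage_image_eq _ (bijective_bcFst i V).1]
    exact O'.isOpen.preimage q.left.continuous
  let W : V.left.Opens := ⟨_, hopen⟩
  let j := (EtCoh.bc i).map (EtSite.subHom V W) ≫ q
  have hWι : IsOpenImmersion W.ι := inferInstance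
  have h1 : IsOpenImmersion ((EtCoh.bc i).map (EtSite.subHom V W)).left :=
    MorphismProperty.of_isPullback (P := @IsOpenImmersion)
      (EtCoh.isPullback_bc_map i (EtSite.subHom V W)).flip hWι
  have hj : IsOpenImmersion j.left :=
    MorphismProperty.comp_mem @IsOpenImmersion _ q.left h1 hq
  have hjr : Set.range j.left = (O' : Set U.left) := by
    have e1 : Set.range ((EtCoh.bc i).map (EtSite.subHom V W)).left =
        q.left ⁻¹' (O' : Set U.left) := by
      rw [← (EtCoh.isPullback_bc_map i (EtSite.subHom V W)).isoPullback_hom_fst, Scheme.Hom.comp_base,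
        TopCat.coe_comp, Set.range_comp,
        show Set.range ⇑(EtCoh.isPullback_bc_map i (EtSite.subHom V W)).isoPullback.hom = Set.univ from
          Set.range_eq_univ.2 (Scheme.Hom.homeomorph
            (EtCoh.isPullback_bc_map i (EtSite.subHom V W)).isoPullback.hom).surjective,
        Set.image_univ, Scheme.Pullback.range_fst]
      change bcFst i V ⁻¹' Set.range W.ι = _
      rw [Scheme.Opens.range_ι]
      exact Set.preimage_image_eq _ (bijective_bcFst i V).1
    have : j.left = ((EtCoh.bc i).map (EtSite.subHom V W)).left ≫ q.left := rfl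
    rw [this, Scheme.Hom.comp_base, TopCat.coe_comp, Set.range_comp, e1,
      Set.image_preimage_eq_inter_range, hqr]
    exact Set.inter_eq_left.2 hle
  obtain ⟨e', -⟩ := exists_iso_of_range_eq j (EtSite.subHom U O') hj
    (inferInstanceAs (IsOpenImmersion O'.ι)) (hjr.trans (Scheme.Opens.range_ι O').symm)
  exact ⟨EtSite.sub V W, ⟨e'⟩⟩

omit [Surjective i] in
lemma exists_liftable (x : U.left) : ∃ O : U.left.Opens, x ∈ O ∧ Liftable i U O := by
  obtain ⟨V, h, ho, hw, y, hy⟩ := exists_lift_at i U x
  let q : (EtCoh.bc i).obj V ⟶ U := MorphismProperty.Over.homMk h hw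
  have hq : IsOpenImmersion q.left := ho
  let O : U.left.Opens := ⟨Set.range q.left, q.left.isOpenEmbedding.isOpen_range⟩
  obtain ⟨e, -⟩ := exists_iso_of_range_eq q (EtSite.subHom U O) hq
    (inferInstanceAs (IsOpenImmersion O.ι)) (Scheme.Opens.range_ι O).symm
  exact ⟨O, ⟨y, hy⟩, V, ⟨e⟩⟩

variable (i U)

/-- The poset of liftable opens. -/
abbrev LiftIdx : Type u := {O : U.left.Opens // Liftable i U O}

noncomputable def liftObj (O : LiftIdx i U) : Y.Etale := O.2.choose

noncomputable def liftIso (O : LiftIdx i U) :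
    (EtCoh.bc i).obj (liftObj i U O) ≅ EtSite.sub U O.1 := O.2.choose_spec.some

noncomputable def inclHom {O O' : LiftIdx i U} (h : O ≤ O') :
    EtSite.sub U O.1 ⟶ EtSite.sub U O'.1 :=
  MorphismProperty.Over.homMk (U.left.homOfLE h)
    ((Category.assoc _ _ _).symm.trans (congrArg (· ≫ U.hom) (U.left.homOfLE_ι h)))

noncomputable def fullyFaithful_bc : (EtCoh.bc i).FullyFaithful :=
  have := bc_full i
  have := bc_faithful i
  Functor.FullyFaithful.ofFullyFaithful _

noncomputable def liftFunctor : LiftIdx i U ⥤ Y.Etale where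
  obj := liftObj i U
  map {O O'} f := (fullyFaithful_bc i).preimage
    ((liftIso i U O).hom ≫ inclHom i U f.le ≫ (liftIso i U O').inv)
  map_id O := (fullyFaithful_bc i).map_injective (by
    refine ((fullyFaithful_bc i).map_preimage _).trans (Eq.trans ?_ ((EtCoh.bc i).map_id _).symm)
    have : inclHom i U (le_refl O) = 𝟙 _ :=
      MorphismProperty.Over.Hom.ext (U.left.homOfLE_rfl O.1)
    exact (congrArg (fun t => (liftIso i U O).hom ≫ t ≫ (liftIso i U O).inv) this).trans
      ((congrArg ((liftIso i U O).hom ≫ ·) (Category.id_comp _)).trans (Iso.hom_inv_id _)))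
  map_comp {A B C} f g := (fullyFaithful_bc i).map_injective (by
    refine ((fullyFaithful_bc i).map_preimage _).trans (Eq.symm ?_)
    refine ((EtCoh.bc i).map_comp _ _).trans ?_
    refine (congrArg₂ (· ≫ ·) ((fullyFaithful_bc i).map_preimage _)
      ((fullyFaithful_bc i).map_preimage _)).trans ?_
    refine (Category.assoc _ _ _).trans (congrArg ((liftIso i U A).hom ≫ ·) ?_)
    refine (Category.assoc _ _ _).trans ?_
    refine (congrArg (inclHom i U f.le ≫ ·) (Iso.inv_hom_id_assoc _ _)).trans ?_
    exact (Category.assoc _ _ _).symm.trans (congrArg (· ≫ (liftIso i U C).inv)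
      (MorphismProperty.Over.Hom.ext (U.left.homOfLE_homOfLE f.le g.le))))

lemma bc_map_liftFunctor {O O' : LiftIdx i U} (f : O ⟶ O') :
    (EtCoh.bc i).map ((liftFunctor i U).map f) =
      (liftIso i U O).hom ≫ inclHom i U f.le ≫ (liftIso i U O').inv :=
  (fullyFaithful_bc i).map_preimage _

lemma bc_map_liftFunctor_ι {O O' : LiftIdx i U} (f : O ⟶ O') :
    (EtCoh.bc i).map ((liftFunctor i U).map f) ≫ (liftIso i U O').hom ≫ EtSite.subHom U O'.1 =
      (liftIso i U O).hom ≫ EtSite.subHom U O.1 := by
  refine (congrArg (· ≫ (liftIso i U O').hom ≫ EtSite.subHom U O'.1)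
    (bc_map_liftFunctor i U f)).trans ?_
  refine (Category.assoc _ _ _).trans (congrArg ((liftIso i U O).hom ≫ ·) ?_)
  refine (Category.assoc _ _ _).trans ?_
  exact (congrArg (inclHom i U f.le ≫ ·) (Iso.inv_hom_id_assoc _ _)).trans
    (MorphismProperty.Over.Hom.ext (U.left.homOfLE_ι f.le))

lemma isOpenImmersion_liftFunctor {O O' : LiftIdx i U} (f : O ⟶ O') :
    IsOpenImmersion ((liftFunctor i U).map f).left := by
  have : Mono (inclHom i U f.le) := ⟨fun a b h => MorphismProperty.Over.Hom.ext
    ((cancel_mono (U.left.homOfLE f.le)).1 (congrArg (fun t => t.left) h))⟩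
  have : Mono ((EtCoh.bc i).map ((liftFunctor i U).map f)) := by
    rw [bc_map_liftFunctor]
    have h2 : Mono (inclHom i U f.le ≫ (liftIso i U O').inv) := mono_comp _ _
    exact @mono_comp _ _ _ _ _ (liftIso i U O).hom inferInstance
      (inclHom i U f.le ≫ (liftIso i U O').inv) h2
  exact isOpenImmersion_of_mono_bc i _

/-- The diagram of lifted schemes. -/
noncomputable def liftDiag : LiftIdx i U ⥤ Scheme.{u} :=
  liftFunctor i U ⋙ Scheme.Etale.forget Y ⋙ Over.forget Y

instance {O O' : LiftIdx i U} (f : O ⟶ O') : IsOpenImmersion ((liftDiag i U).map f) :=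
  isOpenImmersion_liftFunctor i U f

/-- The point of `U` under a point of a lifted scheme. -/
noncomputable def toU (O : LiftIdx i U) : ((EtCoh.bc i).obj (liftObj i U O)).left ⟶ U.left :=
  ((liftIso i U O).hom ≫ EtSite.subHom U O.1).left

instance (O : LiftIdx i U) : IsOpenImmersion (toU i U O) := by
  have he : IsIso (liftIso i U O).hom.left :=
    inferInstanceAs (IsIso ((Scheme.Etale.forget X ⋙ Over.forget X).map (liftIso i U O).hom))
  have hι : IsOpenImmersion O.1.ι := inferInstance
  exact MorphismProperty.comp_mem @IsOpenImmersion (liftIso i U O).hom.left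
    (EtSite.subHom U O.1).left (IsOpenImmersion.of_isIso _) hι

omit [Surjective i] in
lemma range_toU (O : LiftIdx i U) : Set.range (toU i U O) = (O.1 : Set U.left) := by
  have he : IsIso (liftIso i U O).hom.left :=
    inferInstanceAs (IsIso ((Scheme.Etale.forget X ⋙ Over.forget X).map (liftIso i U O).hom))
  have : toU i U O = (liftIso i U O).hom.left ≫ O.1.ι := rfl
  rw [this, Scheme.Hom.comp_base, TopCat.coe_comp, Set.range_comp,
    show Set.range ⇑(liftIso i U O).hom.left = Set.univ from
      Set.range_eq_univ.2 (@Scheme.Hom.homeomorph _ _ (liftIso i U O).hom.left he).surjective,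
    Set.image_univ]
  exact Scheme.Opens.range_ι O.1

lemma toU_nat {O O' : LiftIdx i U} (f : O ⟶ O') :
    ((EtCoh.bc i).map ((liftFunctor i U).map f)).left ≫ toU i U O' = toU i U O :=
  congrArg (fun t => t.left) (bc_map_liftFunctor_ι i U f)

lemma toU_point {O O' : LiftIdx i U} (f : O ⟶ O') (z : ((EtCoh.bc i).obj (liftObj i U O)).left) :
    toU i U O' (((EtCoh.bc i).map ((liftFunctor i U).map f)).left z) = toU i U O z := by
  rw [← toU_nat i U f]
  exact (Scheme.Hom.comp_apply _ _ _).symm

omit [Surjective i] in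
lemma bcFst_point {V W : Y.Etale} (g : V ⟶ W) (z : ((EtCoh.bc i).obj V).left) :
    bcFst i W (((EtCoh.bc i).map g).left z) = g.left (bcFst i V z) :=
  (Scheme.Hom.comp_apply _ _ _).symm.trans
    ((congrArg (fun m : ((EtCoh.bc i).obj V).left ⟶ W.left => m z) (bcFst_nat i g)).trans
      (Scheme.Hom.comp_apply _ _ _))

instance : (liftDiag i U ⋙ Scheme.forget).IsLocallyDirected := by
  refine ⟨fun {A B C} f g xa xb h => ?_⟩
  obtain ⟨za, rfl⟩ := (bijective_bcFst i (liftObj i U A)).2 xa
  obtain ⟨zb, rfl⟩ := (bijective_bcFst i (liftObj i U B)).2 xb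
  have hab : toU i U A za = toU i U B zb := by
    rw [← toU_point i U f, ← toU_point i U g]
    exact congrArg _ ((bijective_bcFst i (liftObj i U C)).1
      ((bcFst_point i _ za).trans (Eq.trans h (bcFst_point i _ zb).symm)))
  let D : LiftIdx i U := ⟨A.1 ⊓ B.1, liftable_mono inf_le_left A.2⟩
  have hmem : toU i U A za ∈ Set.range (toU i U D) := by
    rw [range_toU]
    exact ⟨(range_toU i U A).subset ⟨za, rfl⟩, hab ▸ (range_toU i U B).subset ⟨zb, rfl⟩⟩
  obtain ⟨w, hw⟩ := hmem
  have key : ∀ {E : LiftIdx i U} (k : D ⟶ E) (z : ((EtCoh.bc i).obj (liftObj i U E)).left),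
      toU i U E z = toU i U A za →
      ((liftFunctor i U).map k).left (bcFst i _ w) = bcFst i _ z := fun {E} k z hz => by
    rw [← bcFst_point i]
    refine congrArg _ ((toU i U E).isOpenEmbedding.injective ?_)
    exact (toU_point i U k w).trans (hw.trans hz.symm)
  exact ⟨D, homOfLE (show D ≤ A from (inf_le_left : A.1 ⊓ B.1 ≤ A.1)), homOfLE (show D ≤ B from (inf_le_right : A.1 ⊓ B.1 ≤ B.1)),
    bcFst i _ w, key _ za rfl, key _ zb hab.symm⟩

/-- The structure maps of the lifted schemes. -/
noncomputable def liftCocone : Cocone (liftDiag i U) where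
  pt := Y
  ι :=
    { app O := (liftObj i U O).hom
      naturality {A B} f :=
        (MorphismProperty.Over.w ((liftFunctor i U).map f)).trans (Category.comp_id _).symm }

/-- The glued lift. -/
noncomputable def liftScheme : Y.Etale :=
  MorphismProperty.Over.mk ⊤ (colimit.desc (liftDiag i U) (liftCocone i U))
    (IsZariskiLocalAtSource.of_openCover (Scheme.IsLocallyDirected.openCover (liftDiag i U))
      fun O => by
        have : colimit.ι (liftDiag i U) O ≫ colimit.desc (liftDiag i U) (liftCocone i U) =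
            (liftObj i U O).hom := colimit.ι_desc _ _
        exact this ▸ (liftObj i U O).prop)

noncomputable def liftι (O : LiftIdx i U) : liftObj i U O ⟶ liftScheme i U :=
  MorphismProperty.Over.homMk (colimit.ι (liftDiag i U) O) (colimit.ι_desc _ _)

lemma liftι_w {O O' : LiftIdx i U} (f : O ⟶ O') :
    (liftFunctor i U).map f ≫ liftι i U O' = liftι i U O :=
  MorphismProperty.Over.Hom.ext (colimit.w (liftDiag i U) f)

/-- The piece of the comparison map on a liftable open. -/
noncomputable def piece (O : LiftIdx i U) :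
    EtSite.sub U O.1 ⟶ (EtCoh.bc i).obj (liftScheme i U) :=
  (liftIso i U O).inv ≫ (EtCoh.bc i).map (liftι i U O)

lemma piece_nat {O O' : LiftIdx i U} (h : O ≤ O') :
    inclHom i U h ≫ piece i U O' = piece i U O := by
  refine ((liftIso i U O).eq_inv_comp).2 ?_
  refine Eq.trans ?_ ((congrArg (EtCoh.bc i).map (liftι_w i U (homOfLE h))).symm.trans
    ((EtCoh.bc i).map_comp _ _)).symm
  refine Eq.trans ?_ (congrArg (· ≫ (EtCoh.bc i).map (liftι i U O'))
    (bc_map_liftFunctor i U (homOfLE h))).symm
  exact ((Category.assoc _ _ _).trans (congrArg ((liftIso i U O).hom ≫ ·) (Category.assoc _ _ _))).symm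

instance isOpenImmersion_piece (O : LiftIdx i U) : IsOpenImmersion (piece i U O).left := by
  have he : IsIso (liftIso i U O).inv.left :=
    inferInstanceAs (IsIso ((Scheme.Etale.forget X ⋙ Over.forget X).map (liftIso i U O).inv))
  have h1 : IsOpenImmersion (liftι i U O).left :=
    inferInstanceAs (IsOpenImmersion (colimit.ι (liftDiag i U) O))
  have h2 : IsOpenImmersion ((EtCoh.bc i).map (liftι i U O)).left :=
    MorphismProperty.of_isPullback (P := @IsOpenImmersion)
      (EtCoh.isPullback_bc_map i (liftι i U O)).flip h1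
  exact MorphismProperty.comp_mem @IsOpenImmersion (liftIso i U O).inv.left
    ((EtCoh.bc i).map (liftι i U O)).left (IsOpenImmersion.of_isIso _) h2

noncomputable def liftCover : U.left.OpenCover :=
  U.left.openCoverOfIsOpenCover (fun O : LiftIdx i U => O.1) (by
    refine eq_top_iff.2 fun x _ => ?_
    obtain ⟨O, hx, hO⟩ := exists_liftable (i := i) (U := U) x
    exact TopologicalSpace.Opens.mem_iSup.2 ⟨⟨O, hO⟩, hx⟩)

lemma piece_compat (O O' : LiftIdx i U) :
    pullback.fst O.1.ι O'.1.ι ≫ (piece i U O).left = pullback.snd O.1.ι O'.1.ι ≫ (piece i U O').left := by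
  let D : LiftIdx i U := ⟨O.1 ⊓ O'.1, liftable_mono inf_le_left O.2⟩
  have hD : IsOpenImmersion D.1.ι := inferInstance
  have hr : Set.range (pullback.fst O.1.ι O'.1.ι ≫ O.1.ι) ⊆ Set.range D.1.ι := by
    rw [Scheme.Opens.range_ι]
    rintro _ ⟨z, rfl⟩
    refine ⟨?_, ?_⟩
    · rw [Scheme.Hom.comp_apply]; exact (pullback.fst O.1.ι O'.1.ι z).2
    · rw [pullback.condition, Scheme.Hom.comp_apply]; exact (pullback.snd O.1.ι O'.1.ι z).2
  let l := @IsOpenImmersion.lift _ _ _ D.1.ι _ hD hr
  have hl : l ≫ D.1.ι = pullback.fst O.1.ι O'.1.ι ≫ O.1.ι := @IsOpenImmersion.lift_fac _ _ _ D.1.ι _ hD hr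
  have h1 : D ≤ O := (inf_le_left : O.1 ⊓ O'.1 ≤ O.1)
  have h2 : D ≤ O' := (inf_le_right : O.1 ⊓ O'.1 ≤ O'.1)
  have e1 : pullback.fst O.1.ι O'.1.ι = l ≫ U.left.homOfLE h1 := by
    rw [← cancel_mono O.1.ι, Category.assoc, Scheme.homOfLE_ι, hl]
  have e2 : pullback.snd O.1.ι O'.1.ι = l ≫ U.left.homOfLE h2 := by
    rw [← cancel_mono O'.1.ι, Category.assoc, Scheme.homOfLE_ι, hl, pullback.condition]
  rw [e1, e2]
  refine (Category.assoc _ _ _).trans (Eq.trans ?_ (Category.assoc _ _ _).symm)
  exact congrArg (l ≫ ·) ((congrArg (fun t => t.left) (piece_nat i U h1)).trans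
    (congrArg (fun t => t.left) (piece_nat i U h2)).symm)

/-- The comparison of `U` with the restriction of the glued lift. -/
noncomputable def compMap : U.left ⟶ ((EtCoh.bc i).obj (liftScheme i U)).left :=
  (liftCover i U).glueMorphisms (fun O => (piece i U O).left) (piece_compat i U)

lemma ι_compMap (O : LiftIdx i U) : O.1.ι ≫ compMap i U = (piece i U O).left :=
  (liftCover i U).ι_glueMorphisms _ _ O

lemma compMap_w : compMap i U ≫ ((EtCoh.bc i).obj (liftScheme i U)).hom = U.hom :=
  (liftCover i U).hom_ext _ _ fun O => by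
    change O.1.ι ≫ _ = O.1.ι ≫ _
    rw [← Category.assoc, ι_compMap]
    exact MorphismProperty.Over.w (piece i U O)

lemma compMap_toU (O : LiftIdx i U) (z : ((EtCoh.bc i).obj (liftObj i U O)).left) :
    compMap i U (toU i U O z) = ((EtCoh.bc i).map (liftι i U O)).left z := by
  have h : toU i U O ≫ compMap i U = ((EtCoh.bc i).map (liftι i U O)).left := by
    have : toU i U O = (liftIso i U O).hom.left ≫ O.1.ι := rfl
    rw [this]
    refine (Category.assoc _ _ _).trans ?_
    refine (congrArg ((liftIso i U O).hom.left ≫ ·) (ι_compMap i U O)).trans ?_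
    exact congrArg (fun t => t.left) (Iso.hom_inv_id_assoc (liftIso i U O) _)
  exact (Scheme.Hom.comp_apply _ _ _).symm.trans
    (congrArg (fun m : ((EtCoh.bc i).obj (liftObj i U O)).left ⟶
      ((EtCoh.bc i).obj (liftScheme i U)).left => m z) h)

lemma exists_toU (x : U.left) : ∃ (O : LiftIdx i U) (z : _), toU i U O z = x := by
  obtain ⟨O, hx, hO⟩ := exists_liftable (i := i) (U := U) x
  exact ⟨⟨O, hO⟩, (range_toU i U ⟨O, hO⟩).symm.subset hx⟩

lemma bijective_compMap : Function.Bijective (compMap i U) := by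
  constructor
  · intro x x' h
    obtain ⟨O, z, rfl⟩ := exists_toU i U x
    obtain ⟨O', z', rfl⟩ := exists_toU i U x'
    rw [compMap_toU, compMap_toU] at h
    have h' := congrArg (bcFst i (liftScheme i U)) h
    rw [bcFst_point, bcFst_point] at h'
    obtain ⟨D, f, f', w, hw, hw'⟩ := (Scheme.IsLocallyDirected.ι_eq_ι_iff (liftDiag i U)).1 h'
    obtain ⟨v, rfl⟩ := (bijective_bcFst i (liftObj i U D)).2 w
    have e : ((EtCoh.bc i).map ((liftFunctor i U).map f)).left v = z :=
      (bijective_bcFst i _).1 ((bcFst_point i _ v).trans hw)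
    have e' : ((EtCoh.bc i).map ((liftFunctor i U).map f')).left v = z' :=
      (bijective_bcFst i _).1 ((bcFst_point i _ v).trans hw')
    rw [← e, ← e', toU_point, toU_point]
  · intro y
    obtain ⟨O, w, hw⟩ := Scheme.IsLocallyDirected.ι_jointly_surjective (liftDiag i U)
      (bcFst i (liftScheme i U) y)
    obtain ⟨z, rfl⟩ := (bijective_bcFst i (liftObj i U O)).2 w
    refine ⟨toU i U O z, (bijective_bcFst i _).1 ?_⟩
    rw [compMap_toU, bcFst_point]
    exact hw

/-- The restriction of the glued lift is `U`. -/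
lemma nonempty_iso_liftScheme : Nonempty ((EtCoh.bc i).obj (liftScheme i U) ≅ U) := by
  let c : U ⟶ (EtCoh.bc i).obj (liftScheme i U) :=
    MorphismProperty.Over.homMk (compMap i U) (compMap_w i U)
  have hat : AlgebraicGeometry.Etale (compMap i U) := etale_left c
  have ho : Topology.IsOpenEmbedding (compMap i U) :=
    .of_continuous_injective_isOpenMap (compMap i U).continuous (bijective_compMap i U).1
      (compMap i U).isOpenMap
  have hst : ∀ x, IsIso ((compMap i U).stalkMap x) := fun x => by
    obtain ⟨O, hx, hO⟩ := exists_liftable (i := i) (U := U) x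
    let O' : LiftIdx i U := ⟨O, hO⟩
    let x' : O'.1.toScheme := ⟨x, hx⟩
    have hp : IsOpenImmersion (O'.1.ι ≫ compMap i U) := by
      rw [ι_compMap]; exact isOpenImmersion_piece i U O'
    have hι : IsOpenImmersion O'.1.ι := inferInstance
    have h1 : IsIso ((O'.1.ι ≫ compMap i U).stalkMap x') :=
      (IsOpenImmersion.iff_isIso_stalkMap.1 hp).2 x'
    have h2 : IsIso (O'.1.ι.stalkMap x') := (IsOpenImmersion.iff_isIso_stalkMap.1 hι).2 x'
    have h3 : IsIso ((compMap i U).stalkMap (O'.1.ι x') ≫ O'.1.ι.stalkMap x') :=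
      Scheme.Hom.stalkMap_comp O'.1.ι (compMap i U) x' ▸ h1
    exact @IsIso.of_isIso_comp_right _ _ _ _ _ ((compMap i U).stalkMap (O'.1.ι x'))
      (O'.1.ι.stalkMap x') h2 h3
  have hoi : IsOpenImmersion (compMap i U) := IsOpenImmersion.of_isIso_stalkMap _ ho
  have : IsIso c.left :=
    (isIso_iff_isOpenImmersion_and_epi_base (compMap i U)).2
      ⟨hoi, (TopCat.epi_iff_surjective _).2 (bijective_compMap i U).2⟩
  have : IsIso ((Scheme.Etale.forget X).map c) :=
    @isIso_of_reflects_iso _ _ _ _ _ _ ((Scheme.Etale.forget X).map c) (Over.forget X) this _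
  have : IsIso c := isIso_of_reflects_iso c (Scheme.Etale.forget X)
  exact ⟨(asIso c).symm⟩

/-- Topological invariance of the small etale site. -/
lemma isEquivalence_bc : (EtCoh.bc i).IsEquivalence where
  faithful := bc_faithful i
  full := bc_full i
  essSurj := ⟨fun U => ⟨liftScheme i U, nonempty_iso_liftScheme i U⟩⟩

end

end Groth.Agent.EtStalk
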