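import Groth.Agent.Lib.EtStalk.ExtSheaf
import Groth.Agent.Lib.EtSite.Sheaf
import Mathlib.Algebra.Category.Grp.Adjunctions

/-!
# Restriction maps of injective sheaves and sections as morphisms
-/

universe u

open CategoryTheory CategoryTheory.Limits AlgebraicGeometry Opposite

namespace Groth.Agent.EtStalk

section Presheaf

variable {C : Type*} [Category.{u} C] (P : Cᵒᵖ ⥤ AddCommGrpCat.{u + 1}) [Injective P]

/-- Restriction along a monomorphism is surjective for an injective presheaf. -/
lemma surjective_map_of_injective_presheaf {U V : C} (g : V ⟶ U) [Mono g] :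
    Function.Surjective (P.map g.op) := by
  intro s
  let L : C ⥤ (Cᵒᵖ ⥤ AddCommGrpCat.{u + 1}) :=
    yoneda ⋙ (Functor.whiskeringRight _ _ _).obj (uliftFunctor.{u + 1} ⋙ AddCommGrpCat.free)
  let e : ∀ W, (L.obj W ⟶ P) → P.obj (op W) := fun W φ =>
    φ.app (op W) (FreeAbelianGroup.of (ULift.up (𝟙 W)))
  have he : ∀ W (s : P.obj (op W)), ∃ φ, e W φ = s := fun W s =>
    ⟨{ app := fun T => AddCommGrpCat.ofHom (X := (L.obj W).obj T)
          (FreeAbelianGroup.lift fun h : ULift.{u + 1} (T.unop ⟶ W) => P.map h.down.op s)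
       naturality := fun T T' a => by
        refine AddCommGrpCat.hom_ext (FreeAbelianGroup.lift_ext _ _ fun h => ?_)
        change FreeAbelianGroup.lift _ (FreeAbelianGroup.map _ (FreeAbelianGroup.of h)) =
          P.map a (FreeAbelianGroup.lift _ (FreeAbelianGroup.of h))
        rw [FreeAbelianGroup.map_of_apply, FreeAbelianGroup.lift_apply_of,
          FreeAbelianGroup.lift_apply_of]
        exact Functor.map_comp_apply P h.down.op a s },
      by
        change FreeAbelianGroup.lift (fun h : ULift.{u + 1} (W ⟶ W) => P.map h.down.op s)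
          (FreeAbelianGroup.of (ULift.up (𝟙 W))) = s
        rw [FreeAbelianGroup.lift_apply_of]
        exact (ConcreteCategory.congr_hom (P.map_id (op W)) s).trans rfl⟩
  have : Mono (L.map g) := by
    refine (NatTrans.mono_iff_mono_app _).2 fun T => ?_
    have : Mono (uliftFunctor.{u + 1}.map ((yoneda.map g).app T)) := by
      rw [mono_iff_injective]
      rintro ⟨a⟩ ⟨b⟩ h
      exact congrArg ULift.up ((cancel_mono g).1 (congrArg ULift.down h))
    exact inferInstanceAs (Mono (AddCommGrpCat.free.map (uliftFunctor.{u + 1}.map ((yoneda.map g).app T))))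
  obtain ⟨φ, rfl⟩ := he V s
  let ψ := Injective.factorThru φ (L.map g)
  have hψ : L.map g ≫ ψ = φ := Injective.comp_factorThru _ _
  refine ⟨e U ψ, ?_⟩
  refine (NatTrans.naturality_apply ψ g.op _).symm.trans ?_
  refine Eq.trans ?_ (congrArg (fun t : L.obj V ⟶ P => e V t) hψ)
  change ψ.app (op V) (FreeAbelianGroup.map _ (FreeAbelianGroup.of (ULift.up (𝟙 U)))) =
    ψ.app (op V) (FreeAbelianGroup.map _ (FreeAbelianGroup.of (ULift.up (𝟙 V))))
  rw [FreeAbelianGroup.map_of_apply, FreeAbelianGroup.map_of_apply]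
  refine congrArg (fun m => ψ.app (op V) (FreeAbelianGroup.of (ULift.up m))) ?_
  exact (Category.comp_id g).trans (Category.id_comp g).symm

end Presheaf

/-- Restriction along a monomorphism is surjective for an injective sheaf. -/
lemma surjective_map_of_injective {X : Scheme.{u}} (I : EtCoh.Ab X) [Injective I] {U V : X.Etale}
    (g : V ⟶ U) [Mono g] : Function.Surjective (I.obj.map g.op) :=
  haveI : Injective I.obj :=
    Injective.injective_of_adjoint (sheafificationAdjunction _ _) I
  surjective_map_of_injective_presheaf I.obj g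

section Sections

variable {U X : Scheme.{u}} (j : U ⟶ X) [Etale j]

/-- Maps out of the extension by zero of the constants are sections. -/
noncomputable def secOf (G : EtCoh.Ab X) (φ : zExt j ⟶ G) :
    G.obj.obj (op ((EtShriek.compEtale j).obj (EtCoh.top U))) :=
  ((EtShriek.extZeroAdj j).homEquiv _ _ φ).hom.app (op (EtCoh.top U)) (oneSec U)

lemma secOf_comp {G G' : EtCoh.Ab X} (φ : zExt j ⟶ G) (a : G ⟶ G') :
    secOf j G' (φ ≫ a) = a.hom.app _ (secOf j G φ) := by
  rw [secOf, Adjunction.homEquiv_naturality_right]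
  rfl

lemma secOf_surjective (G : EtCoh.Ab X) : Function.Surjective (secOf j G) := fun s => by
  let t : AddCommGrpCat.of (ULift.{u + 1} ℤ) ⟶
      (EtCore.gsec U).obj ((EtShriek.restrAlong j).obj G) :=
    (AddCommGrpCat.uliftZMultiplesAddEquiv _).symm s
  refine ⟨((EtShriek.extZeroAdj j).homEquiv _ _).symm
    (((EtCore.constAdj U).homEquiv _ _).symm t), ?_⟩
  rw [secOf, Equiv.apply_symm_apply]
  have h := ((EtCore.constAdj U).homEquiv _ _).apply_symm_apply t
  rw [Adjunction.homEquiv_unit] at h
  refine (ConcreteCategory.congr_hom h (ULift.up 1)).trans ?_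
  exact (AddCommGrpCat.uliftZMultiplesAddEquiv _).apply_symm_apply s

/-- If first cohomology over `U` vanishes, sections over `U` of a quotient lift. -/
lemma surjective_sections_of_H_one {S : ShortComplex (EtCoh.Ab X)} (hS : S.ShortExact)
    (h : Subsingleton (EtCoh.H U ((EtCoh.pull j).obj S.X₁) 1)) :
    Function.Surjective (S.g.hom.app (op ((EtShriek.compEtale j).obj (EtCoh.top U)))) := by
  intro q
  obtain ⟨φ, rfl⟩ := secOf_surjective j S.X₃ q
  have h0 : (Abelian.Ext.mk₀ φ).comp hS.extClass (zero_add 1) = 0 :=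
    (extCohEquiv j S.X₁ 1).injective (@Subsingleton.elim _ h _ _)
  obtain ⟨y, hy⟩ := Abelian.Ext.covariant_sequence_exact₃ _ hS (Abelian.Ext.mk₀ φ) (zero_add 1) h0
  obtain ⟨ψ, rfl⟩ := (Abelian.Ext.mk₀_bijective _ _).2 y
  rw [Abelian.Ext.mk₀_comp_mk₀] at hy
  exact ⟨secOf j S.X₂ ψ, by rw [← secOf_comp, (Abelian.Ext.mk₀_bijective _ _).1 hy]⟩

end Sections

end Groth.Agent.EtStalk
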