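import Groth.Agent.Lib.EtStalk.ExtZero
import Groth.Agent.Lib.EtStalk.JCont
import Mathlib.CategoryTheory.Adjunction.Triple

/-!
# Open immersions: unit of extension by zero, counit of direct image, stalks
-/

universe u

open CategoryTheory CategoryTheory.Limits AlgebraicGeometry Opposite

namespace Groth.Agent.EtStalk

variable {U X : Scheme.{u}} (j : U ⟶ X) [IsOpenImmersion j] [AlgebraicGeometry.Etale j]
  [EtShriek.JCont j]

lemma isIso_restrPush_counit : IsIso (restrPushAdj j).counit := by
  have hu : IsIso (compBcAdj j).unit := inferInstance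
  rw [NatTrans.isIso_iff_isIso_app]
  intro F
  suffices IsIso ((sheafToPresheaf _ _).map ((restrPushAdj j).counit.app F)) from
    isIso_of_reflects_iso _ (sheafToPresheaf _ _)
  rw [NatTrans.isIso_iff_isIso_app]
  intro V
  have : IsIso ((compBcAdj j).unit.app V.unop).op := inferInstance
  exact inferInstanceAs (IsIso (F.obj.map ((compBcAdj j).unit.app V.unop).op))

/-- Direct image along an open immersion is fully faithful. -/
noncomputable def fullyFaithful_push : (EtCoh.push j).FullyFaithful :=
  have := isIso_restrPush_counit j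
  (restrPushAdj j).fullyFaithfulROfIsIsoCounit

instance isIso_pullPush_counit : IsIso (EtCoh.pullPushAdj j).counit := by
  have := (fullyFaithful_push j).full
  have := (fullyFaithful_push j).faithful
  infer_instance

instance isIso_extZero_unit : IsIso (EtShriek.extZeroAdj j).unit := by
  let t : CategoryTheory.Adjunction.Triple (EtShriek.extZero j) (EtShriek.restrAlong j) (EtCoh.push j) :=
    ⟨EtShriek.extZeroAdj j, restrPushAdj j⟩
  let h := t.fullyFaithfulEquiv.symm (fullyFaithful_push j)
  have := h.full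
  have := h.faithful
  exact Adjunction.unit_isIso_of_L_fully_faithful _

variable {Ω : Type u} [Field Ω] [IsSepClosed Ω]

omit [AlgebraicGeometry.Etale j] [EtShriek.JCont j] in
lemma exists_lift_point_open (ξ : Spec (CommRingCat.of Ω) ⟶ X)
    (h : ξ (default : Spec (CommRingCat.of Ω)) ∈ Set.range j) :
    ∃ ζ : Spec (CommRingCat.of Ω) ⟶ U, ζ ≫ j = ξ := by
  refine ⟨IsOpenImmersion.lift j ξ ?_, IsOpenImmersion.lift_fac _ _ _⟩
  rintro _ ⟨a, rfl⟩
  rwa [Subsingleton.elim a default]

/-- An extension by zero has zero stalks outside. -/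
lemma stalk_extZero_isZero (F : EtCoh.Ab U) (ξ : Spec (CommRingCat.of Ω) ⟶ X)
    (h : ξ (default : Spec (CommRingCat.of Ω)) ∉ Set.range j) :
    IsZero ((EtCoh.stalk ξ).obj ((EtShriek.extZero j).obj F)) := by
  have : IsEmpty (lifts j ξ) := ⟨fun p => h ⟨p.1 default, by
    rw [← Scheme.Hom.comp_apply, p.2]⟩⟩
  refine IsZero.of_iso ?_ (stalkExtZero j ξ F).symm
  rw [IsZero.iff_id_eq_zero]
  exact Sigma.hom_ext _ _ fun p => isEmptyElim p

/-- The stalk of the counit of extension by zero is an isomorphism at points of the open. -/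
lemma isIso_stalk_counit (G : EtCoh.Ab X) (ζ : Spec (CommRingCat.of Ω) ⟶ U) :
    IsIso ((EtCoh.stalk (ζ ≫ j)).map ((EtShriek.extZeroAdj j).counit.app G)) := by
  have h1 : IsIso ((EtShriek.restrAlong j).map ((EtShriek.extZeroAdj j).counit.app G)) := by
    have h := (EtShriek.extZeroAdj j).right_triangle_components G
    have h2 : IsIso ((EtShriek.extZeroAdj j).unit.app ((EtShriek.restrAlong j).obj G) ≫
        (EtShriek.restrAlong j).map ((EtShriek.extZeroAdj j).counit.app G)) := by
      rw [h]; exact IsIso.id _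
    exact IsIso.of_isIso_comp_left ((EtShriek.extZeroAdj j).unit.app ((EtShriek.restrAlong j).obj G)) _
  have h3 : IsIso ((EtCoh.pull j).map ((EtShriek.extZeroAdj j).counit.app G)) :=
    (NatIso.isIso_map_iff (restrPullIso j) _).1 h1
  rw [show (EtCoh.stalk (ζ ≫ j)).map ((EtShriek.extZeroAdj j).counit.app G) =
      stalkPull j ζ _ ≫ (EtCoh.stalk ζ).map ((EtCoh.pull j).map ((EtShriek.extZeroAdj j).counit.app G)) ≫
        inv (stalkPull j ζ G) by rw [← Category.assoc, IsIso.eq_comp_inv, stalkPull_nat]; rfl]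
  infer_instance

/-- A sheaf vanishing outside the open is the extension by zero of its restriction. -/
lemma isIso_extZero_counit (G : EtCoh.Ab X)
    (hzero : ∀ (Ω : Type u) [Field Ω] [IsSepClosed Ω] (ξ : Spec (CommRingCat.of Ω) ⟶ X),
      ξ (default : Spec (CommRingCat.of Ω)) ∉ Set.range j → IsZero ((EtCoh.stalk ξ).obj G)) :
    IsIso ((EtShriek.extZeroAdj j).counit.app G) := by
  rw [isIso_iff_stalk]
  intro Ω _ _ ξ
  by_cases h : ξ (default : Spec (CommRingCat.of Ω)) ∈ Set.range j
  · obtain ⟨ζ, rfl⟩ := exists_lift_point_open j ξ h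
    exact (ConcreteCategory.isIso_iff_bijective _).1 (isIso_stalk_counit j G ζ)
  · have h1 := AddCommGrpCat.subsingleton_of_isZero
      (stalk_extZero_isZero j ((EtShriek.restrAlong j).obj G) ξ h)
    have h2 := AddCommGrpCat.subsingleton_of_isZero (hzero Ω ξ h)
    exact ⟨fun a b _ => @Subsingleton.elim _ h1 a b, fun b => ⟨0, @Subsingleton.elim _ h2 _ _⟩⟩

end Groth.Agent.EtStalk
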