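import Groth.Prelude.Def_EtBase
import Groth.Agent.Lib.EtSite.Sheaf
import Mathlib.Algebra.Category.Grp.AB
import Mathlib.Algebra.Category.Grp.FilteredColimits
import Mathlib.Algebra.Category.Grp.EpiMono
import Mathlib.Algebra.Homology.ShortComplex.ConcreteCategory
import Mathlib.CategoryTheory.Sites.EpiMono

/-!
# Stalks of abelian sheaves on the small etale site

Exactness of stalk functors and the criteria "mono / epi / iso / zero / exact can be tested on
stalks at geometric points".
-/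

universe u

open CategoryTheory CategoryTheory.Limits AlgebraicGeometry Opposite
open scoped ZeroObject

namespace Groth.Agent.EtStalk

noncomputable instance ab5OfSizeAddCommGrp : AB5OfSize.{u, u} AddCommGrpCat.{u + 1} :=
  AB5OfSize_shrink.{u, u, u + 1, u + 1} _

noncomputable instance preservesFilteredColimitsForget :
    PreservesFilteredColimitsOfSize.{u, u} (forget AddCommGrpCat.{u + 1}) :=
  preservesFilteredColimitsOfSize_shrink.{u, u + 1, u, u + 1} _

variable {X : Scheme.{u}}

section Point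

variable {Ω : Type u} [Field Ω] [IsSepClosed Ω] (ξ : Spec (CommRingCat.of Ω) ⟶ X)

/-- The fibre of an etale `X`-scheme at a geometric point. -/
abbrev fib (U : X.Etale) : Type u := (Scheme.pointSmallEtale ξ).fiber.obj U

/-- The germ of a section at a geometric point of an etale `X`-scheme. -/
noncomputable def germ (F : EtCoh.Ab X) {U : X.Etale} (x : fib ξ U) :
    F.obj.obj (op U) ⟶ (EtCoh.stalk ξ).obj F :=
  (Scheme.pointSmallEtale ξ).toPresheafFiber U x F.obj

lemma germ_map (F : EtCoh.Ab X) {U V : X.Etale} (g : V ⟶ U) (y : fib ξ V) (s : F.obj.obj (op U)) :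
    germ ξ F y (F.obj.map g.op s) = germ ξ F ((Scheme.pointSmallEtale ξ).fiber.map g y) s :=
  GrothendieckTopology.Point.toPresheafFiber_w_apply _ g y F.obj s

lemma germ_nat {F G : EtCoh.Ab X} (a : F ⟶ G) {U : X.Etale} (x : fib ξ U) (s : F.obj.obj (op U)) :
    (EtCoh.stalk ξ).map a (germ ξ F x s) = germ ξ G x (a.hom.app (op U) s) :=
  GrothendieckTopology.Point.toPresheafFiber_naturality_apply _ a.hom U x s

lemma germ_surjective (F : EtCoh.Ab X) (p : (EtCoh.stalk ξ).obj F) :
    ∃ (U : X.Etale) (x : fib ξ U) (s : F.obj.obj (op U)), germ ξ F x s = p :=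
  GrothendieckTopology.Point.toPresheafFiber_jointly_surjective (Scheme.pointSmallEtale ξ)
    (P := F.obj) p

lemma germ_eq_iff (F : EtCoh.Ab X) {U : X.Etale} (x : fib ξ U) (s t : F.obj.obj (op U)) :
    germ ξ F x s = germ ξ F x t ↔ ∃ (V : X.Etale) (g : V ⟶ U) (y : fib ξ V),
      (Scheme.pointSmallEtale ξ).fiber.map g y = x ∧ F.obj.map g.op s = F.obj.map g.op t :=
  GrothendieckTopology.Point.toPresheafFiber_eq_iff' (Scheme.pointSmallEtale ξ) U x s t

end Point

/-- The geometric point given by a separable closure of the residue field at `x`. -/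
noncomputable def geomPt (X : Scheme.{u}) (x : X) :
    Spec (CommRingCat.of (SeparableClosure (X.residueField x))) ⟶ X :=
  Spec.map (CommRingCat.ofHom (algebraMap (X.residueField x) (SeparableClosure (X.residueField x)))) ≫
    X.fromSpecResidueField x

lemma geomPt_default (x : X) : geomPt X x default = x := by
  rw [geomPt, Scheme.Hom.comp_apply]
  exact Scheme.fromSpecResidueField_apply _ _

/-- Over every point of an etale `X`-scheme there is a geometric point in the fibre. -/
lemma exists_fib (U : X.Etale) (x : U.left) :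
    ∃ φ : fib (geomPt X (U.hom x)) U,
      φ.left (default : Spec (CommRingCat.of (SeparableClosure (X.residueField (U.hom x))))) = x := by
  obtain ⟨φ, hφ⟩ := Scheme.pointSmallEtaleFiberObjToPreimage_surjective (geomPt X (U.hom x))
    (geomPt_default (U.hom x)) U ⟨x, rfl⟩
  exact ⟨φ, congrArg Subtype.val hφ⟩

/-- To check a sieve covers it suffices to hit the fibre of every geometric point. -/
lemma mem_of_fib (U : X.Etale) (R : Sieve U)
    (h : ∀ (Ω : Type u) [Field Ω] [IsSepClosed Ω] (ξ : Spec (CommRingCat.of Ω) ⟶ X) (x : fib ξ U),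
      ∃ (V : X.Etale) (g : V ⟶ U) (_ : R g) (y : fib ξ V),
        (Scheme.pointSmallEtale ξ).fiber.map g y = x) :
    R ∈ Scheme.smallEtaleTopology X U := by
  rw [EtSite.mem_et_iff]
  intro x
  obtain ⟨φ, hφ⟩ := exists_fib U x
  obtain ⟨V, g, hg, y, hy⟩ := h _ _ φ
  refine ⟨V, g, y.left (default : Spec (CommRingCat.of (SeparableClosure (X.residueField (U.hom x))))), hg, ?_⟩
  refine Eq.trans ?_ hφ
  exact congrArg (fun t : fib (geomPt X (U.hom x)) U => t.left (default :
    Spec (CommRingCat.of (SeparableClosure (X.residueField (U.hom x)))))) hy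

lemma mono_iff_app_injective {F G : EtCoh.Ab X} (a : F ⟶ G) :
    Mono a ↔ ∀ U, Function.Injective (a.hom.app U) := by
  constructor
  · intro h U
    have : Mono a.hom := inferInstanceAs (Mono ((sheafToPresheaf _ _).map a))
    exact (AddCommGrpCat.mono_iff_injective _).1 ((NatTrans.mono_iff_mono_app a.hom).1 this U)
  · intro h
    refine (sheafToPresheaf _ _).mono_of_mono_map ?_
    exact (NatTrans.mono_iff_mono_app _).2 fun U => (AddCommGrpCat.mono_iff_injective _).2 (h U)

/-- Two sections with equal germs at all geometric points are equal. -/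
lemma ext_germ {F : EtCoh.Ab X} {U : X.Etale} (s t : F.obj.obj (op U))
    (h : ∀ (Ω : Type u) [Field Ω] [IsSepClosed Ω] (ξ : Spec (CommRingCat.of Ω) ⟶ X) (x : fib ξ U),
      germ ξ F x s = germ ξ F x t) : s = t := by
  have hS : Presheaf.equalizerSieve (F := F.obj) s t ∈ Scheme.smallEtaleTopology X U := by
    refine mem_of_fib U _ fun Ω _ _ ξ x => ?_
    obtain ⟨V, g, y, hy, he⟩ := (germ_eq_iff ξ F x s t).1 (h Ω ξ x)
    exact ⟨V, g, he, y, hy⟩
  exact (((isSheaf_iff_isSheaf_of_type _ _).1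
    ((Presheaf.isSheaf_iff_isSheaf_forget _ F.obj (forget _)).1 F.property) _ hS).isSeparatedFor.ext
      fun V g hg => hg)

lemma mono_iff_stalk {F G : EtCoh.Ab X} (a : F ⟶ G) :
    Mono a ↔ ∀ (Ω : Type u) [Field Ω] [IsSepClosed Ω] (ξ : Spec (CommRingCat.of Ω) ⟶ X),
      Function.Injective ((EtCoh.stalk ξ).map a) := by
  constructor
  · intro h Ω _ _ ξ
    exact (AddCommGrpCat.mono_iff_injective _).1 inferInstance
  · intro h
    rw [mono_iff_app_injective]
    intro U s t hst
    obtain ⟨U⟩ := U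
    refine ext_germ s t fun Ω _ _ ξ x => h Ω ξ ?_
    rw [germ_nat, germ_nat, hst]

lemma epi_iff_stalk {F G : EtCoh.Ab X} (a : F ⟶ G) :
    Epi a ↔ ∀ (Ω : Type u) [Field Ω] [IsSepClosed Ω] (ξ : Spec (CommRingCat.of Ω) ⟶ X),
      Function.Surjective ((EtCoh.stalk ξ).map a) := by
  constructor
  · intro h Ω _ _ ξ
    exact (AddCommGrpCat.epi_iff_surjective _).1 inferInstance
  · intro h
    rw [← Sheaf.isLocallySurjective_iff_epi']
    refine ⟨fun {U} s => mem_of_fib U _ fun Ω _ _ ξ x => ?_⟩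
    obtain ⟨q, hq⟩ := h Ω ξ (germ ξ G x s)
    obtain ⟨V, y, t, rfl⟩ := germ_surjective ξ F q
    rw [germ_nat] at hq
    -- compare on a common refinement
    obtain ⟨⟨W, z⟩, ⟨gV, hgV⟩, ⟨gU, hgU⟩, -⟩ :=
      IsCofilteredOrEmpty.cone_objs (C := (Scheme.pointSmallEtale ξ).fiber.Elements) ⟨V, y⟩ ⟨U, x⟩
    dsimp at hgV hgU
    rw [← hgV, ← germ_map, ← hgU, ← germ_map, germ_eq_iff] at hq
    obtain ⟨W', g', z', hz', he⟩ := hq
    refine ⟨W', g' ≫ gU, ⟨F.obj.map (g' ≫ gV).op t, ?_⟩, z', ?_⟩
    · rw [op_comp, F.obj.map_comp, ConcreteCategory.comp_apply]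
      rw [← ConcreteCategory.comp_apply, ← ConcreteCategory.comp_apply, a.hom.naturality,
        a.hom.naturality_assoc, ConcreteCategory.comp_apply, ConcreteCategory.comp_apply]
      simpa [op_comp] using he
    · rw [← hgU, ← hz', Functor.map_comp]
      rfl

lemma isZero_iff_stalk (F : EtCoh.Ab X) :
    IsZero F ↔ ∀ (Ω : Type u) [Field Ω] [IsSepClosed Ω] (ξ : Spec (CommRingCat.of Ω) ⟶ X),
      IsZero ((EtCoh.stalk ξ).obj F) := by
  constructor
  · intro h Ω _ _ ξ
    exact (EtCoh.stalk ξ).map_isZero h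
  · intro h
    have : Mono (0 : F ⟶ 0) := by
      rw [mono_iff_stalk]
      intro Ω _ _ ξ
      have := AddCommGrpCat.subsingleton_of_isZero (h Ω ξ)
      exact Function.injective_of_subsingleton _
    exact IsZero.of_mono_zero F 0

lemma isIso_iff_stalk {F G : EtCoh.Ab X} (a : F ⟶ G) :
    IsIso a ↔ ∀ (Ω : Type u) [Field Ω] [IsSepClosed Ω] (ξ : Spec (CommRingCat.of Ω) ⟶ X),
      Function.Bijective ((EtCoh.stalk ξ).map a) := by
  rw [isIso_iff_mono_and_epi, mono_iff_stalk, epi_iff_stalk]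
  exact ⟨fun h Ω _ _ ξ => ⟨h.1 Ω ξ, h.2 Ω ξ⟩,
    fun h => ⟨fun Ω _ _ ξ => (h Ω ξ).1, fun Ω _ _ ξ => (h Ω ξ).2⟩⟩

lemma exact_iff_stalk (S : ShortComplex (EtCoh.Ab X)) :
    S.Exact ↔ ∀ (Ω : Type u) [Field Ω] [IsSepClosed Ω] (ξ : Spec (CommRingCat.of Ω) ⟶ X),
      (S.map (EtCoh.stalk ξ)).Exact := by
  constructor
  · intro h Ω _ _ ξ
    exact h.map (EtCoh.stalk ξ)
  · intro h
    rw [ShortComplex.exact_iff_isZero_homology, isZero_iff_stalk]
    intro Ω _ _ ξ
    exact ((ShortComplex.exact_iff_isZero_homology _).1 (h Ω ξ)).of_iso (S.mapHomologyIso (EtCoh.stalk ξ)).symm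

end Groth.Agent.EtStalk
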