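import Groth.Agent.Lib.EtStalk.FiniteSplit
import Groth.Agent.Lib.EtStalk.Agree
import Groth.Agent.Lib.EtSite.Sheaf

/-!
# Refinements of etale neighbourhoods along finite morphisms
-/

universe u

open CategoryTheory CategoryTheory.Limits AlgebraicGeometry Opposite
open Groth.Agent.Weight

namespace Groth.Agent.EtStalk

section

variable {X Y : Scheme.{u}} (f : X ⟶ Y) {Ω : Type u} [Field Ω] [IsAlgClosed Ω]
  (η : Spec (CommRingCat.of Ω) ⟶ Y)

/-- The geometric points over a geometric point. -/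
abbrev fLifts : Type u := {ξ : Spec (CommRingCat.of Ω) ⟶ X // ξ ≫ f = η}

/-- The element of a fibre of a base change at a point over `η`. -/
noncomputable def liftAt {W : Y.Etale} (w : fib η W) (l : fLifts f η) :
    fib l.1 ((EtCoh.bc f).obj W) :=
  Over.homMk (pullback.lift w.left l.1 ((Over.w w).trans l.2.symm)) (pullback.lift_snd _ _ _)

lemma liftAt_left_fst {W : Y.Etale} (w : fib η W) (l : fLifts f η) :
    (liftAt f η w l).left ≫ bcFst f W = w.left := pullback.lift_fst _ _ _

set_option backward.isDefEq.respectTransparency.types false in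
lemma liftAt_map {U W : Y.Etale} (g : U ⟶ W) (u : fib η U) (l : fLifts f η) :
    (Scheme.pointSmallEtale l.1).fiber.map ((EtCoh.bc f).map g) (liftAt f η u l) =
      liftAt f η ((Scheme.pointSmallEtale η).fiber.map g u) l := by
  refine Over.OverMorphism.ext (pullback.hom_ext ?_ ?_)
  · refine (Category.assoc _ _ _).trans ((congrArg ((liftAt f η u l).left ≫ ·) (bcFst_nat f g)).trans ?_)
    exact (Category.assoc _ _ _).symm.trans ((congrArg (· ≫ g.left) (liftAt_left_fst f η u l)).trans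
      (liftAt_left_fst f η ((Scheme.pointSmallEtale η).fiber.map g u) l).symm)
  · exact (Over.w _).trans (Over.w (liftAt f η ((Scheme.pointSmallEtale η).fiber.map g u) l)).symm

set_option backward.isDefEq.respectTransparency.types false in
/-- Compatible etale neighbourhoods of all points over a geometric point are dominated by an
etale neighbourhood of that point. -/
theorem exists_refinement [IsFinite f] {W : Y.Etale} (w : fib η W) (V : fLifts f η → X.Etale)
    (m : ∀ l, V l ⟶ (EtCoh.bc f).obj W) (c : ∀ l, fib l.1 (V l))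
    (hc : ∀ l, (Scheme.pointSmallEtale l.1).fiber.map (m l) (c l) = liftAt f η w l) :
    ∃ (U : Y.Etale) (g : U ⟶ W) (u : fib η U)
      (P : fLifts f η → ((EtCoh.bc f).obj U).left.Opens)
      (σ : ∀ l, EtSite.sub ((EtCoh.bc f).obj U) (P l) ⟶ V l),
      (Scheme.pointSmallEtale η).fiber.map g u = w ∧ (∀ z, ∃! l, z ∈ P l) ∧
      (∀ l, σ l ≫ m l = EtSite.subHom _ (P l) ≫ (EtCoh.bc f).map g) ∧
      ∀ l, ∃ b : fib l.1 (EtSite.sub ((EtCoh.bc f).obj U) (P l)),
        (Scheme.pointSmallEtale l.1).fiber.map (EtSite.subHom _ (P l)) b = liftAt f η u l ∧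
        (Scheme.pointSmallEtale l.1).fiber.map (σ l) b = c l := by
  classical
  let wl : Spec (CommRingCat.of Ω) ⟶ W.left := w.left
  have hwl : wl ≫ W.hom = η := Over.w w
  have : IsFinite (bcFst f W) := inferInstanceAs (IsFinite (pullback.fst W.hom f))
  obtain ⟨U₀, g₀, ū₀, P₀, hg₀, hū₀, hpart, hP₀⟩ := FiniteSplit.exists_parts (bcFst f W) wl
  let E : fLifts f η → {a : Spec (CommRingCat.of Ω) ⟶ ((EtCoh.bc f).obj W).left // a ≫ bcFst f W = wl} :=
    fun l => ⟨(liftAt f η w l).left, liftAt_left_fst f η w l⟩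
  have hEi : Function.Injective E := fun l l' h => by
    refine Subtype.ext ?_
    have h1 : (liftAt f η w l).left ≫ pullback.snd W.hom f =
        (liftAt f η w l').left ≫ pullback.snd W.hom f :=
      congrArg (fun a => a.1 ≫ pullback.snd W.hom f) h
    exact ((pullback.lift_snd _ _ _).symm.trans h1).trans (pullback.lift_snd _ _ _)
  have hEs : Function.Surjective E := fun a => by
    have ha : (a.1 ≫ pullback.snd W.hom f) ≫ f = η :=
      (Category.assoc _ _ _).trans ((congrArg (a.1 ≫ ·) pullback.condition.symm).trans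
        ((Category.assoc _ _ _).symm.trans ((congrArg (· ≫ W.hom) a.2).trans hwl)))
    refine ⟨⟨_, ha⟩, Subtype.ext (pullback.hom_ext ((liftAt_left_fst f η w _).trans a.2.symm) ?_)⟩
    exact pullback.lift_snd _ _ _
  have hclosed : ∀ l, IsClosed (P₀ l : Set (pullback (bcFst f W) g₀ : Scheme.{u})) := fun l => by
    have h : (P₀ l : Set (pullback (bcFst f W) g₀ : Scheme.{u}))ᶜ =
        ⋃ l' : {l' // l' ≠ l}, (P₀ l'.1 : Set (pullback (bcFst f W) g₀ : Scheme.{u})) := by
      ext z
      obtain ⟨l₁, h₁, h₂⟩ := hpart z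
      refine ⟨fun hz => Set.mem_iUnion.2 ⟨⟨l₁, fun (e : l₁ = l) => hz (e ▸ h₁)⟩, h₁⟩,
        fun h hz => ?_⟩
      obtain ⟨⟨l', hne⟩, hl'⟩ := Set.mem_iUnion.1 h
      exact hne ((h₂ l' hl').trans (h₂ l hz).symm)
    rw [← isOpen_compl_iff, h]
    exact isOpen_iUnion fun l' => (P₀ l'.1).2
  have : ∀ l, IsClosedImmersion ((P₀ l).ι) := fun l =>
    IsClosedImmersion.of_isPreimmersion _ (by rw [Scheme.Opens.range_ι]; exact hclosed l)
  let p := fun l => (P₀ (E l)).ι ≫ pullback.snd (bcFst f W) g₀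
  let b₀ : ∀ l, Spec (CommRingCat.of Ω) ⟶ pullback (bcFst f W) g₀ := fun l =>
    pullback.lift (E l).1 ū₀ ((E l).2.trans hū₀.symm)
  have hb₀ : ∀ l, pt (b₀ l) ∈ P₀ (E l) := fun l =>
    (hP₀ _ _ (pullback.lift_snd _ _ _)).2 (pullback.lift_fst _ _ _)
  let a : ∀ l, Spec (CommRingCat.of Ω) ⟶ (P₀ (E l) : Scheme.{u}) := fun l =>
    liftOpen _ (b₀ l) (hb₀ l)
  have hap : ∀ l, a l ≫ p l = ū₀ := fun l => by
    simp only [p, a]
    rw [← Category.assoc, liftOpen_ι]
    exact pullback.lift_snd _ _ _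
  have huniq : ∀ l (b : Spec (CommRingCat.of Ω) ⟶ (P₀ (E l) : Scheme.{u})),
      b ≫ p l = a l ≫ p l → b = a l := fun l b hb => by
    rw [hap] at hb
    have h2 : (b ≫ (P₀ (E l)).ι) ≫ pullback.snd (bcFst f W) g₀ = ū₀ := (Category.assoc _ _ _).trans hb
    rw [← cancel_mono (P₀ (E l)).ι, liftOpen_ι]
    exact pullback.hom_ext
      (((hP₀ (E l) _ h2).1 (b (IsLocalRing.closedPoint Ω)).2).trans (pullback.lift_fst _ _ _).symm)
      (h2.trans (pullback.lift_snd _ _ _).symm)
  let r : ∀ l, (P₀ (E l) : Scheme.{u}) ⟶ ((EtCoh.bc f).obj W).left := fun l =>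
    (P₀ (E l)).ι ≫ pullback.fst (bcFst f W) g₀
  have hm : ∀ l, Etale (m l).left := fun l => etale_left (m l)
  let cl : ∀ l, Spec (CommRingCat.of Ω) ⟶ pullback (m l).left (r l) := fun l =>
    pullback.lift (c l).left (a l) (by
      have h1 : (c l).left ≫ (m l).left = (liftAt f η w l).left :=
        congrArg (fun t : fib l.1 ((EtCoh.bc f).obj W) => t.left) (hc l)
      refine h1.trans ?_
      simp only [r, a]
      rw [← Category.assoc, liftOpen_ι]
      exact (pullback.lift_fst _ _ _).symm)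
  have hsec := fun l => FiniteSplit.exists_section (p l) (a l) (huniq l)
    (pullback.snd (m l).left (r l)) (cl l) (pullback.lift_snd _ _ _)
  choose Ul hl ūl σl hhl hūl hσe hσc using hsec
  have hfam : ∀ s : Finset (fLifts f η), ∃ (U₁ : Scheme.{u}) (h : U₁ ⟶ U₀)
      (ū₁ : Spec (CommRingCat.of Ω) ⟶ U₁), Etale h ∧ ū₁ ≫ h = ū₀ ∧
        ∀ l ∈ s, ∃ q : U₁ ⟶ Ul l, q ≫ hl l = h ∧ ū₁ ≫ q = ūl l := by
    intro s
    induction s using Finset.induction with
    | empty => exact ⟨U₀, 𝟙 _, ū₀, inferInstance, Category.comp_id _, fun l hl' => absurd hl' (Finset.notMem_empty l)⟩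
    | insert l₀ s hl₀ ih =>
      obtain ⟨U₁, h, ū₁, hh, hū₁, hq⟩ := ih
      have := hhl l₀
      refine ⟨pullback h (hl l₀), pullback.fst h (hl l₀) ≫ h,
        pullback.lift ū₁ (ūl l₀) (hū₁.trans ((hūl l₀).trans (hap l₀)).symm), inferInstance, ?_, ?_⟩
      · rw [← Category.assoc, pullback.lift_fst, hū₁]
      · intro l hls
        rcases Finset.mem_insert.1 hls with rfl | hls
        · exact ⟨pullback.snd h (hl l), pullback.condition.symm, pullback.lift_snd _ _ _⟩
        · obtain ⟨q, hq₁, hq₂⟩ := hq l hls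
          exact ⟨pullback.fst h (hl l₀) ≫ q, by rw [Category.assoc, hq₁],
            by rw [← Category.assoc, pullback.lift_fst, hq₂]⟩
  have : IsFinite f := inferInstance
  have : Finite (fLifts f η) := FiniteSplit.finite_liftsOfFinite f η
  have := Fintype.ofFinite (fLifts f η)
  obtain ⟨U₁, h, ū₁, hh, hū₁, hq⟩ := hfam Finset.univ
  choose q hq₁ hq₂ using fun l => hq l (Finset.mem_univ l)
  have hW : Etale W.hom := W.prop
  let U : Y.Etale := Scheme.Etale.mk ((h ≫ g₀) ≫ W.hom)
  let g : U ⟶ W := MorphismProperty.Over.homMk (h ≫ g₀) rfl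
  let u : fib η U := Over.homMk ū₁ (by
    change ū₁ ≫ (h ≫ g₀) ≫ W.hom = η
    rw [← Category.assoc, ← Category.assoc ū₁, hū₁, hū₀, hwl])
  have hgu : (Scheme.pointSmallEtale η).fiber.map g u = w := Over.OverMorphism.ext (by
    change ū₁ ≫ h ≫ g₀ = wl
    rw [← Category.assoc, hū₁, hū₀])
  let κ : ((EtCoh.bc f).obj U).left ⟶ pullback (bcFst f W) g₀ :=
    pullback.lift ((EtCoh.bc f).map g).left (bcFst f U ≫ h)
      ((bcFst_nat f g).trans (Category.assoc _ _ _).symm)
  let P : fLifts f η → ((EtCoh.bc f).obj U).left.Opens := fun l => κ ⁻¹ᵁ P₀ (E l)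
  have hκ : ∀ l, Set.range ((P l).ι ≫ κ) ⊆ Set.range (P₀ (E l)).ι := fun l => by
    rintro _ ⟨z, rfl⟩
    rw [Scheme.Opens.range_ι, Scheme.Hom.comp_apply]
    exact z.2
  let k : ∀ l, (P l : Scheme.{u}) ⟶ (P₀ (E l) : Scheme.{u}) := fun l =>
    IsOpenImmersion.lift (P₀ (E l)).ι ((P l).ι ≫ κ) (hκ l)
  have hk : ∀ l, k l ≫ (P₀ (E l)).ι = (P l).ι ≫ κ := fun l => IsOpenImmersion.lift_fac _ _ _
  let j : ∀ l, (P l : Scheme.{u}) ⟶ pullback (p l) (hl l) := fun l =>
    pullback.lift (k l) ((P l).ι ≫ bcFst f U ≫ q l) (by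
      simp only [p]
      rw [reassoc_of% hk l]
      simp only [Category.assoc]
      rw [pullback.lift_snd]
      exact congrArg (fun t => (P l).ι ≫ bcFst f U ≫ t) (hq₁ l).symm)
  have hcomm : ∀ l, (j l ≫ σl l ≫ pullback.fst (m l).left (r l)) ≫ (m l).left =
      (P l).ι ≫ ((EtCoh.bc f).map g).left := fun l => by
    rw [Category.assoc, Category.assoc, pullback.condition, reassoc_of% (hσe l), pullback.lift_fst_assoc]
    simp only [r]
    rw [reassoc_of% hk l, pullback.lift_fst]
  let σ : ∀ l, EtSite.sub ((EtCoh.bc f).obj U) (P l) ⟶ V l := fun l =>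
    MorphismProperty.Over.homMk (j l ≫ σl l ≫ pullback.fst (m l).left (r l)) (by
      rw [← MorphismProperty.Over.w (m l)]
      refine (Category.assoc _ _ _).symm.trans ((congrArg (· ≫ _) (hcomm l)).trans ?_)
      exact (Category.assoc _ _ _).trans (congrArg ((P l).ι ≫ ·)
        (MorphismProperty.Over.w ((EtCoh.bc f).map g))))
  refine ⟨U, g, u, P, σ, hgu, fun z => ?_, fun l => MorphismProperty.Over.Hom.ext (hcomm l), fun l => ?_⟩
  · obtain ⟨L, hL₁, hL₂⟩ := hpart (κ z)
    obtain ⟨l, rfl⟩ := hEs L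
    exact ⟨l, hL₁, fun l' hl' => hEi (hL₂ _ hl')⟩
  · let ul : Spec (CommRingCat.of Ω) ⟶ ((EtCoh.bc f).obj U).left := (liftAt f η u l).left
    have hul : ul ≫ κ = b₀ l := by
      refine pullback.hom_ext ?_ ?_
      · rw [Category.assoc, pullback.lift_fst, pullback.lift_fst]
        refine Eq.trans ?_ (congrArg (fun t : fib l.1 ((EtCoh.bc f).obj W) => t.left)
          ((liftAt_map f η g u l).trans (congrArg (fun t => liftAt f η t l) hgu)))
        rfl
      · rw [Category.assoc, pullback.lift_snd, pullback.lift_snd, ← Category.assoc]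
        exact (congrArg (· ≫ h) (liftAt_left_fst f η u l)).trans hū₁
    have hulP : pt ul ∈ P l := by
      show κ (pt ul) ∈ P₀ (E l)
      rw [← pt_comp, hul]
      exact hb₀ l
    let bl := liftOpen (P l) ul hulP
    refine ⟨Over.homMk bl ?_, Over.OverMorphism.ext (liftOpen_ι (P l) ul hulP), Over.OverMorphism.ext ?_⟩
    · change bl ≫ (P l).ι ≫ ((EtCoh.bc f).obj U).hom = l.1
      rw [← Category.assoc, liftOpen_ι]
      exact Over.w (liftAt f η u l)
    · change bl ≫ j l ≫ σl l ≫ pullback.fst (m l).left (r l) = (c l).left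
      have hd : (bl ≫ j l) ≫ pullback.snd (p l) (hl l) = ūl l := by
        rw [Category.assoc, pullback.lift_snd, ← Category.assoc, liftOpen_ι, ← Category.assoc]
        exact (congrArg (· ≫ q l) (liftAt_left_fst f η u l)).trans (hq₂ l)
      have h2 := hσc l (bl ≫ j l) hd
      calc bl ≫ j l ≫ σl l ≫ pullback.fst (m l).left (r l)
          = ((bl ≫ j l) ≫ σl l) ≫ pullback.fst (m l).left (r l) := by simp only [Category.assoc]
        _ = (c l).left := by rw [h2]; exact pullback.lift_fst _ _ _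

end

end Groth.Agent.EtStalk
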