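import Groth.Agent.Lib.EtStalk.FiniteSplit
import Mathlib.RingTheory.Smooth.NoetherianDescent
import Mathlib.AlgebraicGeometry.Morphisms.Integral
import Mathlib.Algebra.Category.Ring.Constructions

/-!
# Etale localisation of integral morphisms: clopen neighbourhoods, sections, separation
-/

universe u

open AlgebraicGeometry CategoryTheory Limits IsLocalRing
open Groth.Agent.Weight
open scoped TensorProduct

namespace Groth.Agent.IntegralSplit

/-- Etale affine schemes over an affine scheme integral over an affine base come from a finite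
scheme over the base, which may separate finitely many given functions. -/
theorem exists_descent {T U V : Scheme.{u}} [IsAffine U] [IsAffine V] (p : T ⟶ U) [IsIntegralHom p]
    (e : V ⟶ T) [Etale e] :
    ∃ (T₀ V₀ : Scheme.{u}) (π : T ⟶ T₀) (p₀ : T₀ ⟶ U) (π' : V ⟶ V₀) (e₀ : V₀ ⟶ T₀),
      IsFinite p₀ ∧ Etale e₀ ∧ π ≫ p₀ = p ∧ IsPullback π' e e₀ π := by
  haveI : IsAffine T := isAffine_of_isAffineHom p
  have hp : RingHom.IsIntegral p.appTop.hom :=
    ((HasAffineProperty.iff_of_isAffine (P := @IsIntegralHom)).1 ‹_›).2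
  have he : RingHom.Etale e.appTop.hom :=
    (HasRingHomProperty.iff_of_isAffine (P := @Etale)).1 ‹_›
  letI := p.appTop.hom.toAlgebra
  letI := e.appTop.hom.toAlgebra
  haveI : Algebra.IsIntegral Γ(U, ⊤) Γ(T, ⊤) := ⟨hp⟩
  haveI : Algebra.Etale Γ(T, ⊤) Γ(V, ⊤) := he
  obtain ⟨A, C₀, _, _, hA, hC₀, ⟨ε⟩⟩ :=
    Algebra.Etale.exists_subalgebra_fg Γ(U, ⊤) Γ(T, ⊤) Γ(V, ⊤)
  haveI : Algebra.FiniteType Γ(U, ⊤) A := (Subalgebra.fg_iff_finiteType A).1 hA
  haveI : Algebra.IsIntegral Γ(U, ⊤) A :=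
    Algebra.IsIntegral.of_injective A.val Subtype.val_injective
  haveI : Module.Finite Γ(U, ⊤) A := Algebra.IsIntegral.finite
  let π : T ⟶ Spec (CommRingCat.of A) :=
    T.isoSpec.hom ≫ Spec.map (CommRingCat.ofHom (algebraMap A Γ(T, ⊤)))
  let p₀ : Spec (CommRingCat.of A) ⟶ U :=
    Spec.map (CommRingCat.ofHom (algebraMap Γ(U, ⊤) A)) ≫ U.isoSpec.inv
  let e₀ : Spec (CommRingCat.of C₀) ⟶ Spec (CommRingCat.of A) :=
    Spec.map (CommRingCat.ofHom (algebraMap A C₀))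
  have hfin : IsFinite p₀ := by
    have : IsFinite (Spec.map (CommRingCat.ofHom (algebraMap Γ(U, ⊤) A))) :=
      (IsFinite.SpecMap_iff _).2 (RingHom.finite_algebraMap.2 inferInstance)
    infer_instance
  have het : Etale e₀ :=
    (HasRingHomProperty.Spec_iff (P := @Etale)).2 (RingHom.etale_algebraMap.2 hC₀)
  have hcomp : π ≫ p₀ = p := by
    have h1 : Spec.map (CommRingCat.ofHom (algebraMap A Γ(T, ⊤))) ≫
        Spec.map (CommRingCat.ofHom (algebraMap Γ(U, ⊤) A)) = Spec.map p.appTop := by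
      rw [← Spec.map_comp]
      rfl
    simp only [π, p₀, Category.assoc]
    rw [reassoc_of% h1, Scheme.isoSpec_hom_naturality_assoc, Iso.hom_inv_id, Category.comp_id]
  let i : V ≅ Spec (CommRingCat.of (Γ(T, ⊤) ⊗[A] C₀)) :=
    V.isoSpec ≪≫ (Scheme.Spec.mapIso ε.toRingEquiv.toCommRingCatIso.op).symm
  let π' : V ⟶ Spec (CommRingCat.of C₀) :=
    i.hom ≫ Spec.map (CommRingCat.ofHom Algebra.TensorProduct.includeRight.toRingHom)
  refine ⟨_, _, π, p₀, π', e₀, hfin, het, hcomp, ?_⟩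
  have hsq := isPullback_SpecMap_of_isPushout _ _ _ _
    (CommRingCat.isPushout_tensorProduct A Γ(T, ⊤) C₀)
  refine hsq.flip.of_iso i.symm (Iso.refl _) T.isoSpec.symm (Iso.refl _) ?_ ?_ ?_ ?_
  · simp only [π', Iso.symm_hom, Iso.refl_hom, Category.comp_id, Iso.inv_hom_id_assoc]
  · rw [Iso.symm_hom, Iso.symm_hom, Iso.comp_inv_eq, Category.assoc, Iso.eq_inv_comp]
    simp only [i, Iso.trans_hom, Iso.symm_hom, Category.assoc]
    rw [← Scheme.isoSpec_hom_naturality e]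
    congr 1
    change Spec.map _ ≫ Spec.map _ = Spec.map _
    rw [← Spec.map_comp]
    refine congrArg Spec.map (CommRingCat.hom_ext (RingHom.ext fun x => ?_))
    exact (congrArg ε.symm rfl).trans (ε.symm.commutes x)
  · simp only [e₀, Iso.refl_hom, Category.comp_id, Category.id_comp]
  · simp only [π, Iso.symm_hom, Iso.refl_hom, Category.comp_id, Iso.inv_hom_id_assoc]

variable {T U V : Scheme.{u}} (p : T ⟶ U) [IsIntegralHom p] {Ω : Type u} [Field Ω] [IsAlgClosed Ω]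

/-- Affine case of `exists_section`. -/
theorem exists_section_affine [IsAffine U] [IsAffine V] (a : Spec (CommRingCat.of Ω) ⟶ T)
    (e : V ⟶ T) [Etale e] (c : Spec (CommRingCat.of Ω) ⟶ V) (hc : c ≫ e = a) :
    ∃ (U' : Scheme.{u}) (h : U' ⟶ U) (ū : Spec (CommRingCat.of Ω) ⟶ U')
      (P : (pullback p h).Opens) (σ : (P : Scheme.{u}) ⟶ V)
      (a' : Spec (CommRingCat.of Ω) ⟶ (P : Scheme.{u})),
      Etale h ∧ ū ≫ h = a ≫ p ∧ IsClosed (P : Set (pullback p h : Scheme.{u})) ∧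
      σ ≫ e = P.ι ≫ pullback.fst p h ∧ a' ≫ P.ι ≫ pullback.fst p h = a ∧
      a' ≫ P.ι ≫ pullback.snd p h = ū ∧ a' ≫ σ = c := by
  obtain ⟨T₀, V₀, π, p₀, π', e₀, hfin, het, hcomp, sq⟩ := exists_descent p e
  let a₀ := a ≫ π
  have ha₀ : a₀ ≫ p₀ = a ≫ p := by simp only [a₀, Category.assoc, hcomp]
  obtain ⟨U₁, g, ū₁, P₁, hg, hū₁, hpart, hP₁⟩ := FiniteSplit.exists_parts p₀ (a ≫ p)
  let l : {b : Spec (CommRingCat.of Ω) ⟶ T₀ // b ≫ p₀ = a ≫ p} := ⟨a₀, ha₀⟩
  have hclosed : IsClosed (P₁ l : Set (pullback p₀ g : Scheme.{u})) := by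
    have h : (P₁ l : Set (pullback p₀ g : Scheme.{u}))ᶜ =
        ⋃ l' : {l' // l' ≠ l}, (P₁ l'.1 : Set (pullback p₀ g : Scheme.{u})) := by
      ext z
      obtain ⟨l₁, h₁, h₂⟩ := hpart z
      refine ⟨fun hz => Set.mem_iUnion.2 ⟨⟨l₁, fun (q : l₁ = l) => hz (q ▸ h₁)⟩, h₁⟩,
        fun h hz => ?_⟩
      obtain ⟨⟨l', hne⟩, hl'⟩ := Set.mem_iUnion.1 h
      exact hne ((h₂ l' hl').trans (h₂ l hz).symm)
    rw [← isOpen_compl_iff, h]
    exact isOpen_iUnion fun l' => (P₁ l'.1).2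
  haveI : IsClosedImmersion (P₁ l).ι :=
    IsClosedImmersion.of_isPreimmersion _ (by rw [Scheme.Opens.range_ι]; exact hclosed)
  let q := (P₁ l).ι ≫ pullback.snd p₀ g
  let b₀ : Spec (CommRingCat.of Ω) ⟶ pullback p₀ g := pullback.lift a₀ ū₁ (ha₀.trans hū₁.symm)
  have hb₀ : pt b₀ ∈ P₁ l := (hP₁ l b₀ (pullback.lift_snd _ _ _)).2 (pullback.lift_fst _ _ _)
  let a₁ := liftOpen _ b₀ hb₀
  have ha₁ : a₁ ≫ q = ū₁ := by
    simp only [q, a₁]
    rw [← Category.assoc, liftOpen_ι]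
    exact pullback.lift_snd _ _ _
  have huniq : ∀ b : Spec (CommRingCat.of Ω) ⟶ (P₁ l : Scheme.{u}), b ≫ q = a₁ ≫ q → b = a₁ := by
    intro b hb
    rw [ha₁] at hb
    have h2 : (b ≫ (P₁ l).ι) ≫ pullback.snd p₀ g = ū₁ := (Category.assoc _ _ _).trans hb
    rw [← cancel_mono (P₁ l).ι, liftOpen_ι]
    exact pullback.hom_ext (((hP₁ l _ h2).1 (b (closedPoint Ω)).2).trans (pullback.lift_fst _ _ _).symm)
      (h2.trans (pullback.lift_snd _ _ _).symm)
  let r := (P₁ l).ι ≫ pullback.fst p₀ g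
  let c₁ : Spec (CommRingCat.of Ω) ⟶ pullback e₀ r := pullback.lift (c ≫ π') a₁ (by
    simp only [r, a₁]
    rw [Category.assoc, sq.w, ← Category.assoc, hc, ← Category.assoc, liftOpen_ι, pullback.lift_fst])
  obtain ⟨U₂, h, ū₂, σ₂, hh, hū₂, hσe, hσc⟩ :=
    FiniteSplit.exists_section q a₁ huniq (pullback.snd e₀ r) c₁ (pullback.lift_snd _ _ _)
  let m : pullback p (h ≫ g) ⟶ pullback p₀ g :=
    pullback.lift (pullback.fst p _ ≫ π) (pullback.snd p _ ≫ h)
      (by rw [Category.assoc, hcomp, pullback.condition, Category.assoc])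
  have hm1 : m ≫ pullback.fst p₀ g = pullback.fst p _ ≫ π := pullback.lift_fst _ _ _
  have hm2 : m ≫ pullback.snd p₀ g = pullback.snd p _ ≫ h := pullback.lift_snd _ _ _
  let P := m ⁻¹ᵁ P₁ l
  have hr : Set.range (P.ι ≫ m) ⊆ Set.range (P₁ l).ι := by
    rintro _ ⟨z, rfl⟩
    rw [Scheme.Opens.range_ι, Scheme.Hom.comp_apply]
    exact z.2
  let k := IsOpenImmersion.lift (P₁ l).ι (P.ι ≫ m) hr
  have hk : k ≫ (P₁ l).ι = P.ι ≫ m := IsOpenImmersion.lift_fac _ _ _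
  let j : (P : Scheme.{u}) ⟶ pullback q h := pullback.lift k (P.ι ≫ pullback.snd p _) (by
    simp only [q]
    rw [reassoc_of% hk, hm2, Category.assoc])
  let σ : (P : Scheme.{u}) ⟶ V :=
    sq.lift (j ≫ σ₂ ≫ pullback.fst e₀ r) (P.ι ≫ pullback.fst p _) (by
      simp only [Category.assoc]
      rw [pullback.condition, reassoc_of% hσe]
      simp only [j, r, pullback.lift_fst_assoc]
      rw [reassoc_of% hk, hm1])
  have hū : ū₂ ≫ h ≫ g = a ≫ p := by rw [← Category.assoc, hū₂, ha₁, hū₁]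
  let b : Spec (CommRingCat.of Ω) ⟶ pullback p (h ≫ g) := pullback.lift a ū₂ hū.symm
  have hbm : b ≫ m = b₀ := by
    refine pullback.hom_ext ?_ ?_
    · rw [Category.assoc, hm1, pullback.lift_fst_assoc, pullback.lift_fst]
    · rw [Category.assoc, hm2, pullback.lift_snd_assoc, pullback.lift_snd, hū₂, ha₁]
  have hbP : pt b ∈ P := by
    show m (pt b) ∈ P₁ l
    rw [← pt_comp, hbm]
    exact hb₀
  refine ⟨U₂, h ≫ g, ū₂, P, σ, liftOpen P b hbP, inferInstance, hū, hclosed.preimage m.continuous,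
    sq.lift_snd _ _ _, ?_, ?_, ?_⟩
  · rw [← Category.assoc, liftOpen_ι, pullback.lift_fst]
  · rw [← Category.assoc, liftOpen_ι, pullback.lift_snd]
  · refine sq.hom_ext ?_ ?_
    · rw [Category.assoc, sq.lift_fst]
      have hj : (liftOpen P b hbP ≫ j) ≫ pullback.snd q h = ū₂ := by
        simp only [j]
        rw [Category.assoc, pullback.lift_snd, ← Category.assoc, liftOpen_ι, pullback.lift_snd]
      have h2 := hσc (liftOpen P b hbP ≫ j) hj
      calc liftOpen P b hbP ≫ j ≫ σ₂ ≫ pullback.fst e₀ r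
          = ((liftOpen P b hbP ≫ j) ≫ σ₂) ≫ pullback.fst e₀ r := by simp only [Category.assoc]
        _ = c ≫ π' := by rw [h2]; exact pullback.lift_fst _ _ _
    · rw [Category.assoc, sq.lift_snd, ← Category.assoc, liftOpen_ι, pullback.lift_fst, hc]

/-- An etale neighbourhood of a geometric point of an integral scheme has a section over a clopen
neighbourhood, after an etale localisation of the base. -/
theorem exists_section (a : Spec (CommRingCat.of Ω) ⟶ T)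
    (e : V ⟶ T) [Etale e] (c : Spec (CommRingCat.of Ω) ⟶ V) (hc : c ≫ e = a) :
    ∃ (U' : Scheme.{u}) (h : U' ⟶ U) (ū : Spec (CommRingCat.of Ω) ⟶ U')
      (P : (pullback p h).Opens) (σ : (P : Scheme.{u}) ⟶ V)
      (a' : Spec (CommRingCat.of Ω) ⟶ (P : Scheme.{u})),
      Etale h ∧ ū ≫ h = a ≫ p ∧ IsClosed (P : Set (pullback p h : Scheme.{u})) ∧
      σ ≫ e = P.ι ≫ pullback.fst p h ∧ a' ≫ P.ι ≫ pullback.fst p h = a ∧
      a' ≫ P.ι ≫ pullback.snd p h = ū ∧ a' ≫ σ = c := by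
  obtain ⟨_, ⟨(U₁ : U.Opens), hU₁, rfl⟩, hu, -⟩ :=
    U.isBasis_affineOpens.exists_subset_of_mem_open (Set.mem_univ (pt (a ≫ p))) isOpen_univ
  let T₁ := p ⁻¹ᵁ U₁
  have hcT : pt c ∈ e ⁻¹ᵁ T₁ := by
    show p (e (pt c)) ∈ U₁
    rw [← pt_comp, hc, ← pt_comp]
    exact hu
  obtain ⟨_, ⟨(V₁ : V.Opens), hV₁, rfl⟩, hv, hle⟩ :=
    V.isBasis_affineOpens.exists_subset_of_mem_open hcT (e ⁻¹ᵁ T₁).2
  haveI : IsAffine (U₁ : Scheme.{u}) := hU₁
  haveI : IsAffine (V₁ : Scheme.{u}) := hV₁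
  have hav : pt a ∈ T₁ := by
    show p (pt a) ∈ U₁
    rw [← pt_comp]
    exact hu
  let e₁ : (V₁ : Scheme.{u}) ⟶ (T₁ : Scheme.{u}) := e.resLE T₁ V₁ hle
  have he₁ι : e₁ ≫ T₁.ι = V₁.ι ≫ e := Scheme.Hom.resLE_comp_ι _ _
  haveI : Etale e₁ := by
    have : Etale (e₁ ≫ T₁.ι) := by rw [he₁ι]; infer_instance
    exact Etale.of_comp e₁ T₁.ι
  let a₁ := liftOpen T₁ a hav
  let c₁ := liftOpen V₁ c hv
  have hc₁ : c₁ ≫ e₁ = a₁ := by
    rw [← cancel_mono T₁.ι, Category.assoc, he₁ι, ← Category.assoc, liftOpen_ι, hc, liftOpen_ι]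
  obtain ⟨U', h, ū, P, σ, a', hh, hū, hcl, hσ, h1, h2, h3⟩ :=
    exists_section_affine (p ∣_ U₁) a₁ e₁ c₁ hc₁
  have hr : Set.range (pullback.fst p (h ≫ U₁.ι)) ⊆ Set.range T₁.ι := by
    rintro _ ⟨z, rfl⟩
    rw [Scheme.Opens.range_ι]
    show p (pullback.fst p (h ≫ U₁.ι) z) ∈ U₁
    rw [← Scheme.Hom.comp_apply, pullback.condition, Scheme.Hom.comp_apply, Scheme.Hom.comp_apply]
    exact (h _).2
  let k := IsOpenImmersion.lift T₁.ι (pullback.fst p (h ≫ U₁.ι)) hr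
  have hk : k ≫ T₁.ι = pullback.fst p (h ≫ U₁.ι) := IsOpenImmersion.lift_fac _ _ _
  let m : pullback p (h ≫ U₁.ι) ⟶ pullback (p ∣_ U₁) h :=
    pullback.lift k (pullback.snd p _) (by
      rw [← cancel_mono U₁.ι, Category.assoc, morphismRestrict_ι, reassoc_of% hk,
        pullback.condition, Category.assoc])
  have hm1 : m ≫ pullback.fst (p ∣_ U₁) h = k := pullback.lift_fst _ _ _
  have hm2 : m ≫ pullback.snd (p ∣_ U₁) h = pullback.snd p _ := pullback.lift_snd _ _ _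
  have hū' : ū ≫ h ≫ U₁.ι = a ≫ p := by
    rw [← Category.assoc, hū, Category.assoc, morphismRestrict_ι, ← Category.assoc, liftOpen_ι]
  let b : Spec (CommRingCat.of Ω) ⟶ pullback p (h ≫ U₁.ι) := pullback.lift a ū hū'.symm
  have hbm : b ≫ m = a' ≫ P.ι := by
    refine pullback.hom_ext ?_ ?_
    · rw [Category.assoc, hm1, Category.assoc, h1, ← cancel_mono T₁.ι, Category.assoc, hk,
        pullback.lift_fst, liftOpen_ι]
    · rw [Category.assoc, hm2, Category.assoc, h2, pullback.lift_snd]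
  have hbP : pt b ∈ m ⁻¹ᵁ P := by
    show m (pt b) ∈ P
    rw [← pt_comp, hbm]
    exact (a' (closedPoint Ω)).2
  let j : ((m ⁻¹ᵁ P : (pullback p (h ≫ U₁.ι)).Opens) : Scheme.{u}) ⟶ (P : Scheme.{u}) := m ∣_ P
  refine ⟨U', h ≫ U₁.ι, ū, m ⁻¹ᵁ P, j ≫ σ ≫ V₁.ι, liftOpen _ b hbP, inferInstance, hū',
    hcl.preimage m.continuous, ?_, ?_, ?_, ?_⟩
  · simp only [Category.assoc]
    rw [← he₁ι, reassoc_of% hσ]
    simp only [j]
    rw [morphismRestrict_ι_assoc, reassoc_of% hm1, hk]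
  · rw [← Category.assoc, liftOpen_ι, pullback.lift_fst]
  · rw [← Category.assoc, liftOpen_ι, pullback.lift_snd]
  · have : liftOpen _ b hbP ≫ j = a' := by
      rw [← cancel_mono P.ι, Category.assoc]
      simp only [j]
      rw [morphismRestrict_ι, ← Category.assoc, liftOpen_ι, hbm]
    rw [reassoc_of% this, reassoc_of% h3, liftOpen_ι]

/-- Distinct geometric points with the same image are separated by a clopen set, after an etale
localisation of the base. -/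
theorem exists_separation (a b : Spec (CommRingCat.of Ω) ⟶ T) (hab : a ≫ p = b ≫ p) (hne : a ≠ b) :
    ∃ (U' : Scheme.{u}) (h : U' ⟶ U) (ū : Spec (CommRingCat.of Ω) ⟶ U')
      (P : (pullback p h).Opens) (a' b' : Spec (CommRingCat.of Ω) ⟶ pullback p h),
      Etale h ∧ ū ≫ h = a ≫ p ∧ IsClosed (P : Set (pullback p h : Scheme.{u})) ∧
      a' ≫ pullback.fst p h = a ∧ a' ≫ pullback.snd p h = ū ∧
      b' ≫ pullback.fst p h = b ∧ b' ≫ pullback.snd p h = ū ∧
      pt a' ∈ P ∧ pt b' ∉ P := by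
  obtain ⟨_, ⟨(U₁ : U.Opens), hU₁, rfl⟩, hu, -⟩ :=
    U.isBasis_affineOpens.exists_subset_of_mem_open (Set.mem_univ (pt (a ≫ p))) isOpen_univ
  let T₁ := p ⁻¹ᵁ U₁
  haveI : IsAffine (U₁ : Scheme.{u}) := hU₁
  haveI : IsAffine (T₁ : Scheme.{u}) := isAffine_of_isAffineHom (p ∣_ U₁)
  have hav : pt a ∈ T₁ := by
    show p (pt a) ∈ U₁
    rw [← pt_comp]
    exact hu
  have hbv : pt b ∈ T₁ := by
    show p (pt b) ∈ U₁
    rw [← pt_comp, ← hab]
    exact hu
  let α := Spec.preimage (liftOpen T₁ a hav ≫ (T₁ : Scheme.{u}).isoSpec.hom)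
  let β := Spec.preimage (liftOpen T₁ b hbv ≫ (T₁ : Scheme.{u}).isoSpec.hom)
  have hαβ : α ≠ β := fun h => hne (by
    have h2 := congrArg Spec.map h
    simp only [α, β, Spec.map_preimage, cancel_mono] at h2
    rw [← liftOpen_ι T₁ a hav, h2, liftOpen_ι])
  obtain ⟨x, hx⟩ : ∃ x, α x ≠ β x := by
    by_contra h
    push Not at h
    exact hαβ (CommRingCat.hom_ext (RingHom.ext h))
  have hp : RingHom.IsIntegral (p ∣_ U₁).appTop.hom :=
    ((HasAffineProperty.iff_of_isAffine (P := @IsIntegralHom)).1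
      (inferInstanceAs (IsIntegralHom (p ∣_ U₁)))).2
  letI := (p ∣_ U₁).appTop.hom.toAlgebra
  let A : Subalgebra Γ((U₁ : Scheme.{u}), ⊤) Γ((T₁ : Scheme.{u}), ⊤) := Algebra.adjoin _ {x}
  haveI : Module.Finite Γ((U₁ : Scheme.{u}), ⊤) A :=
    Algebra.finite_adjoin_simple_of_isIntegral (hp x)
  let π : (T₁ : Scheme.{u}) ⟶ Spec (CommRingCat.of A) :=
    (T₁ : Scheme.{u}).isoSpec.hom ≫ Spec.map (CommRingCat.ofHom (algebraMap A Γ((T₁ : Scheme.{u}), ⊤)))
  let p₀ : Spec (CommRingCat.of A) ⟶ U₁ :=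
    Spec.map (CommRingCat.ofHom (algebraMap Γ((U₁ : Scheme.{u}), ⊤) A)) ≫
      (U₁ : Scheme.{u}).isoSpec.inv
  haveI : IsFinite p₀ := by
    have : IsFinite (Spec.map (CommRingCat.ofHom (algebraMap Γ((U₁ : Scheme.{u}), ⊤) A))) :=
      (IsFinite.SpecMap_iff _).2 (RingHom.finite_algebraMap.2 inferInstance)
    infer_instance
  have hcomp : π ≫ p₀ = p ∣_ U₁ := by
    have h1 : Spec.map (CommRingCat.ofHom (algebraMap A Γ((T₁ : Scheme.{u}), ⊤))) ≫
        Spec.map (CommRingCat.ofHom (algebraMap Γ((U₁ : Scheme.{u}), ⊤) A)) =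
        Spec.map (p ∣_ U₁).appTop := by
      rw [← Spec.map_comp]
      rfl
    simp only [π, p₀, Category.assoc]
    refine (congrArg ((T₁ : Scheme.{u}).isoSpec.hom ≫ ·)
      ((Category.assoc _ _ _).symm.trans (congrArg (· ≫ _) h1))).trans ?_
    exact (Scheme.isoSpec_hom_naturality_assoc (p ∣_ U₁) _).trans
      ((congrArg (_ ≫ ·) (U₁ : Scheme.{u}).isoSpec.hom_inv_id).trans (Category.comp_id _))
  let η := liftOpen T₁ a hav ≫ p ∣_ U₁
  have hη : η ≫ U₁.ι = a ≫ p := by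
    rw [Category.assoc, morphismRestrict_ι, ← Category.assoc, liftOpen_ι]
  have hηb : liftOpen T₁ b hbv ≫ p ∣_ U₁ = η := by
    rw [← cancel_mono U₁.ι, hη, Category.assoc, morphismRestrict_ι, ← Category.assoc, liftOpen_ι, hab]
  obtain ⟨U', g, ū, P₁, hg, hū, hpart, hP₁⟩ := FiniteSplit.exists_parts p₀ η
  let la : {c : Spec (CommRingCat.of Ω) ⟶ Spec (CommRingCat.of A) // c ≫ p₀ = η} :=
    ⟨liftOpen T₁ a hav ≫ π, by rw [Category.assoc, hcomp]⟩
  let lb : {c : Spec (CommRingCat.of Ω) ⟶ Spec (CommRingCat.of A) // c ≫ p₀ = η} :=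
    ⟨liftOpen T₁ b hbv ≫ π, by rw [Category.assoc, hcomp, hηb]⟩
  have hlab : la ≠ lb := fun h => hx (by
    have h2 : Spec.map α ≫ Spec.map (CommRingCat.ofHom (algebraMap A Γ((T₁ : Scheme.{u}), ⊤))) =
        Spec.map β ≫ Spec.map (CommRingCat.ofHom (algebraMap A Γ((T₁ : Scheme.{u}), ⊤))) := by
      simp only [α, β, Spec.map_preimage, Category.assoc]
      exact congrArg Subtype.val h
    rw [← Spec.map_comp, ← Spec.map_comp] at h2
    exact congrArg (fun t => t (⟨x, Algebra.self_mem_adjoin_singleton _ x⟩ : A))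
      (Spec.map_injective h2))
  have hr : Set.range (pullback.fst p (g ≫ U₁.ι)) ⊆ Set.range T₁.ι := by
    rintro _ ⟨z, rfl⟩
    rw [Scheme.Opens.range_ι]
    show p (pullback.fst p (g ≫ U₁.ι) z) ∈ U₁
    rw [← Scheme.Hom.comp_apply, pullback.condition, Scheme.Hom.comp_apply, Scheme.Hom.comp_apply]
    exact (g _).2
  let k := IsOpenImmersion.lift T₁.ι (pullback.fst p (g ≫ U₁.ι)) hr
  have hk : k ≫ T₁.ι = pullback.fst p (g ≫ U₁.ι) := IsOpenImmersion.lift_fac _ _ _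
  let m : pullback p (g ≫ U₁.ι) ⟶ pullback p₀ g :=
    pullback.lift (k ≫ π) (pullback.snd p _) (by
      rw [Category.assoc, hcomp, ← cancel_mono U₁.ι, Category.assoc, morphismRestrict_ι,
        reassoc_of% hk, pullback.condition, Category.assoc])
  have hū' : ū ≫ g ≫ U₁.ι = a ≫ p := by rw [← Category.assoc, hū, hη]
  let a' : Spec (CommRingCat.of Ω) ⟶ pullback p (g ≫ U₁.ι) := pullback.lift a ū hū'.symm
  let b' : Spec (CommRingCat.of Ω) ⟶ pullback p (g ≫ U₁.ι) :=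
    pullback.lift b ū (hab.symm.trans hū'.symm)
  have hka : a' ≫ k = liftOpen T₁ a hav := by
    rw [← cancel_mono T₁.ι, Category.assoc, hk, pullback.lift_fst, liftOpen_ι]
  have hkb : b' ≫ k = liftOpen T₁ b hbv := by
    rw [← cancel_mono T₁.ι, Category.assoc, hk, pullback.lift_fst, liftOpen_ι]
  have hma : ∀ c : Spec (CommRingCat.of Ω) ⟶ pullback p (g ≫ U₁.ι), c ≫ pullback.snd p _ = ū →
      ∀ l, (pt c ∈ m ⁻¹ᵁ P₁ l ↔ c ≫ k ≫ π = l.1) := fun c hc l => by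
    have := hP₁ l (c ≫ m) (by rw [Category.assoc, pullback.lift_snd, hc])
    rw [Category.assoc, pullback.lift_fst, pt_comp] at this
    exact this
  have hclosed : IsClosed (P₁ la : Set (pullback p₀ g : Scheme.{u})) := by
    have h : (P₁ la : Set (pullback p₀ g : Scheme.{u}))ᶜ =
        ⋃ l' : {l' // l' ≠ la}, (P₁ l'.1 : Set (pullback p₀ g : Scheme.{u})) := by
      ext z
      obtain ⟨l₁, h₁, h₂⟩ := hpart z
      refine ⟨fun hz => Set.mem_iUnion.2 ⟨⟨l₁, fun (q : l₁ = la) => hz (q ▸ h₁)⟩, h₁⟩,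
        fun h hz => ?_⟩
      obtain ⟨⟨l', hne⟩, hl'⟩ := Set.mem_iUnion.1 h
      exact hne ((h₂ l' hl').trans (h₂ la hz).symm)
    rw [← isOpen_compl_iff, h]
    exact isOpen_iUnion fun l' => (P₁ l'.1).2
  refine ⟨U', g ≫ U₁.ι, ū, m ⁻¹ᵁ P₁ la, a', b', inferInstance, hū', hclosed.preimage m.continuous,
    pullback.lift_fst _ _ _, pullback.lift_snd _ _ _, pullback.lift_fst _ _ _,
    pullback.lift_snd _ _ _, ?_, ?_⟩
  · rw [hma a' (pullback.lift_snd _ _ _), ← Category.assoc, hka]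
  · rw [hma b' (pullback.lift_snd _ _ _), ← Category.assoc, hkb]
    exact fun h => hlab (Subtype.ext h.symm)

omit U V in
/-- Every point of a scheme integral over an algebraically closed field is rational. -/
theorem exists_rational (q : T ⟶ Spec (CommRingCat.of Ω)) [IsIntegralHom q] (z : T) :
    ∃ a : Spec (CommRingCat.of Ω) ⟶ T, a ≫ q = 𝟙 _ ∧ pt a = z := by
  haveI : IsAffine T := isAffine_of_isAffineHom q
  have hq : RingHom.IsIntegral q.appTop.hom :=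
    ((HasAffineProperty.iff_of_isAffine (P := @IsIntegralHom)).1 ‹_›).2
  let φ : CommRingCat.of Ω ⟶ Γ(T, ⊤) := (Scheme.ΓSpecIso (CommRingCat.of Ω)).inv ≫ q.appTop
  have hφ : RingHom.IsIntegral φ.hom :=
    RingHom.IsIntegral.trans _ _ (RingHom.isIntegral_of_surjective _
      (ConcreteCategory.bijective_of_isIso (Scheme.ΓSpecIso (CommRingCat.of Ω)).inv).2) hq
  let 𝔭 := (T.isoSpec.hom z).asIdeal
  letI := φ.hom.toAlgebra
  haveI : Algebra.IsIntegral Ω Γ(T, ⊤) := ⟨hφ⟩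
  haveI : Algebra.IsIntegral Ω (Γ(T, ⊤) ⧸ 𝔭) := Algebra.IsIntegral.of_surjective
    (Ideal.Quotient.mkₐ Ω 𝔭) Ideal.Quotient.mk_surjective
  have hbij : Function.Bijective (algebraMap Ω (Γ(T, ⊤) ⧸ 𝔭)) :=
    ⟨RingHom.injective _, IsAlgClosed.algebraMap_bijective_of_isIntegral.2⟩
  let ε := RingEquiv.ofBijective _ hbij
  let χ : Γ(T, ⊤) ⟶ CommRingCat.of Ω :=
    CommRingCat.ofHom (ε.symm.toRingHom.comp (Ideal.Quotient.mk 𝔭))
  refine ⟨Spec.map χ ≫ T.isoSpec.inv, ?_, ?_⟩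
  · have h1 : T.isoSpec.inv ≫ q = Spec.map φ := by
      rw [Iso.inv_comp_eq, Spec.map_comp, Scheme.isoSpec_hom_naturality_assoc,
        Scheme.isoSpec_Spec_hom, ← Spec.map_comp, Iso.inv_hom_id, Spec.map_id, Category.comp_id]
    rw [Category.assoc, h1, ← Spec.map_comp, ← Spec.map_id]
    refine congrArg Spec.map (CommRingCat.hom_ext (RingHom.ext fun x => ?_))
    exact ε.symm_apply_apply x
  · have h1 : pt (Spec.map χ) = T.isoSpec.hom z := by
      refine PrimeSpectrum.ext (SetLike.ext fun x => ?_)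
      change χ.hom x ∈ IsLocalRing.maximalIdeal Ω ↔ x ∈ 𝔭
      simp [χ, IsLocalRing.maximalIdeal_eq_bot, Ideal.Quotient.eq_zero_iff_mem]
    rw [pt_comp, h1, ← Scheme.Hom.comp_apply, Iso.hom_inv_id]
    rfl

end Groth.Agent.IntegralSplit
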